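import Cfsg.Agent.OddCyclic.NatNonab.Small
import Cfsg.Agent.OddCyclic.UniTame

/-!
# `(5*)`: natural `SL₂(q)`-lines, `q ≥ 4`, have abelian point-closures
-/

set_option autoImplicit false
set_option linter.dupNamespace false
set_option linter.unusedSectionVars false

namespace Cfsg.Agent.OddCyclic.NatNonab

open Subgroup Cfsg Cfsg.Agent.ZN Cfsg.Agent.MinSimple.Geo
open Cfsg.Agent.OddCyclic.T1Defs (OddCyc)
open Cfsg.Agent.OddCyclic.UniStruct (Tame TameSec)
open Cfsg.Agent.OddCyclic.PumpMain (KZero)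
open Cfsg.Agent.OddCyclic.KZeroCongr (KS kZero_congr)
open Cfsg.Agent.SignalizersComponents.Components

universe u

theorem tame_of_kZero {K : Type*} [Group K] [Finite K] (h : KZero K) : Tame K := by
  rcases h with ⟨F, iF, iF', -, -, ⟨e⟩⟩ | ⟨F, iF, iF', -, -, -, ⟨e⟩⟩ | h | ⟨h, hk⟩
  · exact Tame.congr e.symm (UniStruct.tame_psl_two F)
  · exact Tame.congr e.symm (UniStruct.tame_psl_two F)
  · exact UniStruct.tame_suzuki h
  · exact UniStruct.tame_of_local h hk

variable {G : Type u} [Group G] [Finite G]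

theorem tameSec_of_KS (hK : KS G) {M : Subgroup G} (hM : M ≠ ⊤) : TameSec M := by
  intro A N hN hs hab
  let A' : Subgroup G := A.map M.subtype
  have hA' : A' ≠ ⊤ := by
    intro e
    apply hM
    rw [eq_top_iff, ← e]
    rintro _ ⟨x, -, rfl⟩
    exact x.2
  let e₀ : A ≃* A' := A.equivMapOfInjective M.subtype M.subtype_injective
  let ψ : A' →* A ⧸ N := (QuotientGroup.mk' N).comp e₀.symm.toMonoidHom
  have hψ : Function.Surjective ψ := (QuotientGroup.mk'_surjective N).comp e₀.symm.surjective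
  exact tame_of_kZero (hK.of_surj hA' hs hab ψ hψ)

theorem kZero_component (hK : KS G) {M : Subgroup G} (hM : M ≠ ⊤) {X : Type u} [Group X] [Finite X] (π : M →* X)
    (hπ : Function.Surjective π) (h2 : pCore 2 X = ⊥) (ho : OddCyc X) {L : Subgroup X} (hL : IsComponent L) :
    KZero L := by
  have h1 := hK.comps hM π hπ hL.2
  have h3 := UniStruct.center_eq_bot h2 ho hL
  let e : L ⧸ center L ≃* L := (QuotientGroup.quotientMulEquivOfEq h3).trans QuotientGroup.quotientBot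
  exact kZero_congr e h1

variable {F : Type} [Field F] [Fintype F] [CharP F 2] {S V Z₁ Z₂ : Subgroup G} {a b : F → G}

/-- **(5*)** -/
theorem NN.false (h : NN S V Z₁ Z₂ a b) (hK : KS G) (hZ : normalizer (Z₁ : Set G) ≠ ⊤) : False := by
  obtain ⟨S', X₁, X₂, i₁, i₂, p₁, p₂, φ, ψ, hph⟩ := h.exists_Ph
  obtain ⟨ρ₁, ρ₂, l, τ, ht⟩ := hph.exists_tau
  have hMt : mm Z₁ τ ≠ ⊤ := fun e => hZ (top_le_iff.mp (e ▸ ht.mm_le))
  have hn := ht.kk_normal
  let π : mm Z₁ τ →* mm Z₁ τ ⧸ (kk V Z₁).subgroupOf (mm Z₁ τ) := QuotientGroup.mk' _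
  have hπ : Function.Surjective π := QuotientGroup.mk'_surjective _
  have hker : ∀ g : mm Z₁ τ, π g = 1 ↔ (g : G) ∈ kk V Z₁ := fun g => by
    change ((g : mm Z₁ τ) : mm Z₁ τ ⧸ (kk V Z₁).subgroupOf (mm Z₁ τ)) = 1 ↔ _
    rw [QuotientGroup.eq_one_iff]
    exact mem_subgroupOf
  have ho : OddCyc (mm Z₁ τ ⧸ (kk V Z₁).subgroupOf (mm Z₁ τ)) :=
    CompBasic.oddCyc_quotient (CompBasic.oddCyc_subgroup h.cyc _) _
  have hts : TameSec (mm Z₁ τ ⧸ (kk V Z₁).subgroupOf (mm Z₁ τ)) := (tameSec_of_KS hK hMt).quot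
  have h2 := ht.pCore_eq π hπ hker
  have hKL : ∀ L : Subgroup (mm Z₁ τ ⧸ (kk V Z₁).subgroupOf (mm Z₁ τ)), IsComponent L → KZero L := fun L hL =>
    kZero_component hK hMt π hπ h2 ho hL
  rcases Nat.lt_or_ge 4 (Fintype.card F) with h8 | h4
  · exact ht.big h8 π hπ hker ho hts hKL
  · exact ht.small (le_antisymm h4 h.four) π hπ hker ho hts hKL

end Cfsg.Agent.OddCyclic.NatNonab
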