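import Cfsg.Agent.OddCyclic.NatNonab.Ti
import Cfsg.Agent.OddCyclic.UniStruct

/-!
# `(5*)`, (1.9): a group `H = C⟨t⟩` with `O₂(H) = 1` and a `t`-invariant elementary abelian subgroup `A ≤ C` on which
`⟨t⟩` acts fixed-point-freely
-/

set_option autoImplicit false
set_option linter.dupNamespace false
set_option linter.unusedSectionVars false

namespace Cfsg.Agent.OddCyclic.NatNonab

open Subgroup Cfsg Cfsg.Agent.ZN Cfsg.Agent.MinSimple.Geo
open Cfsg.Agent.OddCyclic.T1Defs (OddCyc)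
open Cfsg.Agent.OddCyclic.Zass (IsZT)
open Cfsg.Agent.OddCyclic.UniStruct (TameSec)
open Cfsg.Agent.SignalizersComponents.Components
open Cfsg.Agent.ZN.Block (conj_mem_of_normalizer conj_mem_of_normalizer' le_normalizer_of_forall
  mem_normalizer_of)

variable {H : Type*} [Group H] [Finite H]

structure Ab (C A : Subgroup H) (t : H) : Prop where
  oc : OddCyc H
  o2 : pCore 2 H = ⊥
  ts : TameSec H
  normal : C.Normal
  top : ∀ h, ∃ c ∈ C, ∃ k ∈ zpowers t, h = c * k
  co : Nat.Coprime (Nat.card C) (orderOf t)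
  odd : Odd (orderOf t)
  ne : t ≠ 1
  A_le : A ≤ C
  comm : ∀ a ∈ A, ∀ b ∈ A, a * b = b * a
  sq : ∀ a ∈ A, a * a = 1
  A_ne : A ≠ ⊥
  tA : ∀ a ∈ A, t * a * t⁻¹ ∈ A
  fpf : ∀ k : ℕ, t ^ k ≠ 1 → ∀ a ∈ A, t ^ k * a * (t ^ k)⁻¹ = a → a = 1

theorem mem_normalizer_of_conj {A : Subgroup H} {t : H} (h : ∀ a ∈ A, t * a * t⁻¹ ∈ A) :
    t ∈ normalizer (A : Set H) := by
  rw [mem_normalizer_iff_cj]
  refine eq_of_le_of_card_ge ?_ (by rw [card_cj])
  intro x hx
  have h1 := h _ (mem_cj.mp hx)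
  have e : t * (t⁻¹ * x * t) * t⁻¹ = x := by group
  rwa [e] at h1

theorem odd_fitting (h2 : pCore 2 H = ⊥) : Odd (Nat.card (fittingSubgroup H)) := by
  have : Fact (Nat.Prime 2) := ⟨Nat.prime_two⟩
  rw [← Nat.not_even_iff_odd]
  intro he
  obtain ⟨x, hx⟩ := exists_prime_orderOf_dvd_card' (G := fittingSubgroup H) 2 (even_iff_two_dvd.mp he)
  have h1 : (x : H) ∈ pCore 2 H := by
    refine Cfsg.Agent.Lib.GenFitting.mem_pCore_of_mem_fitting x.2 (k := 1) ?_
    have h3 := pow_orderOf_eq_one x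
    rw [hx] at h3
    rw [pow_one]
    exact congrArg Subtype.val h3
  rw [h2, Subgroup.mem_bot] at h1
  have h3 : x = 1 := Subtype.ext h1
  rw [h3, orderOf_one] at hx
  exact absurd hx (by norm_num)

namespace Ab

variable {C A : Subgroup H} {t : H}

theorem pow_A (h : Ab C A t) (k : ℕ) {a : H} (ha : a ∈ A) : t ^ k * a * (t ^ k)⁻¹ ∈ A := by
  have h1 : t ∈ normalizer (A : Set H) := mem_normalizer_of_conj h.tA
  exact conj_mem_of_normalizer le_rfl (pow_mem h1 k) ha

theorem inv_A (h : Ab C A t) {a : H} (ha : a ∈ A) : a⁻¹ = a := inv_eq_of_mul_eq_one_left (h.sq a ha)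

/-- `A = [A, t ^ k]` -/
theorem exists_comm_eq (h : Ab C A t) {k : ℕ} (hk : t ^ k ≠ 1) {a : H} (ha : a ∈ A) :
    ∃ b ∈ A, a = t ^ k * b * (t ^ k)⁻¹ * b⁻¹ := by
  let f : A → A := fun b => ⟨t ^ k * b * (t ^ k)⁻¹ * (b : H)⁻¹, mul_mem (h.pow_A k b.2) (inv_mem b.2)⟩
  have hf : Function.Injective f := by
    intro b c e
    have e1 : t ^ k * b * (t ^ k)⁻¹ * (b : H)⁻¹ = t ^ k * c * (t ^ k)⁻¹ * (c : H)⁻¹ := congrArg Subtype.val e
    have h1 : t ^ k * ((c : H)⁻¹ * b) * (t ^ k)⁻¹ = (c : H)⁻¹ * b := by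
      have h2 := h.pow_A k b.2
      have h3 := h.pow_A k c.2
      have h4 := h.comm _ (inv_mem h3) _ h2
      have h5 := h.comm _ (inv_mem c.2) _ b.2
      calc t ^ k * ((c : H)⁻¹ * b) * (t ^ k)⁻¹ = (t ^ k * c * (t ^ k)⁻¹)⁻¹ * (t ^ k * b * (t ^ k)⁻¹ * (b : H)⁻¹) * b := by
            group
        _ = (t ^ k * c * (t ^ k)⁻¹)⁻¹ * (t ^ k * c * (t ^ k)⁻¹ * (c : H)⁻¹) * b := by rw [e1]
        _ = (c : H)⁻¹ * b := by group
    have h6 := h.fpf k hk _ (mul_mem (inv_mem c.2) b.2) h1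
    rw [inv_mul_eq_one] at h6
    exact Subtype.ext h6.symm
  obtain ⟨b, hb⟩ := (Finite.injective_iff_surjective.mp hf) ⟨a, ha⟩
  exact ⟨b, b.2, (congrArg Subtype.val hb).symm⟩

theorem t_pow_one (h : Ab C A t) : t ^ 1 ≠ 1 := by rw [pow_one]; exact h.ne

/-- an element of order a power of 2 of `F*(H)` lies in the layer -/
theorem mem_layer_of (h2 : pCore 2 H = ⊥) {x : H} (hx : x ∈ generalizedFittingSubgroup H)
    (hxx : x * x = 1) : x ∈ layer H := by
  have hFn : (fittingSubgroup H).Normal := Lib.Cores.fittingSubgroup_normal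
  have hLn := layer_normal (G := H)
  rw [generalizedFittingSubgroup, Subgroup.mem_sup_of_normal_left] at hx
  obtain ⟨e, he, f, hf, rfl⟩ := hx
  have hef : e * f = f * e := (mem_centralizer_iff.1 (layer_le_centralizer_fitting he) f hf).symm
  have h3 : f * f ∈ layer H := by
    have h4 : (e * e) * (f * f) = 1 := by
      calc (e * e) * (f * f) = e * (e * f) * f := by group
        _ = e * (f * e) * f := by rw [hef]
        _ = e * f * (e * f) := by group
        _ = 1 := hxx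
    rw [eq_inv_of_mul_eq_one_right h4]
    exact inv_mem (mul_mem he he)
  have h5 : Odd (orderOf f) := by
    have h6 := odd_fitting h2
    exact Odd.of_dvd_nat h6 ((fittingSubgroup H).orderOf_dvd_natCard hf)
  have h7 : f ∈ layer H := by
    obtain ⟨j, hj⟩ := h5
    have h8 : f = (f * f) ^ (j + 1) := by
      rw [← pow_two, ← pow_mul]
      have e2 : 2 * (j + 1) = (2 * j + 1) + 1 := by ring
      rw [e2, ← hj, pow_succ, pow_orderOf_eq_one, one_mul]
    rw [h8]
    exact pow_mem h3 _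
  exact mul_mem he h7

theorem A_le_layer (h : Ab C A t) : A ≤ layer H := by
  intro a ha
  obtain ⟨b, hb, e⟩ := h.exists_comm_eq h.t_pow_one ha
  refine mem_layer_of h.o2 ?_ (h.sq a ha)
  have h1 := UniStruct.comm_mem h.o2 h.oc h.ts t (s := b) ⟨1, by rw [pow_one, pow_two]; exact h.sq b hb⟩
  rw [e, pow_one]
  exact h1

/-- an involution of `C_H(F*(H))` is trivial -/
theorem eq_one_of_central (h2 : pCore 2 H = ⊥) {x : H}
    (hx : x ∈ centralizer (generalizedFittingSubgroup H : Set H)) (hxx : x * x = 1) : x = 1 := by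
  have hle := Lib.GenFitting.centralizer_genFitting_le (G := H)
  have hab : ∀ a ∈ centralizer (generalizedFittingSubgroup H : Set H),
      ∀ b ∈ centralizer (generalizedFittingSubgroup H : Set H), a * b = b * a := by
    intro a ha b hb
    exact mem_centralizer_iff.mp hb _ (hle ha)
  let N : Subgroup H :=
    { carrier := {a | a ∈ centralizer (generalizedFittingSubgroup H : Set H) ∧ a * a = 1}
      mul_mem' := by
        rintro a b ⟨ha, ha2⟩ ⟨hb, hb2⟩
        refine ⟨mul_mem ha hb, ?_⟩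
        calc a * b * (a * b) = a * (b * a) * b := by group
          _ = a * (a * b) * b := by rw [hab b hb a ha]
          _ = (a * a) * (b * b) := by group
          _ = 1 := by rw [ha2, hb2, one_mul]
      one_mem' := ⟨one_mem _, one_mul 1⟩
      inv_mem' := by
        rintro a ⟨ha, ha2⟩
        refine ⟨inv_mem ha, ?_⟩
        rw [← mul_inv_rev, ha2, inv_one] }
  have hFn : (fittingSubgroup H).Normal := Lib.Cores.fittingSubgroup_normal
  have hLn := layer_normal (G := H)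
  have hGn : (generalizedFittingSubgroup H).Normal := by
    rw [generalizedFittingSubgroup]; infer_instance
  have hCn : (centralizer (generalizedFittingSubgroup H : Set H)).Normal := inferInstance
  have hN : N.Normal := by
    refine ⟨fun a ha g => ⟨hCn.conj_mem a ha.1 g, ?_⟩⟩
    calc g * a * g⁻¹ * (g * a * g⁻¹) = g * (a * a) * g⁻¹ := by group
      _ = 1 := by rw [ha.2]; group
  have hN2 : IsPGroup 2 N := by
    rintro ⟨a, ha⟩
    refine ⟨1, Subtype.ext ?_⟩
    change a ^ 2 ^ 1 = 1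
    rw [pow_one, pow_two]
    exact ha.2
  have h3 : N ≤ pCore 2 H := le_sSup ⟨hN, hN2⟩
  rw [h2, le_bot_iff] at h3
  have h4 : x ∈ N := ⟨hx, hxx⟩
  rw [h3, Subgroup.mem_bot] at h4
  exact h4

/-- some component is not centralised by `A` -/
theorem exists_comp (h : Ab C A t) : ∃ L : Subgroup H, IsComponent L ∧ ∃ a ∈ A, a ∉ centralizer (L : Set H) := by
  by_contra hcon
  push Not at hcon
  apply h.A_ne
  rw [eq_bot_iff]
  intro a ha
  rw [Subgroup.mem_bot]
  refine eq_one_of_central h.o2 ?_ (h.sq a ha)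
  have h2 : generalizedFittingSubgroup H ≤ centralizer ({a} : Set H) := by
    refine sup_le ?_ ?_
    · rw [layer_le_iff]
      intro K hK y hy
      rw [mem_centralizer_singleton_iff]
      exact (mem_centralizer_iff.mp (hcon K hK a ha) y hy)
    · intro f hf
      rw [mem_centralizer_singleton_iff]
      exact (mem_centralizer_iff.1 (layer_le_centralizer_fitting (h.A_le_layer ha)) f hf)
  rw [mem_centralizer_iff]
  intro y hy
  exact mem_centralizer_singleton_iff.1 (h2 hy)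

variable {L : Subgroup H}

theorem comp_normal (h : Ab C A t) (hL : IsComponent L) : L.Normal := UniStruct.normal h.oc hL

/-- a power of `t` centralising `L` is trivial -/
theorem pow_eq_one (h : Ab C A t) (hL : IsComponent L) (hA : ∃ a ∈ A, a ∉ centralizer (L : Set H)) {k : ℕ}
    (hk : t ^ k ∈ centralizer (L : Set H)) : t ^ k = 1 := by
  by_contra hk1
  obtain ⟨a, ha, haL⟩ := hA
  apply haL
  have hLn := h.comp_normal hL
  obtain ⟨b, hb, rfl⟩ := h.exists_comm_eq hk1 ha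
  have hc : ∀ x ∈ L, t ^ k * x * (t ^ k)⁻¹ = x := fun x hx => by
    rw [← mem_centralizer_iff.mp hk x hx, mul_inv_cancel_right]
  have hc' : ∀ x ∈ L, (t ^ k)⁻¹ * x * t ^ k = x := fun x hx => by
    calc (t ^ k)⁻¹ * x * t ^ k = (t ^ k)⁻¹ * (t ^ k * x * (t ^ k)⁻¹) * t ^ k := by rw [hc x hx]
      _ = x := by group
  refine mem_centralizer_iff.mpr fun x hx => ?_
  have h1 : b⁻¹ * x * b ∈ L := by
    have := hLn.conj_mem x hx b⁻¹
    rwa [inv_inv] at this
  have h2 : (t ^ k * b * (t ^ k)⁻¹ * b⁻¹) * x * (t ^ k * b * (t ^ k)⁻¹ * b⁻¹)⁻¹ = x := by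
    calc (t ^ k * b * (t ^ k)⁻¹ * b⁻¹) * x * (t ^ k * b * (t ^ k)⁻¹ * b⁻¹)⁻¹
        = t ^ k * (b * ((t ^ k)⁻¹ * (b⁻¹ * x * b) * t ^ k) * b⁻¹) * (t ^ k)⁻¹ := by group
      _ = t ^ k * (b * (b⁻¹ * x * b) * b⁻¹) * (t ^ k)⁻¹ := by rw [hc' _ h1]
      _ = t ^ k * x * (t ^ k)⁻¹ := by group
      _ = x := hc x hx
  rw [mul_inv_eq_iff_eq_mul] at h2
  exact h2.symm

/-- components lie in `C` -/
theorem comp_le (h : Ab C A t) (hL : IsComponent L) : L ≤ C := by
  have hCn := h.normal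
  have h1 : ∀ x : H, ((x : H) : H ⧸ C) ∈ zpowers ((t : H) : H ⧸ C) := by
    intro x
    obtain ⟨c, hc, k, hk, rfl⟩ := h.top x
    obtain ⟨i, rfl⟩ := mem_zpowers_iff.mp hk
    rw [QuotientGroup.mk_mul, (QuotientGroup.eq_one_iff _).2 hc, one_mul]
    exact mem_zpowers_iff.mpr ⟨i, by rw [← QuotientGroup.mk_zpow]⟩
  have h2 : ∀ x y : H, x * y * x⁻¹ * y⁻¹ ∈ C := by
    intro x y
    obtain ⟨i, hi⟩ := mem_zpowers_iff.mp (h1 x)
    obtain ⟨j, hj⟩ := mem_zpowers_iff.mp (h1 y)
    rw [← QuotientGroup.eq_one_iff]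
    simp only [QuotientGroup.mk_mul, QuotientGroup.mk_inv]
    rw [← hi, ← hj]
    group
  rw [← component_commutator_self hL, commutator_le]
  intro x _ y _
  exact h2 x y

theorem co_L (h : Ab C A t) (hL : IsComponent L) : Nat.Coprime (Nat.card L) (orderOf t) :=
  Nat.Coprime.coprime_dvd_left (Subgroup.card_dvd_of_le (h.comp_le hL)) h.co

/-- if `t` acts on `L` as an inner automorphism, then `A` centralises `L` -/
theorem not_inner (h : Ab C A t) (hL : IsComponent L) (hA : ∃ a ∈ A, a ∉ centralizer (L : Set H)) {l : H}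
    (hl : l ∈ L) (ht : ∀ x ∈ L, t * x * t⁻¹ = l * x * l⁻¹) : False := by
  -- `c = l⁻¹ t` centralises `L`
  have hc : l⁻¹ * t ∈ centralizer (L : Set H) := by
    refine mem_centralizer_iff.mpr fun x hx => ?_
    have h1 : l⁻¹ * t * x * (l⁻¹ * t)⁻¹ = x := by
      calc l⁻¹ * t * x * (l⁻¹ * t)⁻¹ = l⁻¹ * (t * x * t⁻¹) * l := by group
        _ = l⁻¹ * (l * x * l⁻¹) * l := by rw [ht x hx]
        _ = x := by group
    rw [mul_inv_eq_iff_eq_mul] at h1
    exact h1.symm
  have hcl : Commute l (l⁻¹ * t) := mem_centralizer_iff.mp hc l hl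
  have h1 : t ^ Nat.card L ∈ centralizer (L : Set H) := by
    have e : t = l * (l⁻¹ * t) := by group
    have h2 : l ^ Nat.card L = 1 := orderOf_dvd_iff_pow_eq_one.mp (L.orderOf_dvd_natCard hl)
    rw [e, hcl.mul_pow, h2, one_mul]
    exact pow_mem hc _
  have h2 := h.pow_eq_one hL hA h1
  have h3 : orderOf t = 1 :=
    Nat.eq_one_of_dvd_coprimes (h.co_L hL) (orderOf_dvd_of_pow_eq_one h2) dvd_rfl
  exact h.ne (orderOf_eq_one_iff.mp h3)

/-- elements of `A` act on `L` as elements of `L` -/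
theorem exists_mul (h : Ab C A t) (hL : IsComponent L) {a : H} (ha : a ∈ A) :
    ∃ k ∈ L, ∃ c ∈ centralizer (L : Set H), a = k * c := by
  have hLn := h.comp_normal hL
  have h2 : layer H ≤ L ⊔ centralizer (L : Set H) := by
    rw [layer_le_iff]
    intro K hK
    by_cases hLK : K = L
    · rw [hLK]; exact le_sup_left
    · exact (component_le_centralizer_of_ne hK hL hLK).trans le_sup_right
  have h3 := h2 (h.A_le_layer ha)
  rw [Subgroup.mem_sup_of_normal_left] at h3
  obtain ⟨l, hl, c, hc, e⟩ := h3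
  exact ⟨l, hl, c, hc, e.symm⟩

/-- **`A` normalises a unique Sylow 2-subgroup of `L`** -/
theorem exists_P (h : Ab C A t) (hL : IsComponent L) (hA : ∃ a ∈ A, a ∉ centralizer (L : Set H)) {u s : ℕ}
    (hZ : IsZT L 2 u s) (hz : center L = ⊥) : ∃ P ∈ Om L u, ∀ g ∈ normalizer (A : Set H), cj g P = P := by
  have : Fact (Nat.Prime 2) := ⟨Nat.prime_two⟩
  have hLn := h.comp_normal hL
  obtain ⟨a, ha, haL⟩ := hA
  obtain ⟨k, hk, c, hc, e⟩ := h.exists_mul hL ha
  have hkc : k * c = c * k := mem_centralizer_iff.mp hc k hk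
  have hk1 : k ≠ 1 := by
    rintro rfl
    rw [one_mul] at e
    exact haL (e ▸ hc)
  have hkk : k * k = 1 := by
    have h1 : (k * k) * (c * c) = 1 := by
      calc (k * k) * (c * c) = k * (k * c) * c := by group
        _ = k * (c * k) * c := by rw [hkc]
        _ = (k * c) * (k * c) := by group
        _ = 1 := by rw [← e, h.sq a ha]
    have h2 : k * k ∈ centralizer (L : Set H) := by
      rw [eq_inv_of_mul_eq_one_left h1]
      exact inv_mem (mul_mem hc hc)
    have h3 : (⟨k * k, mul_mem hk hk⟩ : L) ∈ center L := by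
      rw [mem_center_iff]
      intro y
      exact Subtype.ext (mem_centralizer_iff.mp h2 y y.2)
    rw [hz, Subgroup.mem_bot] at h3
    exact congrArg Subtype.val h3
  -- the Sylow subgroup containing `k`
  have h2 : IsPGroup 2 (zpowers (⟨k, hk⟩ : L)) := by
    refine IsPGroup.of_card (n := 1) ?_
    rw [Nat.card_zpowers, pow_one]
    refine orderOf_eq_prime ?_ fun h3 => hk1 (congrArg Subtype.val h3)
    rw [pow_two]
    exact Subtype.ext hkk
  obtain ⟨P', hP'⟩ := h2.exists_le_sylow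
  have hP := Om.of_sylow hZ P'
  set P : Subgroup H := (P' : Subgroup L).map L.subtype with hPd
  have hkP : k ∈ P := ⟨⟨k, hk⟩, hP' (mem_zpowers _), rfl⟩
  -- `a` normalises `Q` iff `k` does
  have hcQ : ∀ Q ∈ Om L u, cj c Q = Q := by
    intro Q hQ
    refine cj_eq_of_mem_normalizer (mem_normalizer_of_conj fun x hx => ?_)
    rw [← mem_centralizer_iff.mp hc x (hQ.1 hx), mul_inv_cancel_right]
    exact hx
  have hak : ∀ Q ∈ Om L u, cj a Q = cj k Q := by
    intro Q hQ
    rw [e, ← cj_cj, hcQ Q hQ]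
  have huniq : ∀ Q ∈ Om L u, cj a Q = Q → Q = P := by
    intro Q hQ hn
    by_contra hne
    rw [hak Q hQ] at hn
    exact hk1 (Om.reg hZ hP hQ (Ne.symm hne) hkP hn)
  have haP : cj a P = P := by
    rw [hak P hP]
    exact cj_eq_of_mem_normalizer (le_normalizer hkP)
  have hAP : ∀ b ∈ A, cj b P = P := by
    intro b hb
    refine huniq _ (Om.conj hLn hP b) ?_
    rw [cj_cj, h.comm a ha b hb, ← cj_cj, haP]
  refine ⟨P, hP, fun g hg => ?_⟩
  refine huniq _ (Om.conj hLn hP g) ?_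
  have h3 : g⁻¹ * a * g ∈ A := conj_mem_of_normalizer' le_rfl hg ha
  have h4 := hAP _ h3
  have h5 := congrArg (cj g) h4
  rw [cj_cj] at h5
  rw [cj_cj]
  have e2 : g * (g⁻¹ * a * g) = a * g := by group
  rwa [e2] at h5

/-- **(2.3)** some `l ∈ C_L(t)` does not normalise `A` -/
theorem exists_l (h : Ab C A t) (hL : IsComponent L) (hA : ∃ a ∈ A, a ∉ centralizer (L : Set H)) {u s : ℕ}
    (hZ : IsZT L 2 u s) (hz : center L = ⊥) : ∃ l ∈ C, l * t = t * l ∧ l ∉ normalizer (A : Set H) := by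
  obtain ⟨P, hP, hPn⟩ := h.exists_P hL hA hZ hz
  have htA : t ∈ normalizer (A : Set H) := mem_normalizer_of_conj h.tA
  obtain ⟨l, hl, hlt, hlP⟩ := exists_comm h.oc (h.comp_normal hL) hZ h.odd (h.co_L hL) hP (hPn t htA)
  exact ⟨l, h.comp_le hL hl, hlt, fun hn => hlP (hPn l hn)⟩

end Ab

end Cfsg.Agent.OddCyclic.NatNonab
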