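import Mathlib

/-!
# The Jordan identity in characteristic 2

* `jordan`: an additive map `ρ : F → R` with `ρ 1 = 1` and `ρ (s²b) = ρ s ρ b ρ s` is multiplicative;
* `inv_zero`: an additive map `θ : F → N` with `θ (μ⁻¹ y) = μ θ(y)` is zero if `|F| > 4`.
-/

set_option autoImplicit false
set_option linter.dupNamespace false

namespace Cfsg.Agent.OddCyclic.NatNonab

variable {F : Type*} [Field F] [Finite F] [CharP F 2]

theorem exists_sqrt (x : F) : ∃ s : F, x = s * s :=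
  FiniteField.isSquare_of_char_two (ringChar.eq F 2) x

theorem jordan {R : Type*} [Ring R] (h2 : ∀ r : R, r + r = 0) (ρ : F →+ R) (h1 : ρ 1 = 1)
    (hq : ∀ s b, s ≠ 0 → ρ (s * s * b) = ρ s * ρ b * ρ s) (x y : F) : ρ (x * y) = ρ x * ρ y := by
  have hq' : ∀ s b, ρ (s * s * b) = ρ s * ρ b * ρ s := by
    intro s b
    by_cases hs : s = 0
    · rw [hs, mul_zero, zero_mul, map_zero, zero_mul, zero_mul]
    · exact hq s b hs
  have hsq : ∀ s, ρ (s * s) = ρ s * ρ s := by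
    intro s
    have := hq' s 1
    rwa [mul_one, h1, mul_one] at this
  have hc : ∀ s t, ρ s * ρ t = ρ t * ρ s := by
    intro s t
    have e1 := hsq (s + t)
    have e2 : (s + t) * (s + t) = s * s + t * t := by
      have := CharTwo.add_self_eq_zero (s * t)
      linear_combination this
    rw [e2, map_add, map_add, hsq, hsq] at e1
    have e3 : ρ s * ρ t + ρ t * ρ s = 0 := by
      have : (ρ s + ρ t) * (ρ s + ρ t) = (ρ s * ρ s + ρ t * ρ t) + (ρ s * ρ t + ρ t * ρ s) := by noncomm_ring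
      rw [this] at e1
      exact left_eq_add.mp e1
    have e4 := h2 (ρ t * ρ s)
    rw [← e4] at e3
    exact add_right_cancel e3
  obtain ⟨s, rfl⟩ := exists_sqrt x
  rw [hq', hsq, mul_assoc, mul_assoc, hc y s]

/-- the ring homomorphism -/
noncomputable def jordanHom {R : Type*} [Ring R] (h2 : ∀ r : R, r + r = 0) (ρ : F →+ R) (h1 : ρ 1 = 1)
    (hq : ∀ s b, s ≠ 0 → ρ (s * s * b) = ρ s * ρ b * ρ s) : F →+* R :=
  { ρ with
    map_one' := h1
    map_mul' := jordan h2 ρ h1 hq }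

omit [CharP F 2] in
theorem exists_gen : ∃ l : F, l ≠ 0 ∧ (∀ m : F, m ≠ 0 → ∃ k : ℕ, m = l ^ k) ∧
    ∀ k : ℕ, l ^ k = 1 → (Nat.card F - 1) ∣ k := by
  classical
  have := Fintype.ofFinite F
  obtain ⟨g, hg⟩ := IsCyclic.exists_generator (α := Fˣ)
  refine ⟨g, g.ne_zero, fun m hm => ?_, fun k hk => ?_⟩
  · obtain ⟨k, hk⟩ := (mem_powers_iff_mem_zpowers.mpr (hg (Units.mk0 m hm)))
    refine ⟨k, ?_⟩
    have h1 := congrArg Units.val hk
    rw [Units.val_mk0] at h1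
    rw [← h1]; simp
  · have h1 : orderOf g = Nat.card Fˣ := orderOf_eq_card_of_forall_mem_zpowers hg
    rw [Nat.card_units] at h1
    rw [← h1]
    apply orderOf_dvd_of_pow_eq_one
    apply Units.ext
    rw [Units.val_pow_eq_pow_val, hk, Units.val_one]

theorem exists_scalar (hF : 4 < Nat.card F) : ∃ y : F, y ≠ 0 ∧ y + 1 ≠ 0 ∧ y * y + y + 1 ≠ 0 := by
  obtain ⟨l, hl, -, h⟩ := exists_gen (F := F)
  refine ⟨l, hl, fun e => ?_, fun e => ?_⟩
  · have h1 := h 1 (by rw [pow_one]; exact CharTwo.add_eq_zero.mp e)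
    have := Nat.le_of_dvd one_pos h1
    omega
  · have h1 := h 3 (by
      have h2 := CharTwo.add_self_eq_zero (1 : F)
      have h3 : l ^ 3 - 1 = (l - 1) * (l * l + l + 1) := by ring
      rw [e, mul_zero] at h3
      exact sub_eq_zero.mp h3)
    have := Nat.le_of_dvd (by norm_num) h1
    omega

theorem inv_zero (hF : 4 < Nat.card F) {N : Type*} [AddCommGroup N] (hN : ∀ x : N, x + x = 0)
    (ρ : F →+* AddMonoid.End N) (θ : F →+ N)
    (h : ∀ μ y : F, μ ≠ 0 → θ (μ⁻¹ * y) = ρ μ (θ y)) (y : F) : θ y = 0 := by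
  have h1 : ∀ y : F, y ≠ 0 → θ y = ρ y⁻¹ (θ 1) := by
    intro y hy
    have := h y⁻¹ 1 (inv_ne_zero hy)
    rwa [inv_inv, mul_one] at this
  have h0 : θ 1 = 0 := by
    obtain ⟨y, hy, hy1, hy2⟩ := exists_scalar hF
    have e1 := h1 y hy
    have e2 := h1 (y + 1) hy1
    rw [map_add, e1] at e2
    have e3 : ρ ((y + 1)⁻¹ + y⁻¹ + 1) (θ 1) = 0 := by
      rw [map_add, map_add, map_one]
      change ρ (y + 1)⁻¹ (θ 1) + ρ y⁻¹ (θ 1) + θ 1 = 0
      rw [← e2]
      rw [add_assoc (ρ y⁻¹ (θ 1) + θ 1)]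
      exact hN _
    have e4 : (y + 1)⁻¹ + y⁻¹ + 1 ≠ 0 := by
      intro e
      apply hy2
      have h2 := CharTwo.add_self_eq_zero y
      have h3 : ((y + 1)⁻¹ + y⁻¹ + 1) * (y * (y + 1)) = y + (y + 1) + y * (y + 1) := by
        field_simp
      rw [e, zero_mul] at h3
      linear_combination -h3 - h2
    have e5 : ρ (((y + 1)⁻¹ + y⁻¹ + 1)⁻¹ * ((y + 1)⁻¹ + y⁻¹ + 1)) (θ 1) = 0 := by
      rw [map_mul]
      change ρ _ (ρ _ (θ 1)) = 0
      rw [e3, map_zero]
    rwa [inv_mul_cancel₀ e4, map_one] at e5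
  by_cases hy : y = 0
  · rw [hy, map_zero]
  · rw [h1 y hy, h0, map_zero]

end Cfsg.Agent.OddCyclic.NatNonab
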