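import Cfsg.Agent.OddCyclic.NatNonab.Dd
import Cfsg.Agent.OddCyclic.NatNonab.Jordan

/-!
# `(5*)`: the action of `Y = ⟨W₁, W₂⟩` on `U₁U₂/D`
-/

set_option autoImplicit false
set_option linter.dupNamespace false
set_option linter.unusedSectionVars false

namespace Cfsg.Agent.OddCyclic.NatNonab

open Subgroup Cfsg Cfsg.Agent.ZN Cfsg.Agent.MinSimple.Geo
open Cfsg.Agent.OddCyclic.T1Defs (OddCyc)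
open Cfsg.Agent.ZN.Block (conj_mem_of_normalizer conj_mem_of_normalizer' le_normalizer_of_forall
  mem_normalizer_of)

universe u

variable {G : Type u} [Group G]
variable {F : Type} [Field F] [Fintype F] [CharP F 2] [Finite G] {S V Z₁ Z₂ : Subgroup G} {a b : F → G}

namespace NN

theorem exists_phi_one (h : NN S V Z₁ Z₂ a b) {X₁ X₂ : Type u} [AddCommGroup X₁] [AddCommGroup X₂]
    {p₁ : G → X₁} {p₂ : G → X₂} (m₁ : Md (uu V Z₁) (dd V Z₁ Z₂) p₁) (m₂ : Md (uu V Z₂) (dd V Z₂ Z₁) p₂)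
    {w : G} (hw : w ∈ wp V Z₁) : ∃ φ : X₂ →+ X₁, ∀ u ∈ uu V Z₂, φ (p₂ u) = p₁ (u * w * u⁻¹ * w⁻¹) := by
  refine m₂.lift m₁ (fun u => u * w * u⁻¹ * w⁻¹) (fun u hu => h.comm_WU hw hu) (fun u hu v hv => ?_) fun d hd => ?_
  · have hfu := h.comm_WU hw hu
    have hfv := h.comm_WU hw hv
    have e : u * v * w * (u * v)⁻¹ * w⁻¹ * ((u * w * u⁻¹ * w⁻¹) * (v * w * v⁻¹ * w⁻¹))⁻¹ =
        (u * (v * w * v⁻¹ * w⁻¹) * u⁻¹ * (v * w * v⁻¹ * w⁻¹)⁻¹) * ((v * w * v⁻¹ * w⁻¹) * (u * w * u⁻¹ * w⁻¹) *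
        (v * w * v⁻¹ * w⁻¹)⁻¹ * (u * w * u⁻¹ * w⁻¹)⁻¹) := by group
    rw [e]
    exact mul_mem (h.comm_UU hfv hu) (h.Z_le_D (h.comm_W hfv.1 hfu.1))
  · rw [dd_symm] at hd
    change d * w * d⁻¹ * w⁻¹ ∈ _
    have e : d * w * d⁻¹ * w⁻¹ = d * (w * d⁻¹ * w⁻¹) := by group
    rw [e]
    exact mul_mem hd (h.conj_D hw (inv_mem hd))

theorem exists_phi (h : NN S V Z₁ Z₂ a b) {X₁ X₂ : Type u} [AddCommGroup X₁] [AddCommGroup X₂]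
    {p₁ : G → X₁} {p₂ : G → X₂} (m₁ : Md (uu V Z₁) (dd V Z₁ Z₂) p₁) (m₂ : Md (uu V Z₂) (dd V Z₂ Z₁) p₂) :
    ∃ φ : F →+ X₂ →+ X₁, ∀ w ∈ wp V Z₁, ∀ u ∈ uu V Z₂, φ (rt a b w) (p₂ u) = p₁ (u * w * u⁻¹ * w⁻¹) := by
  classical
  choose r hr hr' using h.exists_rt
  choose φ hφ using fun t => h.exists_phi_one m₁ m₂ (hr t)
  -- the value depends only on the root parameter
  have key : ∀ w ∈ wp V Z₁, ∀ w' ∈ wp V Z₁, ∀ u ∈ uu V Z₂,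
      p₁ (u * (w * w') * u⁻¹ * (w * w')⁻¹) = p₁ (u * w * u⁻¹ * w⁻¹) + p₁ (u * w' * u⁻¹ * w'⁻¹) := by
    intro w hw w' hw' u hu
    have h1 := h.comm_WU hw hu
    have h2 := h.comm_WU hw' hu
    have e : u * (w * w') * u⁻¹ * (w * w')⁻¹ = (u * w * u⁻¹ * w⁻¹) * ((w * (u * w' * u⁻¹ * w'⁻¹) * w⁻¹ *
        (u * w' * u⁻¹ * w'⁻¹)⁻¹) * (u * w' * u⁻¹ * w'⁻¹)) := by group
    have h3 := h.Z_le_D (h.comm_W hw h2.1)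
    rw [e, m₁.mul _ h1 _ (mul_mem (m₁.le h3) h2), m₁.mul_left h2 h3]
  have hc : ∀ c ∈ uu V Z₁, ∀ u ∈ uu V Z₂, p₁ (u * c * u⁻¹ * c⁻¹) = 0 := fun c hc u hu =>
    m₁.of_mem (h.comm_UU hc hu)
  have hspec : ∀ w ∈ wp V Z₁, ∀ u ∈ uu V Z₂, φ (rt a b w) (p₂ u) = p₁ (u * w * u⁻¹ * w⁻¹) := by
    intro w hw u hu
    rw [hφ _ _ hu]
    have h1 : (r (rt a b w))⁻¹ * w ∈ uu V Z₁ := by
      rw [← h.Md_rt.zero _ (mul_mem (inv_mem (hr _)) hw), h.rt_mul (inv_mem (hr _)) hw, h.rt_inv (hr _), hr']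
      exact CharTwo.add_self_eq_zero _
    have h2 := key _ (hr (rt a b w)) _ h1.1 u hu
    rw [hc _ h1 u hu, add_zero, mul_inv_cancel_left] at h2
    exact h2.symm
  refine ⟨⟨⟨φ, ?_⟩, fun s t => ?_⟩, hspec⟩
  · ext x
    obtain ⟨u, hu, rfl⟩ := m₂.surj x
    have h1 : rt a b (1 : G) = 0 := h.Md_rt.one
    have h2 := hspec 1 (one_mem _) u hu
    rw [h1] at h2
    rw [h2]
    simp only [mul_one, mul_inv_cancel, inv_one, AddMonoidHom.zero_apply]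
    exact m₁.one
  · ext x
    obtain ⟨u, hu, rfl⟩ := m₂.surj x
    have h2 := hspec _ (mul_mem (hr s) (hr t)) u hu
    rw [h.rt_mul (hr s) (hr t), hr', hr'] at h2
    change φ (s + t) (p₂ u) = φ s (p₂ u) + φ t (p₂ u)
    rw [h2, key _ (hr s) _ (hr t) u hu, hφ _ _ hu, hφ _ _ hu]

end NN

/-- the modules `X₁ = U₁/D`, `X₂ = U₂/D` and the commutator maps -/
structure Ph (S S' V Z₁ Z₂ : Subgroup G) (a b : F → G) {X₁ X₂ : Type u} [AddCommGroup X₁] [AddCommGroup X₂]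
    (p₁ : G → X₁) (p₂ : G → X₂) (φ : F →+ X₂ →+ X₁) (ψ : F →+ X₁ →+ X₂) : Prop where
  nn : NN S V Z₁ Z₂ a b
  nn' : NN S' V Z₂ Z₁ b a
  m₁ : Md (uu V Z₁) (dd V Z₁ Z₂) p₁
  m₂ : Md (uu V Z₂) (dd V Z₂ Z₁) p₂
  hφ : ∀ w ∈ wp V Z₁, ∀ u ∈ uu V Z₂, φ (rt a b w) (p₂ u) = p₁ (u * w * u⁻¹ * w⁻¹)
  hψ : ∀ w ∈ wp V Z₂, ∀ u ∈ uu V Z₁, ψ (rt b a w) (p₁ u) = p₂ (u * w * u⁻¹ * w⁻¹)

theorem NN.exists_Ph (h : NN S V Z₁ Z₂ a b) : ∃ (S' : Subgroup G) (X₁ X₂ : Type u) (_ : AddCommGroup X₁)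
    (_ : AddCommGroup X₂) (p₁ : G → X₁) (p₂ : G → X₂) (φ : F →+ X₂ →+ X₁) (ψ : F →+ X₁ →+ X₂),
    Ph S S' V Z₁ Z₂ a b p₁ p₂ φ ψ := by
  obtain ⟨S', h'⟩ := h.symm
  obtain ⟨X₁, i₁, p₁, m₁⟩ := h.exists_X
  obtain ⟨X₂, i₂, p₂, m₂⟩ := h'.exists_X
  obtain ⟨φ, hφ⟩ := h.exists_phi m₁ m₂
  obtain ⟨ψ, hψ⟩ := h'.exists_phi m₂ m₁
  exact ⟨S', X₁, X₂, i₁, i₂, p₁, p₂, φ, ψ, h, h', m₁, m₂, hφ, hψ⟩

namespace Ph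

variable {S' : Subgroup G} {X₁ X₂ : Type u} [AddCommGroup X₁] [AddCommGroup X₂]
    {p₁ : G → X₁} {p₂ : G → X₂} {φ : F →+ X₂ →+ X₁} {ψ : F →+ X₁ →+ X₂}

theorem symm (h : Ph S S' V Z₁ Z₂ a b p₁ p₂ φ ψ) : Ph S' S V Z₂ Z₁ b a p₂ p₁ ψ φ :=
  ⟨h.nn', h.nn, h.m₂, h.m₁, h.hψ, h.hφ⟩

/-- `g ∈ U₁U₂` has the coordinates `(x₁, x₂)` -/
def Rel (V Z₁ Z₂ : Subgroup G) {X₁ X₂ : Type u} (p₁ : G → X₁) (p₂ : G → X₂) (g : G) (x₁ : X₁) (x₂ : X₂) : Prop :=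
  ∃ u ∈ uu V Z₁, ∃ v ∈ uu V Z₂, g = u * v ∧ p₁ u = x₁ ∧ p₂ v = x₂

theorem inf_le (h : Ph S S' V Z₁ Z₂ a b p₁ p₂ φ ψ) {g : G} (h1 : g ∈ uu V Z₁) (h2 : g ∈ uu V Z₂) :
    g ∈ dd V Z₁ Z₂ := by
  rw [← h.nn.UU_inf]; exact ⟨h1, h2⟩

theorem rel_unique (h : Ph S S' V Z₁ Z₂ a b p₁ p₂ φ ψ) {g : G} {x₁ y₁ : X₁} {x₂ y₂ : X₂}
    (h1 : Rel V Z₁ Z₂ p₁ p₂ g x₁ x₂) (h2 : Rel V Z₁ Z₂ p₁ p₂ g y₁ y₂) : x₁ = y₁ ∧ x₂ = y₂ := by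
  obtain ⟨u, hu, v, hv, rfl, rfl, rfl⟩ := h1
  obtain ⟨u', hu', v', hv', e, rfl, rfl⟩ := h2
  have e1 : u'⁻¹ * u = v' * v⁻¹ := by
    rw [inv_mul_eq_iff_eq_mul, ← mul_assoc, ← e, mul_inv_cancel_right]
  have h3 : v' * v⁻¹ ∈ uu V Z₁ := by rw [← e1]; exact mul_mem (inv_mem hu') hu
  have h4 : v' * v⁻¹ ∈ uu V Z₂ := mul_mem hv' (inv_mem hv)
  have hd := h.inf_le h3 h4
  constructor
  · have h5 : u = u' * (v' * v⁻¹) := by rw [← e1]; group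
    rw [h5, h.m₁.mul_right hu' hd]
  · rw [dd_symm] at hd
    exact ((h.m₂.eq_iff hv' hv).mpr hd).symm

theorem rel_left (h : Ph S S' V Z₁ Z₂ a b p₁ p₂ φ ψ) {u : G} (hu : u ∈ uu V Z₁) :
    Rel V Z₁ Z₂ p₁ p₂ u (p₁ u) 0 := ⟨u, hu, 1, one_mem _, by rw [mul_one], rfl, h.m₂.one⟩

theorem rel_right (h : Ph S S' V Z₁ Z₂ a b p₁ p₂ φ ψ) {u : G} (hu : u ∈ uu V Z₂) :
    Rel V Z₁ Z₂ p₁ p₂ u 0 (p₂ u) := ⟨1, one_mem _, u, hu, by rw [one_mul], h.m₁.one, rfl⟩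

theorem rel_mul (h : Ph S S' V Z₁ Z₂ a b p₁ p₂ φ ψ) {g g' : G} {x₁ y₁ : X₁} {x₂ y₂ : X₂}
    (h1 : Rel V Z₁ Z₂ p₁ p₂ g x₁ x₂) (h2 : Rel V Z₁ Z₂ p₁ p₂ g' y₁ y₂) :
    Rel V Z₁ Z₂ p₁ p₂ (g * g') (x₁ + y₁) (x₂ + y₂) := by
  obtain ⟨u, hu, v, hv, rfl, rfl, rfl⟩ := h1
  obtain ⟨u', hu', v', hv', rfl, rfl, rfl⟩ := h2
  -- `v u' = (v u' v⁻¹ u'⁻¹) u' v`
  have hd := h.nn.comm_UU hu' hv
  have hd2 := h.nn.D_le_U hd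
  refine ⟨u * ((v * u' * v⁻¹ * u'⁻¹) * u'), mul_mem hu (mul_mem hd2 hu'), v * v', mul_mem hv hv', by group, ?_, ?_⟩
  · rw [h.m₁.mul _ hu _ (mul_mem hd2 hu'), h.m₁.mul_left hu' hd]
  · rw [h.m₂.mul _ hv _ hv']

theorem rel_conj_left (h : Ph S S' V Z₁ Z₂ a b p₁ p₂ φ ψ) {w g : G} (hw : w ∈ wp V Z₁) {x₁ : X₁} {x₂ : X₂}
    (h1 : Rel V Z₁ Z₂ p₁ p₂ g x₁ x₂) : Rel V Z₁ Z₂ p₁ p₂ (w * g * w⁻¹) (x₁ + φ (rt a b w) x₂) x₂ := by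
  obtain ⟨u, hu, v, hv, rfl, rfl, rfl⟩ := h1
  have e : w * (u * v) * w⁻¹ = (w * u * w⁻¹) * ((v * w * v⁻¹ * w⁻¹)⁻¹ * v) := by group
  have h2 := h.nn.comm_WU hw hv
  have h3 := h.nn.Z_le_D (h.nn.comm_W hw hu.1)
  have h4 : Rel V Z₁ Z₂ p₁ p₂ (w * u * w⁻¹) (p₁ u) 0 := by
    have e2 : w * u * w⁻¹ = (w * u * w⁻¹ * u⁻¹) * u := by group
    rw [e2]
    refine ⟨_, mul_mem (h.nn.D_le_U h3) hu, 1, one_mem _, by rw [mul_one], h.m₁.mul_left hu h3, h.m₂.one⟩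
  have h5 : Rel V Z₁ Z₂ p₁ p₂ ((v * w * v⁻¹ * w⁻¹)⁻¹ * v) (φ (rt a b w) (p₂ v)) (p₂ v) :=
    ⟨_, inv_mem h2, v, hv, rfl, by rw [h.m₁.inv h2, h.hφ w hw v hv], rfl⟩
  have h6 := h.rel_mul h4 h5
  rw [zero_add] at h6
  rw [e]; exact h6

theorem rel_swap (h : Ph S S' V Z₁ Z₂ a b p₁ p₂ φ ψ) {g : G} {x₁ : X₁} {x₂ : X₂}
    (h1 : Rel V Z₁ Z₂ p₁ p₂ g x₁ x₂) : Rel V Z₂ Z₁ p₂ p₁ g x₂ x₁ := by
  obtain ⟨u, hu, v, hv, rfl, rfl, rfl⟩ := h1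
  have h2 := h.symm.rel_right hu
  have h3 := h.symm.rel_left hv
  have h4 := h.symm.rel_mul h2 h3
  rwa [zero_add, add_zero] at h4

theorem rel_conj_right (h : Ph S S' V Z₁ Z₂ a b p₁ p₂ φ ψ) {w g : G} (hw : w ∈ wp V Z₂) {x₁ : X₁} {x₂ : X₂}
    (h1 : Rel V Z₁ Z₂ p₁ p₂ g x₁ x₂) : Rel V Z₁ Z₂ p₁ p₂ (w * g * w⁻¹) x₁ (x₂ + ψ (rt b a w) x₁) :=
  h.symm.rel_swap (h.symm.rel_conj_left hw (h.rel_swap h1))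

/-! ### the elements `n(t) = w s w` -/

/-- `n = w s w` with `w ∈ W₁`, `s ∈ W₂` of root parameters `t`, `t⁻¹` -/
theorem exists_n (h : Ph S S' V Z₁ Z₂ a b p₁ p₂ φ ψ) {t : F} (ht : t ≠ 0) :
    ∃ n ∈ wp V Z₁ ⊔ wp V Z₂, n ∈ normalizer (V : Set G) ∧
      (∀ x y, n * (a x * b y) * n⁻¹ = a (t * y) * b (t⁻¹ * x)) ∧
      (∀ g x₁ x₂, Rel V Z₁ Z₂ p₁ p₂ g x₁ x₂ → Rel V Z₁ Z₂ p₁ p₂ (n * g * n⁻¹)
        (x₁ + φ t x₂ + φ t (x₂ + ψ t⁻¹ (x₁ + φ t x₂))) (x₂ + ψ t⁻¹ (x₁ + φ t x₂))) := by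
  obtain ⟨w, hw, hwt⟩ := h.nn.exists_rt t
  obtain ⟨s, hs, hst⟩ := h.nn'.exists_rt t⁻¹
  refine ⟨w * s * w, mul_mem (mul_mem (mem_sup_left hw) (mem_sup_right hs)) (mem_sup_left hw),
    mul_mem (mul_mem (h.nn.W_le_N hw) (h.nn'.W_le_N hs)) (h.nn.W_le_N hw), fun x y => ?_, fun g x₁ x₂ hg => ?_⟩
  · have e : w * s * w * (a x * b y) * (w * s * w)⁻¹ = w * (s * (w * (a x * b y) * w⁻¹) * s⁻¹) * w⁻¹ := by group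
    rw [e, h.nn.comm_ab hw, hwt, h.nn.co.comm, h.nn'.comm_ab hs, hst, h.nn'.co.comm, h.nn.comm_ab hw, hwt]
    have e1 : y + t⁻¹ * (x + t * y) = t⁻¹ * x := by
      have := CharTwo.add_self_eq_zero y
      field_simp
      linear_combination t * this
    rw [e1]
    have e2 : x + t * y + t * (t⁻¹ * x) = t * y := by
      have := CharTwo.add_self_eq_zero x
      field_simp
      linear_combination this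
    rw [e2]
  · have h1 := h.rel_conj_left hw (h.rel_conj_right hs (h.rel_conj_left hw hg))
    rw [hwt, hst] at h1
    have e : w * s * w * g * (w * s * w)⁻¹ = w * (s * (w * g * w⁻¹) * s⁻¹) * w⁻¹ := by group
    rw [e]; exact h1

end Ph

end Cfsg.Agent.OddCyclic.NatNonab
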