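import Cfsg.Agent.OddCyclic.NatNonab.Hh

/-!
# `(5*)`, section 2: `q ≥ 8`
-/

set_option autoImplicit false
set_option linter.dupNamespace false
set_option linter.unusedSectionVars false

namespace Cfsg.Agent.OddCyclic.NatNonab

open Subgroup Cfsg Cfsg.Agent.ZN Cfsg.Agent.MinSimple.Geo
open Cfsg.Agent.OddCyclic.T1Defs (OddCyc)
open Cfsg.Agent.OddCyclic.Zass (IsZT)
open Cfsg.Agent.OddCyclic.UniStruct (TameSec)
open Cfsg.Agent.OddCyclic.PumpMain (KZero)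
open Cfsg.Agent.OddCyclic.KZeroCongr (KS)
open Cfsg.Agent.SignalizersComponents.Components
open Cfsg.Agent.ZN.Block (conj_mem_of_normalizer conj_mem_of_normalizer' le_normalizer_of_forall
  mem_normalizer_of)

universe u

variable {G : Type u} [Group G]
variable {F : Type} [Field F] [Fintype F] [CharP F 2] [Finite G] {S V Z₁ Z₂ : Subgroup G} {a b : F → G}
variable {S' : Subgroup G} {X₁ X₂ : Type u} [AddCommGroup X₁] [AddCommGroup X₂]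
    {p₁ : G → X₁} {p₂ : G → X₂} {φ : F →+ X₂ →+ X₁} {ψ : F →+ X₁ →+ X₂}
    {ρ₁ : F →+* AddMonoid.End X₁} {ρ₂ : F →+* AddMonoid.End X₂} {l : F} {τ : G}

namespace Tau

/-- `[D, Y] ≤ V` -/
theorem comm_DY (h : Tau S S' V Z₁ Z₂ a b p₁ p₂ φ ψ ρ₁ ρ₂ l τ) {y d : G} (hy : y ∈ wp V Z₁ ⊔ wp V Z₂)
    (hd : d ∈ dd V Z₁ Z₂) : y * d * y⁻¹ * d⁻¹ ∈ V := by
  let A : Subgroup G :=
    { carrier := {y | y ∈ normalizer (V : Set G) ∧ y ∈ normalizer ((dd V Z₁ Z₂ : Subgroup G) : Set G) ∧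
        ∀ d ∈ dd V Z₁ Z₂, y * d * y⁻¹ * d⁻¹ ∈ V}
      mul_mem' := by
        rintro y z ⟨hy, hyD, hy2⟩ ⟨hz, hzD, hz2⟩
        refine ⟨mul_mem hy hz, mul_mem hyD hzD, fun d hd => ?_⟩
        have e : y * z * d * (y * z)⁻¹ * d⁻¹ = (y * (z * d * z⁻¹ * d⁻¹) * y⁻¹) * (y * d * y⁻¹ * d⁻¹) := by group
        rw [e]
        exact mul_mem (conj_mem_of_normalizer le_rfl hy (hz2 d hd)) (hy2 d hd)
      one_mem' := ⟨one_mem _, one_mem _, fun d _ => by simp⟩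
      inv_mem' := by
        rintro y ⟨hy, hyD, hy2⟩
        refine ⟨inv_mem hy, inv_mem hyD, fun d hd => ?_⟩
        have e : y⁻¹ * d * y⁻¹⁻¹ * d⁻¹ = y⁻¹ * (y * d * y⁻¹ * d⁻¹)⁻¹ * y := by group
        rw [e]
        exact conj_mem_of_normalizer' le_rfl hy (inv_mem (hy2 d hd)) }
  have h1 : wp V Z₁ ⊔ wp V Z₂ ≤ A := by
    refine sup_le (fun w hw => ⟨h.ph.nn.W_le_N hw, h.ph.nn.W_le_ND hw, fun d hd => ?_⟩)
      (fun w hw => ⟨h.ph.nn'.W_le_N hw, h.ph.nn.W_le_ND' hw, fun d hd => ?_⟩)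
    · exact h.ph.nn.co.Z₁_le (h.ph.nn.comm_W hw hd.1)
    · exact h.ph.nn'.co.Z₁_le (h.ph.nn'.comm_W hw hd.2)
  exact (h1 hy).2.2 d hd

theorem comm_Dτ (h : Tau S S' V Z₁ Z₂ a b p₁ p₂ φ ψ ρ₁ ρ₂ l τ) {d : G}
    (hd : d ∈ dd V Z₁ Z₂) : τ * d * τ⁻¹ * d⁻¹ ∈ V := h.comm_DY h.dg.memY hd

/-- `τ` acts on the root parameters as `l²` -/
theorem rt_τ (h : Tau S S' V Z₁ Z₂ a b p₁ p₂ φ ψ ρ₁ ρ₂ l τ) {k : G} {m : F} (hm : m ≠ 0) (hk : Di a b m k)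
    {w : G} (hw : w ∈ wp V Z₁) : k * w * k⁻¹ ∈ wp V Z₁ ∧ rt a b (k * w * k⁻¹) = m * m * rt a b w := by
  have hw' : k * w * k⁻¹ ∈ wp V Z₁ := conj_mem_wp (h.ph.nn.Di_nZ hk) hw
  refine ⟨hw', h.ph.nn.rt_unique hw' ?_⟩
  have e1 : k⁻¹ * b 1 * k = b m := by
    have := h.ph.nn.Di_b hk m
    rw [inv_mul_cancel₀ hm] at this
    rw [← this]; group
  calc k * w * k⁻¹ * b 1 * (k * w * k⁻¹)⁻¹ = k * (w * (k⁻¹ * b 1 * k) * w⁻¹) * k⁻¹ := by group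
    _ = k * (a (rt a b w * m) * b m) * k⁻¹ := by rw [e1, h.ph.nn.rt_eq hw]
    _ = a (m * m * rt a b w) * b 1 := by
      rw [hk, inv_mul_cancel₀ hm]
      congr 2
      ring

/-- **(2.1)** -/
theorem conj_b_mem (h : Tau S S' V Z₁ Z₂ a b p₁ p₂ φ ψ ρ₁ ρ₂ l τ) (h8 : 4 < Fintype.card F) {g : G}
    (hg : g ∈ centralizer (Z₁ : Set G)) (hgτ : g * τ = τ * g) (y : F) : g * b y * g⁻¹ ∈ Z₂ := by
  have co := h.ph.nn.co
  have h8' : 4 < Nat.card F := by rwa [Nat.card_eq_fintype_card]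
  have hgN := NN.C_le_N hg
  have hgW : ∀ y, g * b y * g⁻¹ ∈ wp V Z₁ := fun y => conj_mem_wp hgN (le_wp V Z₁ (co.b_memV y))
  have hgk : ∀ k : ℕ, g * τ ^ k = τ ^ k * g := fun k => (Commute.pow_right (show Commute g τ from hgτ) k)
  have hτb : ∀ (k : ℕ) (y : F), τ ^ k * (g * b y * g⁻¹) * (τ ^ k)⁻¹ = g * b ((l ^ k)⁻¹ * y) * g⁻¹ := by
    intro k y
    have h1 := h.ph.nn.Di_b (h.dg.pow k).di y
    have h2 := hgk k
    have h3 : g⁻¹ * (τ ^ k)⁻¹ = (τ ^ k)⁻¹ * g⁻¹ := by rw [← mul_inv_rev, ← mul_inv_rev, h2]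
    calc τ ^ k * (g * b y * g⁻¹) * (τ ^ k)⁻¹ = (τ ^ k * g) * b y * (g⁻¹ * (τ ^ k)⁻¹) := by group
      _ = (g * τ ^ k) * b y * ((τ ^ k)⁻¹ * g⁻¹) := by rw [h2, h3]
      _ = g * (τ ^ k * b y * (τ ^ k)⁻¹) * g⁻¹ := by group
      _ = _ := by rw [h1]
  have hadd : ∀ y y', g * b (y + y') * g⁻¹ = (g * b y * g⁻¹) * (g * b y' * g⁻¹) := by
    intro y y'
    rw [co.b_add]; group
  -- `V ^ g ≤ U₁`
  have c1 : ∀ y, rt a b (g * b y * g⁻¹) = 0 := by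
    let θ : F →+ F :=
      { toFun := fun y => rt a b (g * b y * g⁻¹)
        map_zero' := by
          change rt a b (g * b 0 * g⁻¹) = 0
          rw [co.b_zero, mul_one, mul_inv_cancel]
          exact (h.ph.nn.rt_eq_zero (one_mem _)).mpr (one_mem _)
        map_add' := fun y y' => by
          change rt a b (g * b (y + y') * g⁻¹) = rt a b (g * b y * g⁻¹) + rt a b (g * b y' * g⁻¹)
          rw [hadd, h.ph.nn.rt_mul (hgW y) (hgW y')] }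
    intro y
    refine inv_zero h8' CharTwo.add_self_eq_zero ((Module.toAddMonoidEnd F F).comp (frobenius F 2)) θ ?_ y
    intro μ y hμ
    obtain ⟨k, rfl⟩ := h.gen μ hμ
    change rt a b (g * b ((l ^ k)⁻¹ * y) * g⁻¹) = (l ^ k) ^ 2 * rt a b (g * b y * g⁻¹)
    rw [← hτb k y, (h.rt_τ hμ (h.dg.pow k).di (hgW y)).2, pow_two]
  have c1' : ∀ y, g * b y * g⁻¹ ∈ uu V Z₁ := fun y => ⟨hgW y, (h.ph.nn.rt_eq_zero (hgW y)).mp (c1 y)⟩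
  -- `V ^ g ≤ D`
  have c2 : ∀ y, p₁ (g * b y * g⁻¹) = 0 := by
    let θ : F →+ X₁ :=
      { toFun := fun y => p₁ (g * b y * g⁻¹)
        map_zero' := by
          change p₁ (g * b 0 * g⁻¹) = 0
          rw [co.b_zero, mul_one, mul_inv_cancel]
          exact h.ph.m₁.one
        map_add' := fun y y' => by
          change p₁ (g * b (y + y') * g⁻¹) = p₁ (g * b y * g⁻¹) + p₁ (g * b y' * g⁻¹)
          rw [hadd, h.ph.m₁.mul _ (c1' y) _ (c1' y')] }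
    intro y
    refine inv_zero h8' h.ph.m₁.two ρ₁ θ ?_ y
    intro μ y hμ
    obtain ⟨k, rfl⟩ := h.gen μ hμ
    change p₁ (g * b ((l ^ k)⁻¹ * y) * g⁻¹) = ρ₁ (l ^ k) (p₁ (g * b y * g⁻¹))
    rw [← hτb k y, ((h.dg.pow k).u₁ _ (c1' y)).2]
  have c2' : ∀ y, g * b y * g⁻¹ ∈ dd V Z₁ Z₂ := fun y => (h.ph.m₁.zero _ (c1' y)).mp (c2 y)
  -- `V ^ g ≤ V`
  have c3 : ∀ y, g * b y * g⁻¹ ∈ V := by
    intro y
    have hl1 : l⁻¹ + 1 ≠ 0 := by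
      intro e
      exact h.ne_one (inv_eq_one.mp (CharTwo.add_eq_zero.mp e))
    have h1 := h.comm_Dτ (c2' ((l⁻¹ + 1)⁻¹ * y))
    have h2 := hτb 1 ((l⁻¹ + 1)⁻¹ * y)
    rw [pow_one, pow_one] at h2
    rw [h2] at h1
    have h3 : (g * b ((l⁻¹ + 1)⁻¹ * y) * g⁻¹)⁻¹ = g * b ((l⁻¹ + 1)⁻¹ * y) * g⁻¹ := by
      have := co.b_inv ((l⁻¹ + 1)⁻¹ * y)
      calc (g * b ((l⁻¹ + 1)⁻¹ * y) * g⁻¹)⁻¹ = g * (b ((l⁻¹ + 1)⁻¹ * y))⁻¹ * g⁻¹ := by group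
        _ = _ := by rw [this]
    rw [h3, ← hadd] at h1
    have h4 : l⁻¹ * ((l⁻¹ + 1)⁻¹ * y) + (l⁻¹ + 1)⁻¹ * y = y := by
      have : l⁻¹ * ((l⁻¹ + 1)⁻¹ * y) + (l⁻¹ + 1)⁻¹ * y = (l⁻¹ + 1) * (l⁻¹ + 1)⁻¹ * y := by ring
      rw [this, mul_inv_cancel₀ hl1, one_mul]
    rwa [h4] at h1
  -- `Z₂ ^ g ≤ Z₂`
  choose α hα using fun y => (co.mem _).mp (c3 y)
  choose β hβ using hα
  have hα0 : ∀ y, α y = 0 := by
    let θ : F →+ F :=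
      { toFun := α
        map_zero' := by
          have h1 := hβ 0
          rw [co.b_zero, mul_one, mul_inv_cancel] at h1
          exact (co.inj _ _ h1.symm).1
        map_add' := fun y y' => by
          have h1 := hβ (y + y')
          rw [hadd, hβ, hβ, co.mul_eq] at h1
          exact (co.eq_iff.mp h1).1.symm }
    intro y
    refine inv_zero h8' CharTwo.add_self_eq_zero (Module.toAddMonoidEnd F F) θ ?_ y
    intro μ y hμ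
    obtain ⟨k, rfl⟩ := h.gen μ hμ
    change α ((l ^ k)⁻¹ * y) = l ^ k * α y
    have h1 := hβ ((l ^ k)⁻¹ * y)
    rw [← hτb k y, hβ, (h.dg.pow k).di] at h1
    exact (co.eq_iff.mp h1).1.symm
  rw [hβ y, hα0, co.a_zero, one_mul]
  exact co.b_mem _

/-- **(2.2)** elements of `C_{C₁}(T)` normalise `U₂` -/
theorem conj_U (h : Tau S S' V Z₁ Z₂ a b p₁ p₂ φ ψ ρ₁ ρ₂ l τ) (h8 : 4 < Fintype.card F) {g : G}
    (hg : g ∈ centralizer (Z₁ : Set G)) (hgτ : g * τ = τ * g) : g ∈ normalizer ((uu V Z₂ : Subgroup G) : Set G) := by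
  have co := h.ph.nn.co
  have h1 : g ∈ normalizer (Z₂ : Set G) := by
    refine mem_normalizer_of_conj fun z hz => ?_
    obtain ⟨y, rfl⟩ := (co.mem₂ z).mp hz
    exact h.conj_b_mem h8 hg hgτ y
  have h2 : g ∈ normalizer (V : Set G) := by
    refine mem_normalizer_of_conj fun v hv => ?_
    obtain ⟨x, y, rfl⟩ := (co.mem v).mp hv
    have e : g * (a x * b y) * g⁻¹ = (g * a x * g⁻¹) * (g * b y * g⁻¹) := by group
    rw [e, h.ph.nn.a_C hg]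
    exact mul_mem (co.a_memV x) (co.Z₂_le (h.conj_b_mem h8 hg hgτ y))
  rw [mem_normalizer_iff_cj, cj_uu h2, cj_eq_of_mem_normalizer h1]

/-- **lifting** `C_C(t)` -/
theorem exists_lift (h : Tau S S' V Z₁ Z₂ a b p₁ p₂ φ ψ ρ₁ ρ₂ l τ) {g₀ : G} (hg₀ : g₀ ∈ centralizer (Z₁ : Set G))
    (hc : g₀ * τ * g₀⁻¹ * τ⁻¹ ∈ kk V Z₁) : ∃ k ∈ kk V Z₁, k * g₀ * τ = τ * (k * g₀) := by
  have hτn : τ ∈ normalizer ((kk V Z₁ : Subgroup G) : Set G) := normalizer_le_kk V Z₁ h.nZ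
  have hTn : zpowers τ ≤ normalizer ((kk V Z₁ : Subgroup G) : Set G) := zpowers_le.mpr hτn
  have h1 : g₀ * τ * g₀⁻¹ ∈ kk V Z₁ ⊔ zpowers τ := by
    have e : g₀ * τ * g₀⁻¹ = (g₀ * τ * g₀⁻¹ * τ⁻¹) * τ := by group
    rw [e]
    exact mul_mem (mem_sup_left hc) (mem_sup_right (mem_zpowers τ))
  have hord : orderOf (g₀ * τ * g₀⁻¹) = orderOf τ := by
    have := orderOf_injective (MulAut.conj g₀).toMonoidHom (MulAut.conj g₀).injective τ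
    simpa using this
  obtain ⟨y, hy, hyz⟩ := CycConj.zpowers_conj h.ph.nn.cyc (orderOf τ) (kk V Z₁ ⊔ zpowers τ) τ (g₀ * τ * g₀⁻¹)
    (mem_sup_right (mem_zpowers τ)) h1 rfl hord h.odd
  obtain ⟨k, hk, s, hs, rfl⟩ := exists_mul_of_sup hTn hy
  have hk' : s⁻¹ * k * s ∈ kk V Z₁ := conj_mem_of_normalizer' le_rfl (hTn hs) hk
  refine ⟨s⁻¹ * k * s, hk', ?_⟩
  have h2 : s⁻¹ * k * s * g₀ * τ * (s⁻¹ * k * s * g₀)⁻¹ ∈ zpowers τ := by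
    have h3 : k * s * (g₀ * τ * g₀⁻¹) * (k * s)⁻¹ ∈ zpowers τ := by rw [← hyz]; exact mem_zpowers _
    have e : s⁻¹ * k * s * g₀ * τ * (s⁻¹ * k * s * g₀)⁻¹ = s⁻¹ * (k * s * (g₀ * τ * g₀⁻¹) * (k * s)⁻¹) * s := by group
    rw [e]
    exact mul_mem (mul_mem (inv_mem hs) h3) hs
  have h4 : s⁻¹ * k * s * g₀ ∈ centralizer (Z₁ : Set G) := mul_mem (kk_le V Z₁ hk') hg₀
  have h5 : s⁻¹ * k * s * g₀ * τ * (s⁻¹ * k * s * g₀)⁻¹ * τ⁻¹ ∈ centralizer (Z₁ : Set G) := by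
    have e : s⁻¹ * k * s * g₀ * τ * (s⁻¹ * k * s * g₀)⁻¹ * τ⁻¹ =
        (s⁻¹ * k * s * g₀) * (τ * (s⁻¹ * k * s * g₀)⁻¹ * τ⁻¹) := by group
    rw [e]
    exact mul_mem h4 (NN.conj_C h.nZ (inv_mem h4))
  have h6 := h.eq_one (mul_mem h2 (inv_mem (mem_zpowers τ))) h5
  rw [mul_inv_eq_one, mul_inv_eq_iff_eq_mul] at h6
  exact h6

/-- **the case `q ≥ 8`** -/
theorem big (h : Tau S S' V Z₁ Z₂ a b p₁ p₂ φ ψ ρ₁ ρ₂ l τ) (h8 : 4 < Fintype.card F) {X : Type u} [Group X]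
    [Finite X] (π : mm Z₁ τ →* X)
    (hπ : Function.Surjective π) (hker : ∀ g : mm Z₁ τ, π g = 1 ↔ (g : G) ∈ kk V Z₁) (ho : OddCyc X)
    (ht : TameSec X) (hK : ∀ L : Subgroup X, IsComponent L → KZero L) : False := by
  obtain ⟨c, hc, hct, hcA⟩ := (h.ab π hπ hker ho ht).exists_comm_not hK
  apply hcA
  obtain ⟨⟨g₀, hg₀M⟩, hg₀, rfl⟩ := hc
  have hg₀C : g₀ ∈ centralizer (Z₁ : Set G) := hg₀
  have h1 : g₀ * τ * g₀⁻¹ * τ⁻¹ ∈ kk V Z₁ := by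
    have h2 : π (⟨g₀, hg₀M⟩ * ⟨τ, h.mem_mm⟩ * (⟨g₀, hg₀M⟩)⁻¹ * (⟨τ, h.mem_mm⟩)⁻¹) = 1 := by
      rw [map_mul, map_mul, map_mul, hct, map_inv, map_inv, mul_inv_cancel_right, mul_inv_cancel]
    exact (hker _).mp h2
  obtain ⟨k, hk, hkg⟩ := h.exists_lift hg₀C h1
  have h3 := h.conj_U h8 (mul_mem (kk_le V Z₁ hk) hg₀C) hkg
  have hUM : uu V Z₂ ≤ mm Z₁ τ := h.ph.nn.U_le_CZ.trans h.le_mm
  have h4 : π ⟨k * g₀, mul_mem (h.kk_le_mm hk) hg₀M⟩ = π ⟨g₀, hg₀M⟩ := by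
    have h5 : π ⟨k, h.kk_le_mm hk⟩ = 1 := (hker _).mpr hk
    calc π ⟨k * g₀, mul_mem (h.kk_le_mm hk) hg₀M⟩ = π (⟨k, h.kk_le_mm hk⟩ * ⟨g₀, hg₀M⟩) := rfl
      _ = π ⟨g₀, hg₀M⟩ := by rw [map_mul, h5, one_mul]
  rw [← h4]
  refine mem_normalizer_of_conj ?_
  rintro _ ⟨⟨u, huM⟩, hu, rfl⟩
  have hu' : u ∈ uu V Z₂ := hu
  have h6 := conj_mem_of_normalizer le_rfl h3 hu'
  refine ⟨⟨_, hUM h6⟩, h6, ?_⟩
  rw [← map_mul, ← map_inv, ← map_mul]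
  congr 1

end Tau

end Cfsg.Agent.OddCyclic.NatNonab
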