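import Cfsg.Agent.OddCyclic.NatNonab.Quad

/-!
# `(5*)`, section 3: `q = 4`, counting
-/

set_option autoImplicit false
set_option linter.dupNamespace false
set_option linter.unusedSectionVars false

namespace Cfsg.Agent.OddCyclic.NatNonab

open Subgroup Cfsg Cfsg.Agent.ZN Cfsg.Agent.MinSimple.Geo
open Cfsg.Agent.OddCyclic.T1Defs (OddCyc)
open Cfsg.Agent.OddCyclic.KZeroCongr (KS)
open Cfsg.Agent.ZN.Block (conj_mem_of_normalizer conj_mem_of_normalizer' le_normalizer_of_forall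
  mem_normalizer_of)

universe u

/-- the dual of an elementary abelian 2-group -/
theorem card_dual {Y : Type*} [AddCommGroup Y] [Finite Y] (h2 : ∀ y : Y, y + y = 0) :
    Nat.card (Y →+ ZMod 2) = Nat.card Y := by
  letI : Module (ZMod 2) Y := AddCommGroup.zmodModule (n := 2) (fun x => by rw [two_nsmul]; exact h2 x)
  have e : (Y →+ ZMod 2) ≃ Module.Dual (ZMod 2) Y := (AddMonoidHom.toZModLinearMapEquiv 2).toEquiv
  rw [Nat.card_congr e, Module.natCard_eq_pow_finrank (K := ZMod 2) (V := Module.Dual (ZMod 2) Y),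
    Module.natCard_eq_pow_finrank (K := ZMod 2) (V := Y), Subspace.dual_finrank_eq]

variable {G : Type u} [Group G]
variable {F : Type} [Field F] [Fintype F] [CharP F 2] [Finite G] {S V Z₁ Z₂ : Subgroup G} {a b : F → G}
variable {S' : Subgroup G} {X₁ X₂ : Type u} [AddCommGroup X₁] [AddCommGroup X₂]
    {p₁ : G → X₁} {p₂ : G → X₂} {φ : F →+ X₂ →+ X₁} {ψ : F →+ X₁ →+ X₂}
    {ρ₁ : F →+* AddMonoid.End X₁} {ρ₂ : F →+* AddMonoid.End X₂} {l : F} {τ : G}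

open Classical in
theorem Co.exists_Md (co : Co V Z₁ Z₂ a b) : ∃ ca : G → F, Md Z₁ ⊥ ca ∧ ∀ x, ca (a x) = x := by
  let ca : G → F := fun g => if h : ∃ x, g = a x then h.choose else 0
  have h1 : ∀ x, ca (a x) = x := by
    intro x
    have hx : ∃ y, a x = a y := ⟨x, rfl⟩
    have h2 : ca (a x) = hx.choose := dif_pos hx
    rw [h2]
    exact (co.a_inj hx.choose_spec).symm
  refine ⟨ca, ⟨bot_le, ?_, ?_, ?_, CharTwo.add_self_eq_zero⟩, h1⟩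
  · intro u hu v hv
    obtain ⟨x, rfl⟩ := (co.mem₁ u).mp hu
    obtain ⟨y, rfl⟩ := (co.mem₁ v).mp hv
    rw [← co.a_add, h1, h1, h1]
  · intro u hu
    obtain ⟨x, rfl⟩ := (co.mem₁ u).mp hu
    rw [h1, Subgroup.mem_bot]
    exact ⟨fun e => by rw [e, co.a_zero], fun e => co.a_eq_one e⟩
  · intro x
    exact ⟨a x, co.a_mem x, h1 x⟩

/-- `C_D(τ)` -/
def cd (V Z₁ Z₂ : Subgroup G) (τ : G) : Subgroup G := dd V Z₁ Z₂ ⊓ centralizer ({τ} : Set G)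

namespace Tau

/-- `|C_D(τ)| |D| ≤ |W₁|` -/
theorem card_cd (h : Tau S S' V Z₁ Z₂ a b p₁ p₂ φ ψ ρ₁ ρ₂ l τ) :
    Nat.card (cd V Z₁ Z₂ τ) * Nat.card (dd V Z₁ Z₂) ≤ Nat.card (wp V Z₁) := by
  classical
  have co := h.ph.nn.co
  obtain ⟨ca, hca, hca1⟩ := co.exists_Md
  -- `Y = W₁ / D`
  obtain ⟨Y, iY, pY, hY⟩ := exists_Md (U := wp V Z₁) (D := dd V Z₁ Z₂) inf_le_left
    (fun w hw d hd => h.ph.nn.conj_D hw hd) (fun w hw => h.ph.nn.Z_le_D (h.ph.nn.sq_W hw))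
  have : Finite Y := hY.finite
  rw [hY.card, mul_comm]
  refine Nat.mul_le_mul_left _ ?_
  -- the maps `w ↦ [d, w]`
  have key : ∀ d ∈ dd V Z₁ Z₂, ∃ f : Y →+ F, ∀ w ∈ wp V Z₁, d * w * d⁻¹ * w⁻¹ = a (f (pY w)) := by
    intro d hd
    have hZ : ∀ w ∈ wp V Z₁, d * w * d⁻¹ * w⁻¹ ∈ Z₁ := fun w hw => h.ph.nn.comm_W hd.1 hw
    obtain ⟨f, hf⟩ := hY.lift hca (fun w => d * w * d⁻¹ * w⁻¹) hZ (fun u hu v hv => by
      have h1 := h.ph.nn.W_le_C hu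
      have h2 := mem_centralizer_iff.mp h1 _ (hZ v hv)
      have e : d * (u * v) * d⁻¹ * (u * v)⁻¹ = (d * u * d⁻¹ * u⁻¹) * (u * (d * v * d⁻¹ * v⁻¹) * u⁻¹) := by group
      change d * (u * v) * d⁻¹ * (u * v)⁻¹ * ((d * u * d⁻¹ * u⁻¹) * (d * v * d⁻¹ * v⁻¹))⁻¹ ∈ (⊥ : Subgroup G)
      rw [e, ← h2, mul_inv_cancel_right, mul_inv_cancel]
      exact one_mem _) (fun c hc => by
      change d * c * d⁻¹ * c⁻¹ ∈ (⊥ : Subgroup G)
      rw [h.ph.nn.comm_D hd hc, mul_inv_cancel_right, mul_inv_cancel]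
      exact one_mem _)
    refine ⟨f, fun w hw => ?_⟩
    obtain ⟨x, hx⟩ := (co.mem₁ _).mp (hZ w hw)
    rw [hf w hw, hx, hca1]
  choose f hf using key
  -- a functional
  obtain ⟨lam, hlam⟩ : ∃ lam : F →+ ZMod 2, ∃ x, lam x ≠ 0 := by
    by_contra hcon
    push Not at hcon
    have h1 : Nat.card (F →+ ZMod 2) = Nat.card F := card_dual CharTwo.add_self_eq_zero
    have h2 : Subsingleton (F →+ ZMod 2) := ⟨fun x y => by ext z; rw [hcon x z, hcon y z]⟩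
    rw [Nat.card_unique, Nat.card_eq_fintype_card] at h1
    have := h.ph.nn.four
    omega
  obtain ⟨x₀, hx₀⟩ := hlam
  rw [← card_dual hY.two]
  let Φ : cd V Z₁ Z₂ τ → (Y →+ ZMod 2) := fun d => lam.comp (f d d.2.1)
  have : Finite (Y →+ ZMod 2) := DFunLike.finite _
  refine Nat.card_le_card_of_injective Φ ?_
  rintro ⟨d, hd⟩ ⟨d', hd'⟩ e
  have hdτ : ∀ d ∈ cd V Z₁ Z₂ τ, d * τ = τ * d := fun d hd => (mem_centralizer_singleton_iff.mp hd.2)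
  -- equivariance
  have heq : ∀ (d : G) (hd : d ∈ cd V Z₁ Z₂ τ) (k : ℕ), ∀ w ∈ wp V Z₁,
      f d hd.1 (pY (τ ^ k * w * (τ ^ k)⁻¹)) = l ^ k * f d hd.1 (pY w) := by
    intro d hd k w hw
    have hDi := (h.dg.pow k).di
    have hw' : τ ^ k * w * (τ ^ k)⁻¹ ∈ wp V Z₁ := conj_mem_wp (h.ph.nn.Di_nZ hDi) hw
    have hck : d * τ ^ k = τ ^ k * d := (Commute.pow_right (show Commute d τ from hdτ d hd) k)
    have hck' : d⁻¹ * τ ^ k = τ ^ k * d⁻¹ := by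
      rw [inv_mul_eq_iff_eq_mul, ← mul_assoc, hck, mul_inv_cancel_right]
    have h1 := hf d hd.1 _ hw'
    have h2 := hf d hd.1 w hw
    have h3 : d * (τ ^ k * w * (τ ^ k)⁻¹) * d⁻¹ * (τ ^ k * w * (τ ^ k)⁻¹)⁻¹ =
        τ ^ k * (d * w * d⁻¹ * w⁻¹) * (τ ^ k)⁻¹ := by
      calc d * (τ ^ k * w * (τ ^ k)⁻¹) * d⁻¹ * (τ ^ k * w * (τ ^ k)⁻¹)⁻¹
          = (d * τ ^ k) * w * (τ ^ k)⁻¹ * (d⁻¹ * τ ^ k) * w⁻¹ * (τ ^ k)⁻¹ := by group
        _ = (τ ^ k * d) * w * (τ ^ k)⁻¹ * (τ ^ k * d⁻¹) * w⁻¹ * (τ ^ k)⁻¹ := by rw [hck, hck']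
        _ = _ := by group
    rw [h3, h2, h.ph.nn.Di_a hDi] at h1
    exact (co.a_inj h1).symm
  -- `f d = f d'`
  have hfd : ∀ w ∈ wp V Z₁, f d hd.1 (pY w) = f d' hd'.1 (pY w) := by
    intro w hw
    by_contra hne
    have hne' : f d hd.1 (pY w) - f d' hd'.1 (pY w) ≠ 0 := sub_ne_zero.mpr hne
    set δ := f d hd.1 (pY w) - f d' hd'.1 (pY w) with hδ
    apply hx₀
    by_cases hx : x₀ = 0
    · rw [hx, map_zero]
    · obtain ⟨k, hk⟩ := h.gen (x₀ * δ⁻¹) (mul_ne_zero hx (inv_ne_zero hne'))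
      have h1 : x₀ = l ^ k * δ := by rw [← hk, inv_mul_cancel_right₀ hne']
      have hDi := (h.dg.pow k).di
      have hw' : τ ^ k * w * (τ ^ k)⁻¹ ∈ wp V Z₁ := conj_mem_wp (h.ph.nn.Di_nZ hDi) hw
      have h2 := DFunLike.congr_fun e (pY (τ ^ k * w * (τ ^ k)⁻¹))
      change lam (f d hd.1 (pY (τ ^ k * w * (τ ^ k)⁻¹))) = lam (f d' hd'.1 (pY (τ ^ k * w * (τ ^ k)⁻¹))) at h2
      rw [heq d hd k w hw, heq d' hd' k w hw] at h2
      rw [h1, hδ, mul_sub, map_sub, h2, sub_self]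
  -- `d'⁻¹ d` centralises `W₁`
  have h1 : d'⁻¹ * d = 1 := by
    refine h.cent_W (mul_mem (inv_mem hd'.1) hd.1) ?_ ?_
    · have h2 : d'⁻¹ * τ = τ * d'⁻¹ := by
        rw [inv_mul_eq_iff_eq_mul, ← mul_assoc, hdτ d' hd', mul_inv_cancel_right]
      rw [mul_assoc, hdτ d hd, ← mul_assoc, h2, mul_assoc]
    · refine mem_centralizer_iff.mpr fun w hw => ?_
      have h2 : d * w * d⁻¹ * w⁻¹ = d' * w * d'⁻¹ * w⁻¹ := by
        rw [hf d hd.1 w hw, hf d' hd'.1 w hw, hfd w hw]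
      have h3 : d * w * d⁻¹ = d' * w * d'⁻¹ := mul_right_cancel h2
      calc w * (d'⁻¹ * d) = d'⁻¹ * (d' * w * d'⁻¹) * d := by group
        _ = d'⁻¹ * (d * w * d⁻¹) * d := by rw [h3]
        _ = d'⁻¹ * d * w := by group
  exact Subtype.ext (inv_mul_eq_one.mp h1).symm

/-- `D = V C_D(τ)` for `q = 4` -/
theorem exists_fix (h : Tau S S' V Z₁ Z₂ a b p₁ p₂ φ ψ ρ₁ ρ₂ l τ) (h4 : Fintype.card F = 4) {d : G}
    (hd : d ∈ dd V Z₁ Z₂) : ∃ v ∈ V, ∃ c ∈ cd V Z₁ Z₂ τ, d = v * c := by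
  have nn := h.ph.nn
  have hτ3 : τ * τ * τ = 1 := by
    have := h.pow
    rw [h4] at this
    calc τ * τ * τ = τ ^ (4 - 1) := by rw [show 4 - 1 = 3 from rfl, pow_succ, pow_two]
      _ = 1 := this
  have hn : τ ∈ normalizer ((dd V Z₁ Z₂ : Subgroup G) : Set G) := by
    have : wp V Z₁ ⊔ wp V Z₂ ≤ normalizer ((dd V Z₁ Z₂ : Subgroup G) : Set G) := sup_le nn.W_le_ND nn.W_le_ND'
    exact this h.dg.memY
  have hd1 : τ * d * τ⁻¹ ∈ dd V Z₁ Z₂ := conj_mem_of_normalizer le_rfl hn hd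
  have hd2 : τ * (τ * d * τ⁻¹) * τ⁻¹ ∈ dd V Z₁ Z₂ := conj_mem_of_normalizer le_rfl hn hd1
  have hv1 := h.comm_Dτ hd
  have hv2 := h.comm_Dτ hd1
  set d1 := τ * d * τ⁻¹ with hd1d
  set d2 := τ * d1 * τ⁻¹ with hd2d
  have hd3 : τ * d2 * τ⁻¹ = d := by
    have hτi : τ⁻¹ * τ⁻¹ * τ⁻¹ = 1 := by
      have := congrArg (·⁻¹) hτ3
      simpa [mul_inv_rev, mul_assoc] using this
    calc τ * d2 * τ⁻¹ = (τ * τ * τ) * d * (τ⁻¹ * τ⁻¹ * τ⁻¹) := by rw [hd2d, hd1d]; group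
      _ = d := by rw [hτ3, hτi, one_mul, mul_one]
  have hvD : ∀ v ∈ V, v ∈ dd V Z₁ Z₂ := fun v hv => nn.V_le_D hv
  -- `c = d d1 d2`
  refine ⟨(d * d1 * d2 * d⁻¹)⁻¹, ?_, d * d1 * d2, ⟨mul_mem (mul_mem hd hd1) hd2, ?_⟩, ?_⟩
  · refine inv_mem ?_
    have e : d * d1 * d2 * d⁻¹ = (d * d) * (d1 * d⁻¹) * ((d2 * d1⁻¹) * (d1 * d⁻¹)) := by
      have c1 := nn.comm_D hd hd1
      have c2 := nn.comm_D hd hd2
      have c3 : d⁻¹ = d := inv_eq_of_mul_eq_one_left (nn.sq_D hd)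
      have c4 : d1⁻¹ = d1 := inv_eq_of_mul_eq_one_left (nn.sq_D hd1)
      have s := nn.sq_D hd
      have s1 := nn.sq_D hd1
      rw [c3, c4, s, one_mul]
      calc d * d1 * d2 * d = d1 * d * d2 * d := by rw [c1]
        _ = d1 * d * d2 * (d1 * d1) * d := by rw [s1, mul_one]
        _ = _ := by group
    rw [e, nn.sq_D hd, one_mul]
    have e1 : d2 * d1⁻¹ ∈ V := hv2
    exact mul_mem hv1 (mul_mem e1 hv1)
  · change d * d1 * d2 ∈ centralizer ({τ} : Set G)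
    rw [mem_centralizer_singleton_iff]
    have e : τ * (d * d1 * d2) * τ⁻¹ = d * d1 * d2 := by
      calc τ * (d * d1 * d2) * τ⁻¹ = d1 * d2 * (τ * d2 * τ⁻¹) := by rw [hd2d, hd1d]; group
        _ = d1 * d2 * d := by rw [hd3]
        _ = d * d1 * d2 := by
          rw [mul_assoc, nn.comm_D hd2 hd, ← mul_assoc, nn.comm_D hd1 hd]
    rw [mul_inv_eq_iff_eq_mul] at e
    exact e.symm
  · group

theorem card_D_le (h : Tau S S' V Z₁ Z₂ a b p₁ p₂ φ ψ ρ₁ ρ₂ l τ) (h4 : Fintype.card F = 4) :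
    Nat.card (dd V Z₁ Z₂) ≤ 16 * Nat.card (cd V Z₁ Z₂ τ) := by
  have hV : Nat.card V = 16 := by rw [h.ph.nn.co.card_V, Nat.card_eq_fintype_card, h4]
  rw [← hV, ← Nat.card_prod]
  let f : V × cd V Z₁ Z₂ τ → dd V Z₁ Z₂ := fun x => ⟨x.1 * x.2, mul_mem (h.ph.nn.V_le_D x.1.2) x.2.2.1⟩
  refine Nat.card_le_card_of_surjective f ?_
  rintro ⟨d, hd⟩
  obtain ⟨v, hv, c, hc, rfl⟩ := h.exists_fix h4 hd
  exact ⟨(⟨v, hv⟩, ⟨c, hc⟩), rfl⟩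

/-- **(3.2)** `|W₁| ≤ 4 · 64 |X₁|²` -/
theorem card_W_le (h : Tau S S' V Z₁ Z₂ a b p₁ p₂ φ ψ ρ₁ ρ₂ l τ) (h4 : Fintype.card F = 4) :
    Nat.card (wp V Z₁) ≤ 4 * (64 * (Nat.card X₁ * Nat.card X₁)) := by
  have h1 := h.ph.nn.Md_rt.card
  have h2 := h.ph.m₁.card
  have h3 := h.card_cd
  have h5 := h.card_D_le h4
  have hF : Nat.card F = 4 := by rw [Nat.card_eq_fintype_card, h4]
  rw [hF] at h1
  have hD : 0 < Nat.card (dd V Z₁ Z₂) := Nat.card_pos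
  rw [h1, h2] at h3 ⊢
  -- `|cd| ≤ 4 |X₁|`
  have h6 : Nat.card (cd V Z₁ Z₂ τ) ≤ Nat.card X₁ * 4 := by
    have : Nat.card (cd V Z₁ Z₂ τ) * Nat.card (dd V Z₁ Z₂) ≤ (Nat.card X₁ * 4) * Nat.card (dd V Z₁ Z₂) := by
      calc _ ≤ _ := h3
        _ = _ := by ring
    exact Nat.le_of_mul_le_mul_right this hD
  have h7 : Nat.card (dd V Z₁ Z₂) ≤ 64 * Nat.card X₁ := by omega
  calc Nat.card (dd V Z₁ Z₂) * Nat.card X₁ * 4 ≤ 64 * Nat.card X₁ * Nat.card X₁ * 4 :=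
        Nat.mul_le_mul_right _ (Nat.mul_le_mul_right _ h7)
    _ = _ := by ring

end Tau

end Cfsg.Agent.OddCyclic.NatNonab
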