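import Mathlib

/-!
# Elementary abelian sections as additive groups

`Md U D p`: `p : G → X` restricts to a surjective homomorphism of `U` onto the additive group `X` of exponent 2 with
kernel `D`.
-/

set_option autoImplicit false
set_option linter.dupNamespace false

namespace Cfsg.Agent.OddCyclic.NatNonab

open Subgroup

universe u

variable {G : Type u} [Group G]

/-- `p` identifies `U / D` with `X` -/
structure Md (U D : Subgroup G) {X : Type*} [AddCommGroup X] (p : G → X) : Prop where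
  le : D ≤ U
  mul : ∀ u ∈ U, ∀ v ∈ U, p (u * v) = p u + p v
  zero : ∀ u ∈ U, p u = 0 ↔ u ∈ D
  surj : ∀ x, ∃ u ∈ U, p u = x
  two : ∀ x : X, x + x = 0

namespace Md

variable {U D : Subgroup G} {X : Type*} [AddCommGroup X] {p : G → X}

theorem one (h : Md U D p) : p 1 = 0 := (h.zero 1 (one_mem _)).mpr (one_mem _)

theorem neg_eq (h : Md U D p) (x : X) : -x = x := by
  rw [neg_eq_iff_add_eq_zero]; exact h.two x

theorem add_eq_zero (h : Md U D p) {x y : X} : x + y = 0 ↔ x = y := by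
  rw [add_eq_zero_iff_eq_neg, h.neg_eq]

theorem inv (h : Md U D p) {u : G} (hu : u ∈ U) : p u⁻¹ = p u := by
  have h1 := h.mul u⁻¹ (inv_mem hu) u hu
  rw [inv_mul_cancel, h.one] at h1
  exact h.add_eq_zero.mp h1.symm

theorem of_mem (h : Md U D p) {d : G} (hd : d ∈ D) : p d = 0 := (h.zero d (h.le hd)).mpr hd

theorem mul_right (h : Md U D p) {u d : G} (hu : u ∈ U) (hd : d ∈ D) : p (u * d) = p u := by
  rw [h.mul u hu d (h.le hd), h.of_mem hd, add_zero]

theorem mul_left (h : Md U D p) {u d : G} (hu : u ∈ U) (hd : d ∈ D) : p (d * u) = p u := by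
  rw [h.mul d (h.le hd) u hu, h.of_mem hd, zero_add]

theorem eq_iff (h : Md U D p) {u v : G} (hu : u ∈ U) (hv : v ∈ U) : p u = p v ↔ u * v⁻¹ ∈ D := by
  rw [← h.zero _ (mul_mem hu (inv_mem hv)), h.mul u hu _ (inv_mem hv), h.inv hv, h.add_eq_zero]

/-- the homomorphism -/
noncomputable def hom (h : Md U D p) : U →* Multiplicative X where
  toFun u := Multiplicative.ofAdd (p u)
  map_one' := by
    change Multiplicative.ofAdd (p 1) = 1
    rw [h.one]; rfl
  map_mul' u v := by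
    change Multiplicative.ofAdd (p (u * v)) = _
    rw [h.mul u u.2 v v.2]; rfl

theorem hom_surj (h : Md U D p) : Function.Surjective h.hom := by
  intro x
  obtain ⟨u, hu, e⟩ := h.surj (Multiplicative.toAdd x)
  refine ⟨⟨u, hu⟩, ?_⟩
  change Multiplicative.ofAdd (p u) = x
  rw [e]; rfl

theorem ker_hom (h : Md U D p) : h.hom.ker = D.subgroupOf U := by
  ext u
  rw [MonoidHom.mem_ker, mem_subgroupOf, ← h.zero u u.2]
  constructor
  · intro e
    exact congrArg Multiplicative.toAdd e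
  · intro e
    exact congrArg Multiplicative.ofAdd e

theorem card [Finite G] (h : Md U D p) : Nat.card U = Nat.card D * Nat.card X := by
  have h1 : Nat.card (D.subgroupOf U) = Nat.card D := Nat.card_congr (subgroupOfEquivOfLe h.le).toEquiv
  have h2 : (D.subgroupOf U).index = Nat.card X := by
    rw [← h.ker_hom, Subgroup.index_ker, MonoidHom.range_eq_top.mpr h.hom_surj]
    rw [Nat.card_congr (Subgroup.topEquiv).toEquiv]
    exact Nat.card_congr Multiplicative.toAdd
  rw [← h1, ← h2, Subgroup.card_mul_index]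

theorem relIndex [Finite G] (h : Md U D p) : D.relIndex U = Nat.card X := by
  rw [Subgroup.relIndex, ← h.ker_hom, Subgroup.index_ker, MonoidHom.range_eq_top.mpr h.hom_surj]
  rw [Nat.card_congr (Subgroup.topEquiv).toEquiv]
  exact Nat.card_congr Multiplicative.toAdd

theorem finite [Finite G] (h : Md U D p) : Finite X := by
  have : Function.Surjective (fun u : U => p u) := fun x => by
    obtain ⟨u, hu, e⟩ := h.surj x
    exact ⟨⟨u, hu⟩, e⟩
  exact Finite.of_surjective _ this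

theorem conj_mem (h : Md U D p) {u d : G} (hu : u ∈ U) (hd : d ∈ D) : u * d * u⁻¹ ∈ D := by
  have hdU := h.le hd
  rw [← h.zero _ (mul_mem (mul_mem hu hdU) (inv_mem hu)), h.mul _ (mul_mem hu hdU) _ (inv_mem hu),
    h.mul u hu d hdU, h.inv hu, h.of_mem hd, add_zero]
  exact h.two _

theorem comm_mem (h : Md U D p) {u v : G} (hu : u ∈ U) (hv : v ∈ U) : u * v * u⁻¹ * v⁻¹ ∈ D := by
  rw [← h.zero _ (mul_mem (mul_mem (mul_mem hu hv) (inv_mem hu)) (inv_mem hv)),
    h.mul _ (mul_mem (mul_mem hu hv) (inv_mem hu)) _ (inv_mem hv), h.mul _ (mul_mem hu hv) _ (inv_mem hu),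
    h.mul u hu v hv, h.inv hu, h.inv hv]
  rw [add_assoc (p u + p v), h.two]

theorem sq_mem (h : Md U D p) {u : G} (hu : u ∈ U) : u * u ∈ D := by
  rw [← h.zero _ (mul_mem hu hu), h.mul u hu u hu]
  exact h.two _

/-- maps induced on sections -/
theorem lift (h : Md U D p) {U' D' : Subgroup G} {X' : Type*} [AddCommGroup X'] {p' : G → X'} (h' : Md U' D' p')
    (f : G → G) (h1 : ∀ u ∈ U, f u ∈ U') (h2 : ∀ u ∈ U, ∀ v ∈ U, f (u * v) * (f u * f v)⁻¹ ∈ D')
    (h3 : ∀ d ∈ D, f d ∈ D') : ∃ φ : X →+ X', ∀ u ∈ U, φ (p u) = p' (f u) := by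
  classical
  have hm : ∀ u ∈ U, ∀ v ∈ U, p' (f (u * v)) = p' (f u) + p' (f v) := by
    intro u hu v hv
    rw [← h'.mul _ (h1 u hu) _ (h1 v hv), h'.eq_iff (h1 _ (mul_mem hu hv)) (mul_mem (h1 u hu) (h1 v hv))]
    exact h2 u hu v hv
  have hw : ∀ u ∈ U, ∀ v ∈ U, p u = p v → p' (f u) = p' (f v) := by
    intro u hu v hv e
    have h4 := (h.eq_iff hu hv).mp e
    have h5 : u = (u * v⁻¹) * v := by group
    rw [h5, hm _ (mul_mem hu (inv_mem hv)) _ hv, h'.of_mem (h3 _ h4), zero_add]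
  choose s hs hs' using h.surj
  refine ⟨⟨⟨fun x => p' (f (s x)), ?_⟩, ?_⟩, fun u hu => ?_⟩
  · have : s 0 ∈ D := (h.zero _ (hs 0)).mp (hs' 0)
    exact h'.of_mem (h3 _ this)
  · intro x y
    change p' (f (s (x + y))) = p' (f (s x)) + p' (f (s y))
    rw [← hm _ (hs x) _ (hs y)]
    refine hw _ (hs _) _ (mul_mem (hs x) (hs y)) ?_
    rw [h.mul _ (hs x) _ (hs y), hs', hs', hs']
  · exact hw _ (hs _) _ hu (hs' _)

end Md

/-- **existence of `Md`** -/
theorem exists_Md {U D : Subgroup G} (hDU : D ≤ U) (hn : ∀ u ∈ U, ∀ d ∈ D, u * d * u⁻¹ ∈ D)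
    (hsq : ∀ u ∈ U, u * u ∈ D) :
    ∃ (X : Type u) (_ : AddCommGroup X) (p : G → X), Md U D p := by
  classical
  have hN : (D.subgroupOf U).Normal := ⟨fun d hd u => hn u u.2 d hd⟩
  have hsq' : ∀ x : U ⧸ D.subgroupOf U, x * x = 1 := by
    intro x
    obtain ⟨u, rfl⟩ := QuotientGroup.mk_surjective x
    rw [← QuotientGroup.mk_mul, QuotientGroup.eq_one_iff]
    exact hsq u u.2
  have hinv : ∀ x : U ⧸ D.subgroupOf U, x⁻¹ = x := fun x => inv_eq_of_mul_eq_one_left (hsq' x)
  have hcomm : ∀ x y : U ⧸ D.subgroupOf U, x * y = y * x := by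
    intro x y
    have h1 := hinv (x * y)
    rw [mul_inv_rev, hinv, hinv] at h1
    exact h1.symm
  let i : CommGroup (U ⧸ D.subgroupOf U) := { (inferInstance : Group (U ⧸ D.subgroupOf U)) with mul_comm := hcomm }
  let p : G → Additive (U ⧸ D.subgroupOf U) := fun g =>
    if hg : g ∈ U then Additive.ofMul (QuotientGroup.mk (⟨g, hg⟩ : U)) else 0
  have hp : ∀ g (hg : g ∈ U), p g = Additive.ofMul (QuotientGroup.mk (⟨g, hg⟩ : U)) := fun g hg => dif_pos hg
  refine ⟨Additive (U ⧸ D.subgroupOf U), inferInstance, p, hDU, ?_, ?_, ?_, ?_⟩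
  · intro u hu v hv
    rw [hp _ (mul_mem hu hv), hp _ hu, hp _ hv, ← ofMul_mul]
    rfl
  · intro u hu
    rw [hp _ hu, ofMul_eq_zero, QuotientGroup.eq_one_iff]
    exact Iff.rfl
  · intro x
    obtain ⟨u, hu⟩ := QuotientGroup.mk_surjective (Additive.toMul x)
    refine ⟨u, u.2, ?_⟩
    rw [hp _ u.2]
    exact congrArg Additive.ofMul hu
  · intro x
    exact congrArg Additive.ofMul (hsq' (Additive.toMul x))

end Cfsg.Agent.OddCyclic.NatNonab
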