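import Cfsg.Agent.OddCyclic.NatNonab.Wp
import Cfsg.Agent.OddCyclic.NatNonab.Md

/-!
# `(5*)`: `D = W₁ ∩ W₂` and `Uᵢ = C_{Wᵢ}(V)`
-/

set_option autoImplicit false
set_option linter.dupNamespace false
set_option linter.unusedSectionVars false

namespace Cfsg.Agent.OddCyclic.NatNonab

open Subgroup Cfsg Cfsg.Agent.ZN Cfsg.Agent.MinSimple.Geo
open Cfsg.Agent.OddCyclic.T1Defs (OddCyc)
open Cfsg.Agent.ZN.Block (conj_mem_of_normalizer conj_mem_of_normalizer' le_normalizer_of_forall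
  mem_normalizer_of)

universe u

variable {G : Type u} [Group G]

theorem cj_centralizer (g : G) (H : Subgroup G) :
    cj g (centralizer (H : Set G)) = centralizer ((cj g H : Subgroup G) : Set G) := by
  ext x
  rw [mem_cj, mem_centralizer_iff, mem_centralizer_iff]
  constructor
  · intro h y hy
    have h1 := h _ (mem_cj.mp hy)
    calc y * x = g * ((g⁻¹ * y * g) * (g⁻¹ * x * g)) * g⁻¹ := by group
      _ = g * ((g⁻¹ * x * g) * (g⁻¹ * y * g)) * g⁻¹ := by rw [h1]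
      _ = x * y := by group
  · intro h y hy
    have h1 := h _ (conj_mem_cj (g := g) hy)
    calc y * (g⁻¹ * x * g) = g⁻¹ * ((g * y * g⁻¹) * x) * g := by group
      _ = g⁻¹ * (x * (g * y * g⁻¹)) * g := by rw [h1]
      _ = g⁻¹ * x * g * y := by group

theorem cj_eq_of_mem {g : G} {H : Subgroup G} (h : g ∈ H) : cj g H = H :=
  cj_eq_of_mem_normalizer (le_normalizer h)

/-- `D` -/
def dd (V Z₁ Z₂ : Subgroup G) : Subgroup G := wp V Z₁ ⊓ wp V Z₂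

/-- `U_i` -/
def uu (V Z : Subgroup G) : Subgroup G := wp V Z ⊓ centralizer (V : Set G)

theorem dd_symm (V Z₁ Z₂ : Subgroup G) : dd V Z₁ Z₂ = dd V Z₂ Z₁ := inf_comm _ _

theorem cj_dd {V : Subgroup G} {g : G} (hg : g ∈ normalizer (V : Set G)) (Z₁ Z₂ : Subgroup G) :
    cj g (dd V Z₁ Z₂) = dd V (cj g Z₁) (cj g Z₂) := by
  rw [dd, cj_inf, cj_wp_of_mem hg, cj_wp_of_mem hg, dd]

theorem cj_uu {V : Subgroup G} {g : G} (hg : g ∈ normalizer (V : Set G)) (Z : Subgroup G) :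
    cj g (uu V Z) = uu V (cj g Z) := by
  rw [uu, cj_inf, cj_wp_of_mem hg, cj_centralizer, cj_eq_of_mem_normalizer hg, uu]

variable {F : Type} [Field F] [Fintype F] [CharP F 2] [Finite G] {S V Z₁ Z₂ : Subgroup G} {a b : F → G}

namespace NN

theorem V_le_D (_h : NN S V Z₁ Z₂ a b) : V ≤ dd V Z₁ Z₂ := le_inf (le_wp _ _) (le_wp _ _)

theorem Z_le_D (h : NN S V Z₁ Z₂ a b) : Z₁ ≤ dd V Z₁ Z₂ := h.co.Z₁_le.trans h.V_le_D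

theorem conj_D (h : NN S V Z₁ Z₂ a b) {w d : G} (hw : w ∈ wp V Z₁) (hd : d ∈ dd V Z₁ Z₂) :
    w * d * w⁻¹ ∈ dd V Z₁ Z₂ := by
  have h1 := h.Z_le_D (h.comm_W hw hd.1)
  have e : w * d * w⁻¹ = (w * d * w⁻¹ * d⁻¹) * d := by group
  rw [e]; exact mul_mem h1 hd

theorem W_le_ND (h : NN S V Z₁ Z₂ a b) : wp V Z₁ ≤ normalizer ((dd V Z₁ Z₂ : Subgroup G) : Set G) :=
  le_normalizer_of_forall fun _ hw _ hd => h.conj_D hw hd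

theorem W_le_ND' (h : NN S V Z₁ Z₂ a b) : wp V Z₂ ≤ normalizer ((dd V Z₁ Z₂ : Subgroup G) : Set G) := by
  obtain ⟨S', h'⟩ := h.symm
  rw [dd_symm]; exact h'.W_le_ND

theorem comm_D (h : NN S V Z₁ Z₂ a b) {c d : G} (hc : c ∈ dd V Z₁ Z₂) (hd : d ∈ dd V Z₁ Z₂) : c * d = d * c := by
  obtain ⟨S', h'⟩ := h.symm
  have h1 := h.co.inf_eq (h.comm_W hc.1 hd.1) (h'.comm_W hc.2 hd.2)
  rw [mul_inv_eq_one, mul_inv_eq_iff_eq_mul] at h1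
  exact h1

theorem sq_D (h : NN S V Z₁ Z₂ a b) {d : G} (hd : d ∈ dd V Z₁ Z₂) : d * d = 1 := by
  obtain ⟨S', h'⟩ := h.symm
  exact h.co.inf_eq (h.sq_W hd.1) (h'.sq_W hd.2)

theorem D_le_CV (h : NN S V Z₁ Z₂ a b) : dd V Z₁ Z₂ ≤ centralizer (V : Set G) := fun _ hd =>
  mem_centralizer_iff.mpr fun _ hv => h.comm_D (h.V_le_D hv) hd

theorem D_le_U (h : NN S V Z₁ Z₂ a b) : dd V Z₁ Z₂ ≤ uu V Z₁ := le_inf inf_le_left h.D_le_CV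

theorem D_le_U' (h : NN S V Z₁ Z₂ a b) : dd V Z₁ Z₂ ≤ uu V Z₂ := le_inf inf_le_right h.D_le_CV

/-- membership in `Z₂ ^ w` -/
theorem mem_cj_Z₂ (h : NN S V Z₁ Z₂ a b) {w : G} (hw : w ∈ wp V Z₁) (g : G) :
    g ∈ cj w Z₂ ↔ ∃ y, g = a (rt a b w * y) * b y := by
  rw [mem_cj, h.co.mem₂]
  constructor
  · rintro ⟨y, hy⟩
    refine ⟨y, ?_⟩
    rw [← h.rt_eq hw, ← hy]; group
  · rintro ⟨y, rfl⟩
    refine ⟨y, ?_⟩
    rw [← h.rt_eq hw]; group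

/-- `Z₂ ^ w = Z₁ ^ u` for suitable `u ∈ W₂` -/
theorem exists_cj_Z₁ (h : NN S V Z₁ Z₂ a b) {w : G} (hw : w ∈ wp V Z₁) (ht : rt a b w ≠ 0) :
    ∃ u ∈ wp V Z₂, rt b a u = (rt a b w)⁻¹ ∧ cj u Z₁ = cj w Z₂ := by
  obtain ⟨S', h'⟩ := h.symm
  obtain ⟨u, hu, hut⟩ := h'.exists_rt (rt a b w)⁻¹
  refine ⟨u, hu, hut, ?_⟩
  ext g
  rw [h'.mem_cj_Z₂ hu, h.mem_cj_Z₂ hw, hut]
  constructor
  · rintro ⟨y, rfl⟩
    refine ⟨(rt a b w)⁻¹ * y, ?_⟩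
    rw [mul_inv_cancel_left₀ ht, h'.co.comm]
  · rintro ⟨y, rfl⟩
    refine ⟨rt a b w * y, ?_⟩
    rw [inv_mul_cancel_left₀ ht, h'.co.comm]

theorem W_le_NV' (h : NN S V Z₁ Z₂ a b) : wp V Z₂ ≤ normalizer (V : Set G) := by
  obtain ⟨S', h'⟩ := h.symm
  exact h'.W_le_N

/-- **(1.3)** `W₂ ∩ W₂ ^ w = D` -/
theorem inf_cj (h : NN S V Z₁ Z₂ a b) {w : G} (hw : w ∈ wp V Z₁) (ht : rt a b w ≠ 0) :
    wp V Z₂ ⊓ cj w (wp V Z₂) = dd V Z₁ Z₂ := by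
  obtain ⟨u, hu, -, hZ⟩ := h.exists_cj_Z₁ hw ht
  have hu2 : cj u (wp V Z₂) = wp V Z₂ := cj_eq_of_mem hu
  rw [cj_wp_of_mem (h.W_le_N hw), ← hZ, ← cj_wp_of_mem (h.W_le_NV' hu)]
  conv_lhs => rw [← hu2]
  rw [← cj_inf, inf_comm]
  change cj u (dd V Z₁ Z₂) = _
  exact cj_eq_of_mem_normalizer (h.W_le_ND' hu)

/-- **(iv)** `S` normalises `D` -/
theorem S_le_ND (h : NN S V Z₁ Z₂ a b) : S ≤ normalizer ((dd V Z₁ Z₂ : Subgroup G) : Set G) := by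
  intro s hs
  obtain ⟨t, ht⟩ := h.pts s hs
  obtain ⟨w, hw, hwt⟩ := h.exists_rt t
  have h1 : cj s Z₂ = cj w Z₂ := by
    have hle : cj s Z₂ ≤ cj w Z₂ := by
      intro g hg
      obtain ⟨y, hy⟩ := (h.co.mem₂ _).mp (mem_cj.mp hg)
      obtain ⟨y', hy'⟩ := ht y
      refine (h.mem_cj_Z₂ hw g).mpr ⟨y', ?_⟩
      rw [hwt, ← hy', ← hy]; group
    exact eq_of_le_of_card_ge hle (by rw [card_cj, card_cj])
  have h2 := cj_eq_of_mem_normalizer (h.W_le_ND hw)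
  rw [cj_dd (h.W_le_N hw), cj_eq_of_mem_normalizer (h.W_le_NZ hw)] at h2
  rw [mem_normalizer_iff_cj, cj_dd (h.le' hs), cj_eq_of_mem_normalizer (h.le hs), h1, h2]

/-! ### `U₁`, `U₂` -/

theorem conj_CV {g c : G} (hg : g ∈ normalizer (V : Set G)) (hc : c ∈ centralizer (V : Set G)) :
    g * c * g⁻¹ ∈ centralizer (V : Set G) := conj_C hg hc

theorem U_le_CZ (h : NN S V Z₁ Z₂ a b) {Z : Subgroup G} : uu V Z ≤ centralizer (Z₁ : Set G) :=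
  inf_le_right.trans h.CV_le_C

theorem U'_le_NZ (h : NN S V Z₁ Z₂ a b) {Z : Subgroup G} : uu V Z ≤ normalizer (Z₁ : Set G) :=
  h.U_le_CZ.trans C_le_N

theorem U_le_NV {Z : Subgroup G} : uu V Z ≤ normalizer (V : Set G) :=
  inf_le_right.trans (centralizer_le_normalizer _)

/-- `[W₁, U₂] ≤ U₁` -/
theorem comm_WU (h : NN S V Z₁ Z₂ a b) {w u : G} (hw : w ∈ wp V Z₁) (hu : u ∈ uu V Z₂) :
    u * w * u⁻¹ * w⁻¹ ∈ uu V Z₁ := by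
  have h0 : u * w * u⁻¹ * w⁻¹ ∈ wp V Z₁ := mul_mem (conj_mem_wp (h.U'_le_NZ hu) hw) (inv_mem hw)
  refine ⟨h0, ?_⟩
  have hu2 : u ∈ centralizer (V : Set G) := hu.2
  have h1 : w * u⁻¹ * w⁻¹ ∈ centralizer (V : Set G) := conj_CV (h.W_le_N hw) (inv_mem hu2)
  have e : u * w * u⁻¹ * w⁻¹ = u * (w * u⁻¹ * w⁻¹) := by group
  change u * w * u⁻¹ * w⁻¹ ∈ centralizer (V : Set G)
  rw [e]
  exact mul_mem hu2 h1

/-- `[U₁, U₂] ≤ D` -/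
theorem comm_UU (h : NN S V Z₁ Z₂ a b) {w u : G} (hw : w ∈ uu V Z₁) (hu : u ∈ uu V Z₂) :
    u * w * u⁻¹ * w⁻¹ ∈ dd V Z₁ Z₂ := by
  obtain ⟨S', h'⟩ := h.symm
  have h1 := h.comm_WU hw.1 hu
  have h2 := inv_mem (h'.comm_WU hu.1 hw)
  have e : (w * u * w⁻¹ * u⁻¹)⁻¹ = u * w * u⁻¹ * w⁻¹ := by group
  rw [e] at h2
  exact ⟨h1.1, h2.1⟩

/-- `[U₁, W₁] ≤ Z₁` -/
theorem UU_inf (h : NN S V Z₁ Z₂ a b) : uu V Z₁ ⊓ uu V Z₂ = dd V Z₁ Z₂ := by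
  refine le_antisymm (fun x hx => ⟨hx.1.1, hx.2.1⟩) (le_inf h.D_le_U h.D_le_U')

/-- **(1.4)** `φ_t` is injective -/
theorem comm_inj (h : NN S V Z₁ Z₂ a b) {w u : G} (hw : w ∈ wp V Z₁) (ht : rt a b w ≠ 0) (hu : u ∈ uu V Z₂)
    (hd : u * w * u⁻¹ * w⁻¹ ∈ dd V Z₁ Z₂) : u ∈ dd V Z₁ Z₂ := by
  have h1 : w * u * w⁻¹ ∈ cj w (wp V Z₂) := conj_mem_cj hu.1
  have h2 : w * u * w⁻¹ ∈ wp V Z₂ := by
    have e : w * u * w⁻¹ = (u * w * u⁻¹ * w⁻¹)⁻¹ * u := by group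
    rw [e]
    exact mul_mem (inv_mem hd.2) hu.1
  have h3 : w * u * w⁻¹ ∈ dd V Z₁ Z₂ := by
    rw [← h.inf_cj hw ht]
    exact ⟨h2, h1⟩
  have h4 := conj_mem_of_normalizer' le_rfl (h.W_le_ND hw) h3
  have e : w⁻¹ * (w * u * w⁻¹) * w = u := by group
  rwa [e] at h4

theorem Md_rt (h : NN S V Z₁ Z₂ a b) : Md (wp V Z₁) (uu V Z₁) (rt a b) where
  le := inf_le_left
  mul := fun _ hu _ hv => h.rt_mul hu hv
  zero := fun u hu => by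
    rw [h.rt_eq_zero hu]
    exact ⟨fun hc => ⟨hu, hc⟩, fun hc => hc.2⟩
  surj := h.exists_rt
  two := CharTwo.add_self_eq_zero

theorem exists_X (h : NN S V Z₁ Z₂ a b) :
    ∃ (X : Type u) (_ : AddCommGroup X) (p : G → X), Md (uu V Z₁) (dd V Z₁ Z₂) p :=
  exists_Md h.D_le_U (fun _ hu _ hd => h.conj_D hu.1 hd) fun _ hu => h.Z_le_D (h.sq_W hu.1)

end NN

end Cfsg.Agent.OddCyclic.NatNonab
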