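import Cfsg.Agent.MinSimple.Geo
import Cfsg.Agent.OddCyclic.T1Defs

/-!
# Natural `SL₂(q)`-lines with nonabelian point-closure: the situation

blueprints/S0342-NatNonab-helper220.md.  `V` is a natural `SL₂(q)`-module, `q ≥ 4`, `Z₁ = {a x}`, `Z₂ = {b y}` two of its
`q + 1` points, `W₁ = wp V Z₁ = ⟨V ^ N_G(Z₁)⟩` with `[V, W₁] ≤ Z₁`, `W₁` nonabelian.
-/

set_option autoImplicit false
set_option linter.dupNamespace false

namespace Cfsg.Agent.OddCyclic.NatNonab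

open Subgroup Cfsg Cfsg.Agent.ZN Cfsg.Agent.MinSimple.Geo
open Cfsg.Agent.OddCyclic.T1Defs (OddCyc)

universe u

variable {G : Type u} [Group G]

/-- the normal closure of `V` in `N_G(Z)` (for `V ≤ N_G(Z)`): the join of the `N_G(Z)`-conjugates of `V` -/
def wp (V Z : Subgroup G) : Subgroup G := ⨆ g : normalizer (Z : Set G), cj (g : G) V

/-- Coordinates: `V = Z₁ × Z₂`, `Z₁ = {a x}`, `Z₂ = {b y}`. -/
structure Co {F : Type} [Field F] (V Z₁ Z₂ : Subgroup G) (a b : F → G) : Prop where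
  a_add : ∀ x y, a (x + y) = a x * a y
  b_add : ∀ x y, b (x + y) = b x * b y
  comm : ∀ x y, a x * b y = b y * a x
  mem₁ : ∀ g, g ∈ Z₁ ↔ ∃ x, g = a x
  mem₂ : ∀ g, g ∈ Z₂ ↔ ∃ y, g = b y
  mem : ∀ g, g ∈ V ↔ ∃ x y, g = a x * b y
  inj : ∀ x y, a x * b y = 1 → x = 0 ∧ y = 0

/-- **The situation.** -/
structure NN {F : Type} [Field F] [Fintype F] [CharP F 2] (S V Z₁ Z₂ : Subgroup G) (a b : F → G) : Prop where
  cyc : OddCyc G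
  four : 4 ≤ Fintype.card F
  co : Co V Z₁ Z₂ a b
  /-- an element of `N_G(V)` acting as `(x, y) ↦ (y, x)` -/
  swap : ∃ n ∈ normalizer (V : Set G), ∀ x y, n * (a x * b y) * n⁻¹ = a y * b x
  /-- an element of order dividing `q - 1` acting as `(x, y) ↦ (l x, l⁻¹ y)` -/
  tor : ∀ l : F, l ≠ 0 → ∃ n ∈ normalizer (V : Set G), n ^ (Fintype.card F - 1) = 1 ∧
    ∀ x y, n * (a x * b y) * n⁻¹ = a (l * x) * b (l⁻¹ * y)
  two : IsPGroup 2 S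
  le : S ≤ normalizer (Z₁ : Set G)
  syl : ¬ 2 ∣ S.relIndex (normalizer (Z₁ : Set G))
  le' : S ≤ normalizer (V : Set G)
  /-- `S ∩ C_G(Z₁)` acts on `V` as a group of root elements -/
  root : ∀ s ∈ S, s ∈ centralizer (Z₁ : Set G) → ∃ t : F, ∀ y, s * b y * s⁻¹ = a (t * y) * b y
  /-- `S` permutes the points -/
  pts : ∀ s ∈ S, ∃ t : F, ∀ y, ∃ y', s * b y * s⁻¹ = a (t * y') * b y'
  /-- `Ω₁(Z(S)) ≤ Z₁` -/
  soc : ∀ s ∈ S, s * s = 1 → (∀ t ∈ S, t * s = s * t) → s ∈ Z₁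
  /-- `[V, V ^ g] ≤ Z₁` for `g ∈ N_G(Z₁)` -/
  cmm : ∀ g ∈ normalizer (Z₁ : Set G), ∀ v ∈ V, ∀ w ∈ V, v * (g * w * g⁻¹) * v⁻¹ * (g * w * g⁻¹)⁻¹ ∈ Z₁
  /-- `W₁` is nonabelian -/
  nonab : ∃ g ∈ normalizer (Z₁ : Set G), ∃ v ∈ V, ∃ w ∈ V, v * (g * w * g⁻¹) ≠ (g * w * g⁻¹) * v

end Cfsg.Agent.OddCyclic.NatNonab
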