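import Cfsg.Agent.OddCyclic.NatNonab.Dd
import Cfsg.Agent.OddCyclic.RedBlock

/-!
# `(5*)`, (1.8): `K₁ = {g ∈ C_G(Z₁) | [g, W₁] ≤ Z₁}`
-/

set_option autoImplicit false
set_option linter.dupNamespace false
set_option linter.unusedSectionVars false

namespace Cfsg.Agent.OddCyclic.NatNonab

open Subgroup Cfsg Cfsg.Agent.ZN Cfsg.Agent.MinSimple.Geo
open Cfsg.Agent.OddCyclic.T1Defs (OddCyc)
open Cfsg.Agent.ZN.Block (conj_mem_of_normalizer conj_mem_of_normalizer' le_normalizer_of_forall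
  mem_normalizer_of)

universe u

variable {G : Type u} [Group G]

/-- the elements of `C(Z)` commuting with `X` modulo `Z` -/
def ks (Z X : Subgroup G) : Subgroup G where
  carrier := {g | g ∈ centralizer (Z : Set G) ∧ ∀ x ∈ X, g * x * g⁻¹ * x⁻¹ ∈ Z}
  mul_mem' := by
    rintro g g' ⟨hg, hg1⟩ ⟨hg', hg1'⟩
    refine ⟨mul_mem hg hg', fun x hx => ?_⟩
    have e : g * g' * x * (g * g')⁻¹ * x⁻¹ = (g * (g' * x * g'⁻¹ * x⁻¹) * g⁻¹) * (g * x * g⁻¹ * x⁻¹) := by group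
    rw [e, ← mem_centralizer_iff.mp hg _ (hg1' x hx), mul_inv_cancel_right]
    exact mul_mem (hg1' x hx) (hg1 x hx)
  one_mem' := ⟨one_mem _, fun x _ => by simp⟩
  inv_mem' := by
    rintro g ⟨hg, hg1⟩
    refine ⟨inv_mem hg, fun x hx => ?_⟩
    have e : g⁻¹ * x * g⁻¹⁻¹ * x⁻¹ = g⁻¹ * (g * x * g⁻¹ * x⁻¹)⁻¹ * g⁻¹⁻¹ := by group
    rw [e, ← mem_centralizer_iff.mp (inv_mem hg) _ (inv_mem (hg1 x hx)), mul_inv_cancel_right]
    exact inv_mem (hg1 x hx)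

theorem mem_ks {Z X : Subgroup G} {g : G} :
    g ∈ ks Z X ↔ g ∈ centralizer (Z : Set G) ∧ ∀ x ∈ X, g * x * g⁻¹ * x⁻¹ ∈ Z := Iff.rfl

/-- `K₁` -/
def kk (V Z : Subgroup G) : Subgroup G := ks Z (wp V Z)

theorem kk_le (V Z : Subgroup G) : kk V Z ≤ centralizer (Z : Set G) := fun _ h => h.1

theorem conj_kk [Finite G] {V Z : Subgroup G} {y g : G} (hy : y ∈ normalizer (Z : Set G)) (hg : g ∈ kk V Z) :
    y * g * y⁻¹ ∈ kk V Z := by
  refine ⟨NN.conj_C hy hg.1, fun x hx => ?_⟩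
  have h1 : y⁻¹ * x * y ∈ wp V Z := by
    have := conj_mem_wp (inv_mem hy) hx
    rwa [inv_inv] at this
  have h2 := conj_mem_of_normalizer le_rfl hy (hg.2 _ h1)
  have e : y * g * y⁻¹ * x * (y * g * y⁻¹)⁻¹ * x⁻¹ = y * (g * (y⁻¹ * x * y) * g⁻¹ * (y⁻¹ * x * y)⁻¹) * y⁻¹ := by group
  rw [e]; exact h2

theorem normalizer_le_kk [Finite G] (V Z : Subgroup G) :
    normalizer (Z : Set G) ≤ normalizer ((kk V Z : Subgroup G) : Set G) :=
  le_normalizer_of_forall fun _ hy _ hg => conj_kk hy hg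

/-- membership in `K₁` can be tested on the conjugates of `V` -/
theorem mem_kk_of [Finite G] {V Z : Subgroup G} (hV : V ≤ centralizer (Z : Set G)) {g : G}
    (hg : ∀ y ∈ normalizer (Z : Set G), y⁻¹ * g * y ∈ ks Z V) : g ∈ kk V Z := by
  have hgC : g ∈ centralizer (Z : Set G) := by
    have := (hg 1 (one_mem _)).1
    simpa using this
  refine ⟨hgC, fun w hw => ?_⟩
  have h1 : wp V Z ≤ cs Z g := by
    refine wp_le fun y hy w hw => ?_
    have hw' := mem_cj.mp hw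
    refine ⟨?_, ?_⟩
    · have := NN.conj_C hy (hV hw')
      have e : y * (y⁻¹ * w * y) * y⁻¹ = w := by group
      rwa [e] at this
    · have h2 := conj_mem_of_normalizer le_rfl hy ((hg y hy).2 _ hw')
      have e : y * (y⁻¹ * g * y * (y⁻¹ * w * y) * (y⁻¹ * g * y)⁻¹ * (y⁻¹ * w * y)⁻¹) * y⁻¹ = g * w * g⁻¹ * w⁻¹ := by
        group
      rwa [e] at h2
  exact (h1 hw).2

/-- `R/K` a 2-group, `P` of odd index in `R`: `R = K P` -/
theorem le_sup_of_two [Finite G] {K R P : Subgroup G} (hKR : K ≤ R) (hPR : P ≤ R)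
    (hP : ¬ 2 ∣ P.relIndex R) (hRK : R ≤ normalizer (K : Set G)) (h2 : ∀ g ∈ R, ∃ n : ℕ, g ^ 2 ^ n ∈ K) :
    R ≤ K ⊔ P := by
  have hf : Fact (Nat.Prime 2) := ⟨Nat.prime_two⟩
  have hn : (K.subgroupOf R).Normal := (normal_subgroupOf_iff_le_normalizer hKR).mpr hRK
  have h3 : IsPGroup 2 (R ⧸ K.subgroupOf R) := by
    intro x
    obtain ⟨g, rfl⟩ := QuotientGroup.mk_surjective x
    obtain ⟨n, hn⟩ := h2 g g.2
    refine ⟨n, ?_⟩
    rw [← QuotientGroup.mk_pow, QuotientGroup.eq_one_iff]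
    exact hn
  obtain ⟨m, hm⟩ := h3.exists_card_eq
  have h4 : K.relIndex R = 2 ^ m := hm
  have h5 : (K ⊔ P).relIndex R ∣ 2 ^ m := by
    rw [← h4]
    exact Subgroup.relIndex_dvd_of_le_left R le_sup_left
  have h6 : (K ⊔ P).relIndex R ∣ P.relIndex R := Subgroup.relIndex_dvd_of_le_left R le_sup_right
  obtain ⟨k, -, hk⟩ := (Nat.dvd_prime_pow Nat.prime_two).mp h5
  rcases Nat.eq_zero_or_pos k with rfl | hk0
  · rw [pow_zero] at hk
    exact Subgroup.relIndex_eq_one.mp hk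
  · exact absurd ((dvd_pow_self 2 hk0.ne').trans (hk ▸ h6)) hP

variable {F : Type} [Field F] [Fintype F] [CharP F 2] [Finite G] {S V Z₁ Z₂ : Subgroup G} {a b : F → G}

namespace NN

theorem W_le_kk (h : NN S V Z₁ Z₂ a b) : wp V Z₁ ≤ kk V Z₁ := fun _ hw =>
  ⟨h.W_le_C hw, fun _ hx => h.comm_W hw hx⟩

/-- **(1.8)** -/
theorem le_kk (h : NN S V Z₁ Z₂ a b) {R : Subgroup G} (hKR : kk V Z₁ ≤ R) (hRC : R ≤ centralizer (Z₁ : Set G))
    (hn : centralizer (Z₁ : Set G) ≤ normalizer (R : Set G)) (h2 : ∀ g ∈ R, ∃ n : ℕ, g ^ 2 ^ n ∈ kk V Z₁) :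
    R ≤ kk V Z₁ := by
  -- `[R, V] ≤ Z₁` for all such `R`
  have key : ∀ R : Subgroup G, kk V Z₁ ≤ R → R ≤ centralizer (Z₁ : Set G) →
      centralizer (Z₁ : Set G) ≤ normalizer (R : Set G) → (∀ g ∈ R, ∃ n : ℕ, g ^ 2 ^ n ∈ kk V Z₁) → R ≤ ks Z₁ V := by
    intro R hKR hRC hn h2
    have hCN : normalizer (Z₁ : Set G) ≤ normalizer ((centralizer (Z₁ : Set G) : Subgroup G) : Set G) :=
      le_normalizer_of_forall fun _ hy _ hc => conj_C hy hc
    have h3 := Cfsg.Agent.OddCyclic.Red.not_dvd_inf h.two h.syl C_le_N hCN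
    have h4 := Cfsg.Agent.OddCyclic.Red.not_dvd_inf (h.two.to_le inf_le_left) h3 hRC hn
    have h5 := le_sup_of_two hKR inf_le_right h4
      (hRC.trans (C_le_N.trans (normalizer_le_kk V Z₁))) h2
    refine h5.trans (sup_le (fun k hk => ⟨hk.1, fun v hv => hk.2 v (le_wp V Z₁ hv)⟩) ?_)
    rintro s ⟨⟨hsS, hsC⟩, -⟩
    refine ⟨hsC, fun v hv => ?_⟩
    obtain ⟨t, ht⟩ := h.root s hsS hsC
    obtain ⟨x, y, rfl⟩ := (h.co.mem v).mp hv
    have e : s * (a x * b y) * s⁻¹ * (a x * b y)⁻¹ = (s * a x * s⁻¹) * (s * b y * s⁻¹) * (a x * b y)⁻¹ := by group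
    rw [e, h.a_C hsC, ht, h.co.inv_eq']
    have e2 : a x * (a (t * y) * b y) * (a x * b y) = a (t * y) := by
      have h6 := h.co.mul_eq (x + t * y) y x y
      rw [h.co.a_add x (t * y)] at h6
      rw [← mul_assoc (a x), h6, CharTwo.add_self_eq_zero, h.co.b_zero, mul_one]
      congr 1
      have := CharTwo.add_self_eq_zero x
      linear_combination this
    rw [e2]
    exact h.co.a_mem _
  intro g hg
  refine mem_kk_of h.co.V_le_C fun y hy => ?_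
  -- `R ^ y⁻¹`
  have hyi := inv_mem hy
  have h3 := key (cj y⁻¹ R) ?_ ?_ ?_ ?_
  · apply h3
    rw [mem_cj]
    have e : y⁻¹⁻¹ * (y⁻¹ * g * y) * y⁻¹ = g := by group
    rw [e]; exact hg
  · rw [← cj_eq_of_mem_normalizer (normalizer_le_kk V Z₁ hyi)]
    exact cj_mono hKR
  · intro x hx
    have h4 := conj_C hyi (hRC (mem_cj.mp hx))
    have e : y⁻¹ * (y⁻¹⁻¹ * x * y⁻¹) * y⁻¹⁻¹ = x := by group
    rwa [e] at h4
  · rw [← cj_normalizer]
    have h4 : cj y⁻¹ (centralizer (Z₁ : Set G)) = centralizer (Z₁ : Set G) := by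
      rw [cj_centralizer, cj_eq_of_mem_normalizer hyi]
    rw [← h4]
    exact cj_mono hn
  · intro x hx
    obtain ⟨n, hn⟩ := h2 _ (mem_cj.mp hx)
    refine ⟨n, ?_⟩
    have h4 := conj_kk hyi hn
    have e : y⁻¹ * (y⁻¹⁻¹ * x * y⁻¹) ^ 2 ^ n * y⁻¹⁻¹ = x ^ 2 ^ n := by
      have : y⁻¹⁻¹ * x * y⁻¹ = y * x * y⁻¹ := by rw [inv_inv]
      rw [this, conj_pow]
      group
    rwa [e] at h4

/-- `U₂ ∩ K₁ = D` -/
theorem U_inf_kk (h : NN S V Z₁ Z₂ a b) {u : G} (hu : u ∈ uu V Z₂) : u ∈ kk V Z₁ ↔ u ∈ dd V Z₁ Z₂ := by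
  constructor
  · intro hk
    obtain ⟨w, hw, hwt⟩ := h.exists_rt 1
    exact h.comm_inj hw (by rw [hwt]; exact one_ne_zero) hu (h.Z_le_D (hk.2 w hw))
  · intro hd
    exact h.W_le_kk hd.1

end NN

end Cfsg.Agent.OddCyclic.NatNonab
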