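import Cfsg.Agent.OddCyclic.NatNonab.Ring
import Cfsg.Agent.OddCyclic.CycConj

/-!
# `(5*)`: the torus `T = ⟨τ⟩ ≤ Y` of order `q - 1`
-/

set_option autoImplicit false
set_option linter.dupNamespace false
set_option linter.unusedSectionVars false

namespace Cfsg.Agent.OddCyclic.NatNonab

open Subgroup Cfsg Cfsg.Agent.ZN Cfsg.Agent.MinSimple.Geo
open Cfsg.Agent.OddCyclic.T1Defs (OddCyc)
open Cfsg.Agent.ZN.Block (conj_mem_of_normalizer conj_mem_of_normalizer' le_normalizer_of_forall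
  mem_normalizer_of)

universe u

variable {G : Type u} [Group G]
variable {F : Type} [Field F] [Fintype F] [CharP F 2] [Finite G] {S V Z₁ Z₂ : Subgroup G} {a b : F → G}

/-- `k` acts on `V` as `diag (l, l⁻¹)` -/
def Di (a b : F → G) (l : F) (k : G) : Prop := ∀ x y, k * (a x * b y) * k⁻¹ = a (l * x) * b (l⁻¹ * y)

theorem Di.mul {l l' : F} {k k' : G} (h : Di a b l k) (h' : Di a b l' k') : Di a b (l * l') (k * k') := by
  intro x y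
  have e : k * k' * (a x * b y) * (k * k')⁻¹ = k * (k' * (a x * b y) * k'⁻¹) * k⁻¹ := by group
  rw [e, h', h, mul_inv_rev, mul_assoc l, mul_comm l'⁻¹ l⁻¹, mul_assoc l⁻¹]

theorem Di.one : Di a b (1 : F) (1 : G) := by
  intro x y
  simp

theorem Di.pow {l : F} {k : G} (h : Di a b l k) (n : ℕ) : Di a b (l ^ n) (k ^ n) := by
  induction n with
  | zero => rw [pow_zero, pow_zero]; exact Di.one
  | succ n ih => rw [pow_succ, pow_succ]; exact ih.mul h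

namespace NN

theorem odd_q (_h : NN S V Z₁ Z₂ a b) : Odd (Fintype.card F - 1) := by
  have h1 : 2 ∣ Fintype.card F := by
    have := FiniteField.card F 2
    obtain ⟨n, -, hn⟩ := this
    rw [hn]
    exact dvd_pow_self 2 n.ne_zero
  have h2 := Fintype.card_pos (α := F)
  obtain ⟨k, hk⟩ := h1
  exact ⟨k - 1, by omega⟩

theorem Di_a (h : NN S V Z₁ Z₂ a b) {l : F} {k : G} (hk : Di a b l k) (x : F) : k * a x * k⁻¹ = a (l * x) := by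
  have := hk x 0
  rwa [mul_zero, h.co.b_zero, mul_one, mul_one] at this

theorem Di_b (h : NN S V Z₁ Z₂ a b) {l : F} {k : G} (hk : Di a b l k) (y : F) : k * b y * k⁻¹ = b (l⁻¹ * y) := by
  have := hk 0 y
  rwa [mul_zero, h.co.a_zero, one_mul, one_mul] at this

theorem Di_cj (h : NN S V Z₁ Z₂ a b) {l : F} {k : G} (hk : Di a b l k) : cj k Z₁ = Z₁ ∧ cj k Z₂ = Z₂ := by
  constructor
  · refine eq_of_le_of_card_ge ?_ (by rw [card_cj])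
    intro g hg
    obtain ⟨x, hx⟩ := (h.co.mem₁ _).mp (mem_cj.mp hg)
    refine (h.co.mem₁ _).mpr ⟨l * x, ?_⟩
    rw [← h.Di_a hk, ← hx]; group
  · refine eq_of_le_of_card_ge ?_ (by rw [card_cj])
    intro g hg
    obtain ⟨x, hx⟩ := (h.co.mem₂ _).mp (mem_cj.mp hg)
    refine (h.co.mem₂ _).mpr ⟨l⁻¹ * x, ?_⟩
    rw [← h.Di_b hk, ← hx]; group

theorem Di_nZ (h : NN S V Z₁ Z₂ a b) {l : F} {k : G} (hk : Di a b l k) : k ∈ normalizer (Z₁ : Set G) :=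
  mem_normalizer_iff_cj.mpr (h.Di_cj hk).1

theorem Di_nZ' (h : NN S V Z₁ Z₂ a b) {l : F} {k : G} (hk : Di a b l k) : k ∈ normalizer (Z₂ : Set G) :=
  mem_normalizer_iff_cj.mpr (h.Di_cj hk).2

theorem Di_one_of_C (h : NN S V Z₁ Z₂ a b) {l : F} {k : G} (hk : Di a b l k)
    (hc : k ∈ centralizer (Z₁ : Set G)) : l = 1 := by
  have h1 := h.Di_a hk 1
  rw [h.a_C hc, mul_one] at h1
  exact (h.co.a_inj h1).symm

theorem Di_CV (h : NN S V Z₁ Z₂ a b) {k : G} (hk : Di a b (1 : F) k) : k ∈ centralizer (V : Set G) := by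
  refine h.co.mem_centralizer (fun x => ?_) fun y => ?_
  · rw [h.Di_a hk, one_mul]
  · rw [h.Di_b hk, inv_one, one_mul]

/-- **(1.1)** `C_G(Z₁)` is a `(q-1)'`-group -/
theorem coprime_C (h : NN S V Z₁ Z₂ a b) :
    Nat.Coprime (Nat.card (centralizer (Z₁ : Set G))) (Fintype.card F - 1) := by
  by_contra hcon
  obtain ⟨r, hr, hr1, hr2⟩ := Nat.Prime.not_coprime_iff_dvd.mp hcon
  have hodd := h.odd_q
  have hr2' : r ≠ 2 := by
    rintro rfl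
    obtain ⟨k, hk⟩ := hodd
    omega
  have : Fact r.Prime := ⟨hr⟩
  obtain ⟨⟨x, hx⟩, hxo⟩ := exists_prime_orderOf_dvd_card' (G := centralizer (Z₁ : Set G)) r hr1
  rw [Subgroup.orderOf_mk] at hxo
  obtain ⟨l, hl, -, hl2⟩ := exists_gen (F := F)
  rw [Nat.card_eq_fintype_card] at hl2
  obtain ⟨n, hn, hnp, hna⟩ := h.tor l hl
  have hno : orderOf n = Fintype.card F - 1 := by
    refine Nat.dvd_antisymm (orderOf_dvd_of_pow_eq_one hnp) ?_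
    apply hl2
    have h1 : Di a b (l ^ orderOf n) (n ^ orderOf n) := Di.pow (h := hna) _
    rw [pow_orderOf_eq_one] at h1
    exact h.Di_one_of_C h1 (one_mem _)
  obtain ⟨m, hm⟩ := hr2
  have hm0 : m ≠ 0 := by
    rintro rfl
    have := h.four
    omega
  have hyo : orderOf (n ^ m) = r := by
    rw [orderOf_pow_of_dvd hm0 (by rw [hno, hm]; exact dvd_mul_left m r), hno, hm]
    exact Nat.mul_div_cancel _ (Nat.pos_of_ne_zero hm0)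
  have hyD : Di a b (l ^ m) (n ^ m) := Di.pow (h := hna) m
  have hyN := h.Di_nZ hyD
  obtain ⟨g, hg, hgz⟩ := CycConj.zpowers_conj h.cyc r (normalizer (Z₁ : Set G)) x (n ^ m) (C_le_N hx) hyN hxo hyo
    (hr.odd_of_ne_two hr2')
  have h1 : g * n ^ m * g⁻¹ ∈ centralizer (Z₁ : Set G) := by
    have h2 : g * n ^ m * g⁻¹ ∈ zpowers x := by rw [← hgz]; exact mem_zpowers _
    exact (zpowers_le.mpr hx) h2
  have h3 := conj_C (inv_mem hg) h1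
  have e : g⁻¹ * (g * n ^ m * g⁻¹) * g⁻¹⁻¹ = n ^ m := by group
  rw [e] at h3
  have h4 := hl2 _ (h.Di_one_of_C hyD h3)
  rw [hm] at h4
  have h5 := Nat.le_of_dvd (Nat.pos_of_ne_zero hm0) h4
  have h6 := hr.two_le
  have h7 : 2 * m ≤ r * m := Nat.mul_le_mul_right m h6
  omega

end NN

variable {S' : Subgroup G} {X₁ X₂ : Type u} [AddCommGroup X₁] [AddCommGroup X₂]
    {p₁ : G → X₁} {p₂ : G → X₂} {φ : F →+ X₂ →+ X₁} {ψ : F →+ X₁ →+ X₂}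

/-- elements of `Y` acting diagonally -/
structure Dg (V Z₁ Z₂ : Subgroup G) (a b : F → G) (p₁ : G → X₁) (p₂ : G → X₂)
    (ρ₁ : F →+* AddMonoid.End X₁) (ρ₂ : F →+* AddMonoid.End X₂) (l : F) (k : G) : Prop where
  ne : l ≠ 0
  memY : k ∈ wp V Z₁ ⊔ wp V Z₂
  nV : k ∈ normalizer (V : Set G)
  di : Di a b l k
  u₁ : ∀ u ∈ uu V Z₁, k * u * k⁻¹ ∈ uu V Z₁ ∧ p₁ (k * u * k⁻¹) = ρ₁ l (p₁ u)
  u₂ : ∀ u ∈ uu V Z₂, k * u * k⁻¹ ∈ uu V Z₂ ∧ p₂ (k * u * k⁻¹) = ρ₂ l⁻¹ (p₂ u)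

variable {ρ₁ : F →+* AddMonoid.End X₁} {ρ₂ : F →+* AddMonoid.End X₂}

theorem Dg.mul {l l' : F} {k k' : G} (h : Dg V Z₁ Z₂ a b p₁ p₂ ρ₁ ρ₂ l k)
    (h' : Dg V Z₁ Z₂ a b p₁ p₂ ρ₁ ρ₂ l' k') : Dg V Z₁ Z₂ a b p₁ p₂ ρ₁ ρ₂ (l * l') (k * k') := by
  have e : ∀ u, k * k' * u * (k * k')⁻¹ = k * (k' * u * k'⁻¹) * k⁻¹ := fun u => by group
  refine ⟨mul_ne_zero h.ne h'.ne, mul_mem h.memY h'.memY, mul_mem h.nV h'.nV, h.di.mul h'.di, fun u hu => ?_,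
    fun u hu => ?_⟩
  · obtain ⟨h1, h2⟩ := h'.u₁ u hu
    obtain ⟨h3, h4⟩ := h.u₁ _ h1
    rw [e]
    refine ⟨h3, ?_⟩
    rw [h4, h2, map_mul]; rfl
  · obtain ⟨h1, h2⟩ := h'.u₂ u hu
    obtain ⟨h3, h4⟩ := h.u₂ _ h1
    rw [e]
    refine ⟨h3, ?_⟩
    rw [h4, h2, mul_inv_rev, mul_comm l'⁻¹ l⁻¹, map_mul]; rfl

theorem Dg.one : Dg V Z₁ Z₂ a b p₁ p₂ ρ₁ ρ₂ (1 : F) (1 : G) := by
  refine ⟨one_ne_zero, one_mem _, one_mem _, Di.one, fun u hu => ?_, fun u hu => ?_⟩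
  · rw [one_mul, inv_one, mul_one, map_one]
    exact ⟨hu, rfl⟩
  · rw [one_mul, inv_one, mul_one, inv_one, map_one]
    exact ⟨hu, rfl⟩

theorem Dg.pow {l : F} {k : G} (h : Dg V Z₁ Z₂ a b p₁ p₂ ρ₁ ρ₂ l k) (n : ℕ) :
    Dg V Z₁ Z₂ a b p₁ p₂ ρ₁ ρ₂ (l ^ n) (k ^ n) := by
  induction n with
  | zero => rw [pow_zero, pow_zero]; exact Dg.one
  | succ n ih => rw [pow_succ, pow_succ]; exact ih.mul h

/-- **the torus** -/
structure Tau (S S' V Z₁ Z₂ : Subgroup G) (a b : F → G) (p₁ : G → X₁) (p₂ : G → X₂)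
    (φ : F →+ X₂ →+ X₁) (ψ : F →+ X₁ →+ X₂)
    (ρ₁ : F →+* AddMonoid.End X₁) (ρ₂ : F →+* AddMonoid.End X₂) (l : F) (τ : G) : Prop where
  ph : Ph S S' V Z₁ Z₂ a b p₁ p₂ φ ψ
  dg : Dg V Z₁ Z₂ a b p₁ p₂ ρ₁ ρ₂ l τ
  gen : ∀ m : F, m ≠ 0 → ∃ k : ℕ, m = l ^ k
  ord : ∀ k : ℕ, l ^ k = 1 → (Fintype.card F - 1) ∣ k
  pow : τ ^ (Fintype.card F - 1) = 1

/-- **(1.6)** -/
theorem Ph.exists_tau (h : Ph S S' V Z₁ Z₂ a b p₁ p₂ φ ψ) :
    ∃ (ρ₁ : F →+* AddMonoid.End X₁) (ρ₂ : F →+* AddMonoid.End X₂) (l : F) (τ : G),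
      Tau S S' V Z₁ Z₂ a b p₁ p₂ φ ψ ρ₁ ρ₂ l τ := by
  obtain ⟨ρ₁, ρ₂, hρ⟩ := h.exists_rings
  obtain ⟨l, hl, hl1, hl2⟩ := exists_gen (F := F)
  rw [Nat.card_eq_fintype_card] at hl2
  obtain ⟨k, hkY, hkV, hka, hk1, hk2⟩ := hρ l hl
  have hk : Dg V Z₁ Z₂ a b p₁ p₂ ρ₁ ρ₂ l k := ⟨hl, hkY, hkV, hka, hk1, hk2⟩
  have hlq : l ^ (Fintype.card F - 1) = 1 := FiniteField.pow_card_sub_one_eq_one l hl
  have hkq := hk.pow (Fintype.card F - 1)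
  rw [hlq] at hkq
  have hkC := h.nn.CV_le_C (h.nn.Di_CV hkq.di)
  have hco : Nat.Coprime (orderOf (k ^ (Fintype.card F - 1))) (Fintype.card F - 1) :=
    Nat.Coprime.coprime_dvd_left ((centralizer (Z₁ : Set G)).orderOf_dvd_natCard hkC) h.nn.coprime_C
  obtain ⟨j, hj1, hj2⟩ : ∃ j, j ≡ 0 [MOD orderOf (k ^ (Fintype.card F - 1))] ∧ j ≡ 1 [MOD Fintype.card F - 1] :=
    ⟨_, (Nat.chineseRemainder hco 0 1).2⟩
  refine ⟨ρ₁, ρ₂, l, k ^ j, h, ?_, hl1, hl2, ?_⟩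
  · have h1 := hk.pow j
    have h2 : l ^ j = l := by
      have h3 : j ≡ 1 [MOD orderOf l] := hj2.of_dvd (orderOf_dvd_of_pow_eq_one hlq)
      have h4 : j % orderOf l = 1 % orderOf l := h3
      rw [← pow_mod_orderOf, h4, pow_mod_orderOf, pow_one]
    rwa [h2] at h1
  · have h4 : orderOf (k ^ (Fintype.card F - 1)) ∣ j := (Nat.modEq_zero_iff_dvd).mp hj1
    have h5 : (k ^ (Fintype.card F - 1)) ^ j = 1 := orderOf_dvd_iff_pow_eq_one.mp h4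
    calc (k ^ j) ^ (Fintype.card F - 1) = k ^ (j * (Fintype.card F - 1)) := (pow_mul k j _).symm
      _ = k ^ ((Fintype.card F - 1) * j) := by rw [mul_comm]
      _ = (k ^ (Fintype.card F - 1)) ^ j := pow_mul k _ j
      _ = 1 := h5

end Cfsg.Agent.OddCyclic.NatNonab
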