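import Cfsg.Agent.OddCyclic.NatNonab.Dd

/-!
# `(5*)`, (1.7): `U₁ ≠ D`
-/

set_option autoImplicit false
set_option linter.dupNamespace false
set_option linter.unusedSectionVars false

namespace Cfsg.Agent.OddCyclic.NatNonab

open Subgroup Cfsg Cfsg.Agent.ZN Cfsg.Agent.MinSimple.Geo
open Cfsg.Agent.OddCyclic.T1Defs (OddCyc)
open Cfsg.Agent.ZN.Block (conj_mem_of_normalizer conj_mem_of_normalizer' le_normalizer_of_forall
  mem_normalizer_of)

universe u

variable {G : Type u} [Group G]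

theorem le_or_le {H A B : Subgroup G} (h : ∀ x ∈ H, x ∈ A ∨ x ∈ B) : H ≤ A ∨ H ≤ B := by
  by_contra hcon
  push Not at hcon
  obtain ⟨h1, h2⟩ := hcon
  obtain ⟨x, hx, hxA⟩ := SetLike.not_le_iff_exists.mp h1
  obtain ⟨y, hy, hyB⟩ := SetLike.not_le_iff_exists.mp h2
  have hxB := (h x hx).resolve_left hxA
  have hyA := (h y hy).resolve_right hyB
  rcases h _ (mul_mem hx hy) with h3 | h3
  · exact hxA ((Subgroup.mul_mem_cancel_right A hyA).mp h3)
  · exact hyB ((Subgroup.mul_mem_cancel_left B hxB).mp h3)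

variable {F : Type} [Field F] [Fintype F] [CharP F 2] [Finite G] {S V Z₁ Z₂ : Subgroup G} {a b : F → G}

namespace NN

/-- an injective root map is surjective -/
theorem rt_conj_surj (h : NN S V Z₁ Z₂ a b) {g : G} (hg : g ∈ normalizer (Z₁ : Set G))
    (h0 : ∀ y, rt a b (g * b y * g⁻¹) = 0 → y = 0) (t : F) : ∃ y, rt a b (g * b y * g⁻¹) = t := by
  have hgV : ∀ u ∈ V, g * u * g⁻¹ ∈ wp V Z₁ := fun u hu => cj_le_wp hg (conj_mem_cj hu)
  let θ : F →+ F :=
    { toFun := fun y => rt a b (g * b y * g⁻¹)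
      map_zero' := by
        change rt a b (g * b 0 * g⁻¹) = 0
        rw [h.co.b_zero, mul_one, mul_inv_cancel]
        exact (h.rt_eq_zero (one_mem _)).mpr (one_mem _)
      map_add' := fun y y' => by
        change rt a b (g * b (y + y') * g⁻¹) = rt a b (g * b y * g⁻¹) + rt a b (g * b y' * g⁻¹)
        rw [← h.rt_mul (hgV _ (h.co.b_memV y)) (hgV _ (h.co.b_memV y')), h.co.b_add]
        congr 1
        group }
  have hinj : Function.Injective θ := by
    rw [injective_iff_map_eq_zero]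
    exact h0
  exact (Finite.injective_iff_surjective.mp hinj) t

/-- **(1.7)** -/
theorem not_zero (h : NN S V Z₁ Z₂ a b) : ¬ uu V Z₁ ≤ dd V Z₁ Z₂ := by
  intro hle
  have hUD : uu V Z₁ = dd V Z₁ Z₂ := le_antisymm hle h.D_le_U
  obtain ⟨g, hg, hgs⟩ := h.exists_full
  set D := dd V Z₁ Z₂ with hD
  have hgW : ∀ {y : G}, y ∈ normalizer (Z₁ : Set G) → cj y (wp V Z₁) = wp V Z₁ := fun hy => cj_wp_self hy
  have hgV : ∀ u ∈ V, g * u * g⁻¹ ∈ wp V Z₁ := fun u hu => cj_le_wp hg (conj_mem_cj hu)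
  have hDW : D ≤ wp V Z₁ := inf_le_left
  -- `D = C_{W₁}(V)`
  have hDmem : ∀ w, w ∈ D ↔ w ∈ wp V Z₁ ∧ w ∈ centralizer (V : Set G) := fun w => by
    rw [← hUD]; exact Iff.rfl
  have hDc : ∀ c ∈ D, ∀ d ∈ D, c * d = d * c := fun c hc d hd => h.comm_D hc hd
  have hDs : ∀ d ∈ D, d * d = 1 := fun d hd => h.sq_D hd
  have hVD : V ≤ D := h.V_le_D
  -- key: if `V ^ y ≤ D ^ z` then `D ^ y = D ^ z`
  have key : ∀ y z, y ∈ normalizer (Z₁ : Set G) → z ∈ normalizer (Z₁ : Set G) → cj y V ≤ cj z D →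
      cj y D = cj z D := by
    intro y z hy hz hle
    have h1 : cj z D ≤ cj y D := by
      intro x hx
      rw [mem_cj, hDmem]
      refine ⟨?_, mem_centralizer_iff.mpr fun v hv => ?_⟩
      · have h2 : x ∈ wp V Z₁ := by
          rw [← hgW hz]
          exact cj_mono hDW hx
        have h3 := conj_mem_wp (inv_mem hy) h2
        rwa [inv_inv] at h3
      · have h2 : y * v * y⁻¹ ∈ cj z D := hle (conj_mem_cj hv)
        have h3 := hDc _ (mem_cj.mp h2) _ (mem_cj.mp hx)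
        calc v * (y⁻¹ * x * y) = y⁻¹ * z * ((z⁻¹ * (y * v * y⁻¹) * z) * (z⁻¹ * x * z)) * z⁻¹ * y := by group
          _ = y⁻¹ * z * ((z⁻¹ * x * z) * (z⁻¹ * (y * v * y⁻¹) * z)) * z⁻¹ * y := by rw [h3]
          _ = y⁻¹ * x * y * v := by group
    exact (eq_of_le_of_card_ge h1 (by rw [card_cj, card_cj])).symm
  -- `b y` acts on `V ^ g`
  have hθ : ∀ y y', b y * (g * b y' * g⁻¹) = (g * b y' * g⁻¹) * b y ↔ y = 0 ∨ rt a b (g * b y' * g⁻¹) = 0 := by
    intro y y'
    have h1 := h.rt_eq (hgV _ (h.co.b_memV y')) y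
    constructor
    · intro e
      rw [← e, mul_inv_cancel_right] at h1
      have h2 : 1 * b y = a (rt a b (g * b y' * g⁻¹) * y) * b y := by rw [one_mul]; exact h1
      exact (mul_eq_zero.mp (h.co.a_eq_one (mul_right_cancel h2).symm)).symm
    · rintro (rfl | e)
      · rw [h.co.b_zero, one_mul, mul_one]
      · rw [e, zero_mul, h.co.a_zero, one_mul, mul_inv_eq_iff_eq_mul] at h1
        exact h1.symm
  have hθ0 : ∀ y', rt a b (g * b y' * g⁻¹) = 0 → y' = 0 := by
    -- the additive surjection is injective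
    let θ : F →+ F :=
      { toFun := fun y => rt a b (g * b y * g⁻¹)
        map_zero' := by
          change rt a b (g * b 0 * g⁻¹) = 0
          rw [h.co.b_zero, mul_one, mul_inv_cancel]
          exact (h.rt_eq_zero (one_mem _)).mpr (one_mem _)
        map_add' := fun y y' => by
          change rt a b (g * b (y + y') * g⁻¹) = rt a b (g * b y * g⁻¹) + rt a b (g * b y' * g⁻¹)
          rw [← h.rt_mul (hgV _ (h.co.b_memV y)) (hgV _ (h.co.b_memV y')), h.co.b_add]
          congr 1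
          group }
    have hsurj : Function.Surjective θ := hgs
    have hinj := Finite.injective_iff_surjective.mpr hsurj
    exact fun y' hy' => (injective_iff_map_eq_zero θ).mp hinj y' hy'
  -- the other root map
  have hgi : g⁻¹ ∈ normalizer (Z₁ : Set G) := inv_mem hg
  have hθ' : ∀ y, rt a b (g⁻¹ * b y * g⁻¹⁻¹) = 0 → y = 0 := by
    intro y hy
    obtain ⟨y', hy'⟩ := hgs 1
    have h1 : g⁻¹ * b y * g⁻¹⁻¹ ∈ centralizer (V : Set G) :=
      (h.rt_eq_zero (cj_le_wp hgi (conj_mem_cj (h.co.b_memV y)))).mp hy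
    have h2 := mem_centralizer_iff.mp h1 _ (h.co.b_memV y')
    have h3 : b y * (g * b y' * g⁻¹) = (g * b y' * g⁻¹) * b y := by
      calc b y * (g * b y' * g⁻¹) = g * ((g⁻¹ * b y * g⁻¹⁻¹) * b y') * g⁻¹ := by group
        _ = g * (b y' * (g⁻¹ * b y * g⁻¹⁻¹)) * g⁻¹ := by rw [h2]
        _ = _ := by group
    rcases (hθ y y').mp h3 with e | e
    · exact e
    · rw [hy'] at e; exact absurd e one_ne_zero
  -- Claim A
  have clA : ∀ w ∈ wp V Z₁, w * w = 1 → w ∈ D ∨ w ∈ cj g D := by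
    intro w hw hww
    obtain ⟨y', hy'⟩ := hgs (rt a b w)
    have hv' := hgV _ (h.co.b_memV y')
    have hd : w * (g * b y' * g⁻¹)⁻¹ ∈ D := by
      rw [← hUD, ← h.Md_rt.eq_iff hw hv']
      exact hy'.symm
    obtain ⟨y, hy⟩ := h.rt_conj_surj hgi hθ' (rt a b (g⁻¹ * (w * (g * b y' * g⁻¹)⁻¹) * g⁻¹⁻¹))
    have hd' : g⁻¹ * (w * (g * b y' * g⁻¹)⁻¹) * g⁻¹⁻¹ ∈ wp V Z₁ := conj_mem_wp hgi (hDW hd)
    have hby : g⁻¹ * b y * g⁻¹⁻¹ ∈ wp V Z₁ := cj_le_wp hgi (conj_mem_cj (h.co.b_memV y))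
    have hζ := (h.Md_rt.eq_iff hd' hby).mp hy.symm
    rw [hUD] at hζ
    -- `ζ = d * (b y)⁻¹`
    set d := w * (g * b y' * g⁻¹)⁻¹ with hdd
    set v' := g * b y' * g⁻¹ with hv'd
    have hζ1 : d * (b y)⁻¹ ∈ cj g D := by
      rw [mem_cj]
      have e : g⁻¹ * (d * (b y)⁻¹) * g = g⁻¹ * d * g⁻¹⁻¹ * (g⁻¹ * b y * g⁻¹⁻¹)⁻¹ := by group
      rw [e]; exact hζ
    have hbD : b y ∈ D := hVD (h.co.b_memV y)
    have hζ2 : d * (b y)⁻¹ ∈ D := mul_mem hd (inv_mem hbD)
    have hv'D : v' ∈ cj g D := conj_mem_cj (hVD (h.co.b_memV y'))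
    set ζ := d * (b y)⁻¹ with hζd
    have e1 : w = ζ * (b y * v') := by rw [hζd, hdd]; group
    have c1 : ζ * b y = b y * ζ := hDc _ hζ2 _ hbD
    have c2 : ζ * v' = v' * ζ := by
      have h3 := hDc _ (mem_cj.mp hζ1) _ (mem_cj.mp hv'D)
      calc ζ * v' = g * ((g⁻¹ * ζ * g) * (g⁻¹ * v' * g)) * g⁻¹ := by group
        _ = g * ((g⁻¹ * v' * g) * (g⁻¹ * ζ * g)) * g⁻¹ := by rw [h3]
        _ = v' * ζ := by group
    have s1 := hDs _ hζ2
    have s2 := h.co.b_sq y
    have s3 : v' * v' = 1 := by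
      rw [hv'd]
      calc g * b y' * g⁻¹ * (g * b y' * g⁻¹) = g * (b y' * b y') * g⁻¹ := by group
        _ = 1 := by rw [h.co.b_sq]; group
    have c3 : b y * v' = v' * b y := by
      have h4 : (b y * v') * (b y * v') = 1 := by
        calc (b y * v') * (b y * v') = (ζ * ζ) * ((b y * v') * (b y * v')) := by rw [s1, one_mul]
          _ = ζ * (ζ * b y) * v' * (b y * v') := by group
          _ = ζ * (b y * ζ) * v' * (b y * v') := by rw [c1]
          _ = ζ * b y * (ζ * v') * (b y * v') := by group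
          _ = ζ * b y * (v' * ζ) * (b y * v') := by rw [c2]
          _ = (ζ * (b y * v')) * (ζ * (b y * v')) := by group
          _ = 1 := by rw [← e1, hww]
      have h5 := mul_eq_one_iff_eq_inv.mp h4
      rw [mul_inv_rev, h.co.b_inv, inv_eq_of_mul_eq_one_left s3] at h5
      exact h5
    rcases (hθ y y').mp c3 with e | e
    · right
      rw [e1, e, h.co.b_zero, one_mul]
      exact mul_mem hζ1 hv'D
    · left
      have e' := hθ0 y' e
      rw [e1, hv'd, e', h.co.b_zero, mul_one, mul_inv_cancel, mul_one]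
      exact mul_mem hζ2 hbD
  -- Claim C
  have clC : ∀ y ∈ normalizer (Z₁ : Set G), cj y D = D ∨ cj y D = cj g D := by
    intro y hy
    have h1 : ∀ x ∈ cj y V, x ∈ D ∨ x ∈ cj g D := by
      intro x hx
      refine clA x (cj_le_wp hy hx) ?_
      have h2 := h.co.sq (mem_cj.mp hx)
      calc x * x = y * ((y⁻¹ * x * y) * (y⁻¹ * x * y)) * y⁻¹ := by group
        _ = 1 := by rw [h2]; group
    rcases le_or_le h1 with h2 | h2
    · left
      have := key y 1 hy (one_mem _) (by rw [cj_one]; exact h2)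
      rwa [cj_one] at this
    · right
      exact key y g hy hg h2
  -- Claim D
  have hne : cj g D ≠ D := by
    intro e
    obtain ⟨y', hy'⟩ := hgs 1
    have h1 : g * b y' * g⁻¹ ∈ D := by
      rw [← e]
      exact conj_mem_cj (hVD (h.co.b_memV y'))
    have h2 := (h.rt_eq_zero (hDW h1)).mpr ((hDmem _).mp h1).2
    rw [hy'] at h2
    exact one_ne_zero h2
  -- the index
  let N := normalizer (Z₁ : Set G)
  let K := normalizer (D : Set G) ⊓ N
  have hSK : S ≤ K := le_inf h.S_le_ND h.le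
  have h2 : K.relIndex N = 2 := by
    rw [Subgroup.relIndex, Subgroup.index_eq_two_iff]
    refine ⟨⟨g, hg⟩, fun y => ?_⟩
    have hm : ∀ z : N, z ∈ K.subgroupOf N ↔ cj (z : G) D = D := by
      intro z
      rw [mem_subgroupOf, ← mem_normalizer_iff_cj]
      exact ⟨fun h => h.1, fun h => ⟨h, z.2⟩⟩
    rw [hm, hm]
    change Xor (cj ((y : G) * g) D = D) (cj (y : G) D = D)
    rcases clC y y.2 with h3 | h3
    · refine Or.inr ⟨h3, fun h4 => hne ?_⟩
      rw [← cj_cj] at h4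
      have h5 := congrArg (cj (y : G)⁻¹) (h4.trans h3.symm)
      rwa [cj_inv_cj, cj_inv_cj] at h5
    · refine Or.inl ⟨?_, fun h4 => hne (h3.symm.trans h4)⟩
      rcases clC _ (mul_mem y.2 hg) with h4 | h4
      · exact h4
      · exfalso
        apply hne
        rw [← cj_cj, ← h3] at h4
        have h5 := congrArg (cj (y : G)⁻¹) h4
        rw [cj_inv_cj, cj_inv_cj] at h5
        rw [← h3]
        exact h5
  apply h.syl
  rw [← relIndex_mul_relIndex S K N hSK inf_le_right, h2]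
  exact dvd_mul_left 2 _

end NN

end Cfsg.Agent.OddCyclic.NatNonab
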