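import Cfsg.Agent.OddCyclic.NatNonab.Typ
import Cfsg.Agent.OddCyclic.NatNonab.Kk
import Cfsg.Agent.OddCyclic.NatNonab.Tau
import Cfsg.Agent.OddCyclic.NatNonab.Zero

/-!
# `(5*)`: the group `H = C_G(Z₁)T/K₁`
-/

set_option autoImplicit false
set_option linter.dupNamespace false
set_option linter.unusedSectionVars false

namespace Cfsg.Agent.OddCyclic.NatNonab

open Subgroup Cfsg Cfsg.Agent.ZN Cfsg.Agent.MinSimple.Geo
open Cfsg.Agent.OddCyclic.T1Defs (OddCyc)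
open Cfsg.Agent.OddCyclic.Zass (IsZT)
open Cfsg.Agent.OddCyclic.UniStruct (TameSec)
open Cfsg.Agent.OddCyclic.PumpMain (KZero)
open Cfsg.Agent.OddCyclic.KZeroCongr (KS)
open Cfsg.Agent.SignalizersComponents.Components
open Cfsg.Agent.ZN.Block (conj_mem_of_normalizer conj_mem_of_normalizer' le_normalizer_of_forall
  mem_normalizer_of)

universe u

variable {G : Type u} [Group G]

theorem exists_mul_of_sup {N T : Subgroup G} (h : T ≤ normalizer (N : Set G)) {x : G} (hx : x ∈ N ⊔ T) :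
    ∃ n ∈ N, ∃ s ∈ T, x = n * s := by
  let A : Subgroup G :=
    { carrier := {x | ∃ n ∈ N, ∃ s ∈ T, x = n * s}
      mul_mem' := by
        rintro _ _ ⟨n, hn, s, hs, rfl⟩ ⟨n', hn', s', hs', rfl⟩
        refine ⟨n * (s * n' * s⁻¹), mul_mem hn ((mem_normalizer_iff.mp (h hs) n').mp hn'), s * s', mul_mem hs hs', ?_⟩
        group
      one_mem' := ⟨1, one_mem _, 1, one_mem _, by rw [mul_one]⟩
      inv_mem' := by
        rintro _ ⟨n, hn, s, hs, rfl⟩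
        refine ⟨s⁻¹ * n⁻¹ * s⁻¹⁻¹, (mem_normalizer_iff.mp (h (inv_mem hs)) n⁻¹).mp (inv_mem hn), s⁻¹, inv_mem hs, ?_⟩
        group }
  have h1 : N ⊔ T ≤ A := sup_le (fun n hn => ⟨n, hn, 1, one_mem _, by rw [mul_one]⟩)
    fun s hs => ⟨1, one_mem _, s, hs, by rw [one_mul]⟩
  exact h1 hx

variable {F : Type} [Field F] [Fintype F] [CharP F 2] [Finite G] {S V Z₁ Z₂ : Subgroup G} {a b : F → G}
variable {S' : Subgroup G} {X₁ X₂ : Type u} [AddCommGroup X₁] [AddCommGroup X₂]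
    {p₁ : G → X₁} {p₂ : G → X₂} {φ : F →+ X₂ →+ X₁} {ψ : F →+ X₁ →+ X₂}
    {ρ₁ : F →+* AddMonoid.End X₁} {ρ₂ : F →+* AddMonoid.End X₂} {l : F} {τ : G}

/-- `M = C_G(Z₁) T` -/
def mm (Z₁ : Subgroup G) (τ : G) : Subgroup G := centralizer (Z₁ : Set G) ⊔ zpowers τ

namespace Tau

theorem nZ (h : Tau S S' V Z₁ Z₂ a b p₁ p₂ φ ψ ρ₁ ρ₂ l τ) : τ ∈ normalizer (Z₁ : Set G) := h.ph.nn.Di_nZ h.dg.di

theorem le_mm (_h : Tau S S' V Z₁ Z₂ a b p₁ p₂ φ ψ ρ₁ ρ₂ l τ) : centralizer (Z₁ : Set G) ≤ mm Z₁ τ := le_sup_left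

theorem mem_mm (_h : Tau S S' V Z₁ Z₂ a b p₁ p₂ φ ψ ρ₁ ρ₂ l τ) : τ ∈ mm Z₁ τ := mem_sup_right (mem_zpowers τ)

theorem mm_le (h : Tau S S' V Z₁ Z₂ a b p₁ p₂ φ ψ ρ₁ ρ₂ l τ) : mm Z₁ τ ≤ normalizer (Z₁ : Set G) :=
  sup_le NN.C_le_N (zpowers_le.mpr h.nZ)

theorem kk_le_mm (h : Tau S S' V Z₁ Z₂ a b p₁ p₂ φ ψ ρ₁ ρ₂ l τ) : kk V Z₁ ≤ mm Z₁ τ := (kk_le V Z₁).trans h.le_mm

theorem order_dvd (h : Tau S S' V Z₁ Z₂ a b p₁ p₂ φ ψ ρ₁ ρ₂ l τ) : orderOf τ ∣ Fintype.card F - 1 :=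
  orderOf_dvd_of_pow_eq_one h.pow

theorem odd (h : Tau S S' V Z₁ Z₂ a b p₁ p₂ φ ψ ρ₁ ρ₂ l τ) : Odd (orderOf τ) :=
  Odd.of_dvd_nat h.ph.nn.odd_q h.order_dvd

theorem co (h : Tau S S' V Z₁ Z₂ a b p₁ p₂ φ ψ ρ₁ ρ₂ l τ) :
    Nat.Coprime (Nat.card (centralizer (Z₁ : Set G))) (orderOf τ) :=
  Nat.Coprime.coprime_dvd_right h.order_dvd h.ph.nn.coprime_C

theorem C_n (h : Tau S S' V Z₁ Z₂ a b p₁ p₂ φ ψ ρ₁ ρ₂ l τ) :
    zpowers τ ≤ normalizer ((centralizer (Z₁ : Set G) : Subgroup G) : Set G) := by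
  have h1 : normalizer (Z₁ : Set G) ≤ normalizer ((centralizer (Z₁ : Set G) : Subgroup G) : Set G) :=
    le_normalizer_of_forall fun _ hy _ hc => NN.conj_C hy hc
  exact (zpowers_le.mpr h.nZ).trans h1

theorem exists_mul (h : Tau S S' V Z₁ Z₂ a b p₁ p₂ φ ψ ρ₁ ρ₂ l τ) {g : G} (hg : g ∈ mm Z₁ τ) :
    ∃ c ∈ centralizer (Z₁ : Set G), ∃ k ∈ zpowers τ, g = c * k := exists_mul_of_sup h.C_n hg

/-- `T ∩ C_G(Z₁) = 1` -/
theorem eq_one (h : Tau S S' V Z₁ Z₂ a b p₁ p₂ φ ψ ρ₁ ρ₂ l τ) {k : G} (hk : k ∈ zpowers τ)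
    (hc : k ∈ centralizer (Z₁ : Set G)) : k = 1 := coprime_mem h.co hc hk

theorem pow_one_iff (h : Tau S S' V Z₁ Z₂ a b p₁ p₂ φ ψ ρ₁ ρ₂ l τ) (k : ℕ) : l ^ k = 1 → τ ^ k = 1 := by
  intro e
  obtain ⟨j, hj⟩ := h.ord k e
  rw [hj, pow_mul, h.pow, one_pow]

theorem ne_one (h : Tau S S' V Z₁ Z₂ a b p₁ p₂ φ ψ ρ₁ ρ₂ l τ) : l ≠ 1 := by
  intro e
  have h1 := h.ord 1 (by rw [e, pow_one])
  have h2 := Nat.le_of_dvd one_pos h1
  have := h.ph.nn.four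
  omega

theorem kk_normal (h : Tau S S' V Z₁ Z₂ a b p₁ p₂ φ ψ ρ₁ ρ₂ l τ) : ((kk V Z₁).subgroupOf (mm Z₁ τ)).Normal :=
  (normal_subgroupOf_iff_le_normalizer h.kk_le_mm).mpr (h.mm_le.trans (normalizer_le_kk V Z₁))

/-- elements of 2-power order modulo `C_G(Z₁)` -/
theorem mem_C_of_pow (h : Tau S S' V Z₁ Z₂ a b p₁ p₂ φ ψ ρ₁ ρ₂ l τ) {g : G} (hg : g ∈ mm Z₁ τ) {n : ℕ}
    (hn : g ^ 2 ^ n ∈ centralizer (Z₁ : Set G)) : g ∈ centralizer (Z₁ : Set G) := by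
  obtain ⟨c, hc, k, hk, rfl⟩ := h.exists_mul hg
  have hkn := h.C_n hk
  have hmod : ∀ m : ℕ, (c * k) ^ m * (k ^ m)⁻¹ ∈ centralizer (Z₁ : Set G) := by
    intro m
    induction m with
    | zero => rw [pow_zero, pow_zero, inv_one, one_mul]; exact one_mem _
    | succ m ih =>
      have e2 : (c * k) ^ (m + 1) * (k ^ (m + 1))⁻¹ = ((c * k) ^ m * (k ^ m)⁻¹) * (k ^ m * c * (k ^ m)⁻¹) := by
        rw [pow_succ, pow_succ]; group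
      rw [e2]
      exact mul_mem ih (conj_mem_of_normalizer le_rfl (pow_mem hkn m) hc)
  have h1 : (k ^ 2 ^ n)⁻¹ ∈ centralizer (Z₁ : Set G) :=
    (Subgroup.mul_mem_cancel_left _ hn).mp (hmod (2 ^ n))
  have h2 := h.eq_one (pow_mem hk (2 ^ n)) (inv_mem_iff.mp h1)
  have h3 : k = 1 := by
    have h4 : orderOf k ∣ 2 ^ n := orderOf_dvd_of_pow_eq_one h2
    have h5 : Odd (orderOf k) := by
      refine Odd.of_dvd_nat h.odd ?_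
      rw [← Nat.card_zpowers τ]
      exact (zpowers τ).orderOf_dvd_natCard hk
    have h6 : Nat.Coprime (orderOf k) (2 ^ n) := Nat.Coprime.pow_right n (Nat.coprime_two_right.mpr h5)
    exact orderOf_eq_one_iff.mp (Nat.eq_one_of_dvd_coprimes h6 dvd_rfl h4)
  rw [h3, mul_one]
  exact hc

/-- **`O₂(H) = 1`** -/
theorem pCore_eq (h : Tau S S' V Z₁ Z₂ a b p₁ p₂ φ ψ ρ₁ ρ₂ l τ) {X : Type*} [Group X] (π : mm Z₁ τ →* X)
    (hπ : Function.Surjective π) (hker : ∀ g : mm Z₁ τ, π g = 1 ↔ (g : G) ∈ kk V Z₁) : pCore 2 X = ⊥ := by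
  let R : Subgroup G := ((pCore 2 X).comap π).map (mm Z₁ τ).subtype
  have hR : ∀ g : mm Z₁ τ, (g : G) ∈ R ↔ π g ∈ pCore 2 X := by
    intro g
    constructor
    · rintro ⟨g', hg', e⟩
      have : g' = g := Subtype.ext e
      rw [← this]; exact hg'
    · intro hg
      exact ⟨g, hg, rfl⟩
  have hRM : R ≤ mm Z₁ τ := by
    rintro _ ⟨g, -, rfl⟩; exact g.2
  have hpow : ∀ g ∈ R, ∃ n : ℕ, g ^ 2 ^ n ∈ kk V Z₁ := by
    intro g hg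
    have h1 := (hR ⟨g, hRM hg⟩).mp hg
    obtain ⟨n, hn⟩ := Lib.Cores.pCore_isPGroup 2 ⟨_, h1⟩
    refine ⟨n, ?_⟩
    have h2 : π (⟨g, hRM hg⟩ ^ 2 ^ n) = 1 := by
      rw [map_pow]
      exact congrArg Subtype.val hn
    exact (hker _).mp h2
  have hRC : R ≤ centralizer (Z₁ : Set G) := by
    intro g hg
    obtain ⟨n, hn⟩ := hpow g hg
    exact h.mem_C_of_pow (hRM hg) (kk_le V Z₁ hn)
  have hcn : (pCore 2 X).Normal := Lib.Cores.pCore_normal 2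
  have hRK := h.ph.nn.le_kk (R := R) ?_ hRC ?_ hpow
  · rw [eq_bot_iff]
    intro x hx
    obtain ⟨g, rfl⟩ := hπ x
    rw [Subgroup.mem_bot, hker]
    exact hRK ((hR g).mpr hx)
  · intro k hk
    have h1 : (⟨k, h.kk_le_mm hk⟩ : mm Z₁ τ).1 ∈ R := by
      rw [hR, (hker _).mpr hk]
      exact one_mem _
    exact h1
  · refine le_normalizer_of_forall fun c hc g hg => ?_
    have h1 := (hR ⟨g, hRM hg⟩).mp hg
    have h2 := hcn.conj_mem _ h1 (π ⟨c, h.le_mm hc⟩)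
    rw [← map_mul, ← map_inv, ← map_mul] at h2
    exact (hR _).mpr h2

/-- **the abstract situation** -/
theorem ab (h : Tau S S' V Z₁ Z₂ a b p₁ p₂ φ ψ ρ₁ ρ₂ l τ) {X : Type u} [Group X] [Finite X] (π : mm Z₁ τ →* X)
    (hπ : Function.Surjective π) (hker : ∀ g : mm Z₁ τ, π g = 1 ↔ (g : G) ∈ kk V Z₁) (ho : OddCyc X)
    (ht : TameSec X) : Ab (((centralizer (Z₁ : Set G)).subgroupOf (mm Z₁ τ)).map π)
      (((uu V Z₂).subgroupOf (mm Z₁ τ)).map π) (π ⟨τ, h.mem_mm⟩) := by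
  have hUM : uu V Z₂ ≤ mm Z₁ τ := h.ph.nn.U_le_CZ.trans h.le_mm
  have hdvd : orderOf (π ⟨τ, h.mem_mm⟩) ∣ orderOf τ := by
    refine orderOf_dvd_of_pow_eq_one ?_
    rw [← map_pow]
    have : (⟨τ, h.mem_mm⟩ : mm Z₁ τ) ^ orderOf τ = 1 := Subtype.ext (pow_orderOf_eq_one τ)
    rw [this, map_one]
  have hmemA : ∀ x, x ∈ ((uu V Z₂).subgroupOf (mm Z₁ τ)).map π ↔ ∃ u, ∃ hu : u ∈ uu V Z₂, x = π ⟨u, hUM hu⟩ := by
    intro x
    constructor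
    · rintro ⟨u, hu, rfl⟩
      exact ⟨u.1, hu, rfl⟩
    · rintro ⟨u, hu, rfl⟩
      exact ⟨⟨u, hUM hu⟩, hu, rfl⟩
  have hNC : (centralizer (Z₁ : Set G)).subgroupOf (mm Z₁ τ) |>.Normal := by
    refine (normal_subgroupOf_iff_le_normalizer h.le_mm).mpr ?_
    exact h.mm_le.trans (le_normalizer_of_forall fun _ hy _ hc => NN.conj_C hy hc)
  refine ⟨ho, h.pCore_eq π hπ hker, ht, hNC.map π hπ, ?_, ?_, ?_, ?_, ?_, ?_, ?_, ?_, ?_, ?_⟩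
  · intro x
    obtain ⟨g, rfl⟩ := hπ x
    obtain ⟨c, hc, k, hk, e⟩ := h.exists_mul g.2
    refine ⟨π ⟨c, h.le_mm hc⟩, ⟨⟨c, h.le_mm hc⟩, hc, rfl⟩, π ⟨k, mem_sup_right hk⟩, ?_, ?_⟩
    · obtain ⟨i, rfl⟩ := mem_zpowers_iff.mp hk
      refine mem_zpowers_iff.mpr ⟨i, ?_⟩
      rw [← map_zpow]
      congr 1
    · rw [← map_mul]
      congr 1
      exact Subtype.ext e
  · refine Nat.Coprime.coprime_dvd_left ?_ (Nat.Coprime.coprime_dvd_right hdvd h.co)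
    have h1 := Subgroup.card_map_dvd (H := (centralizer (Z₁ : Set G)).subgroupOf (mm Z₁ τ)) π
    rwa [Nat.card_congr (subgroupOfEquivOfLe h.le_mm).toEquiv] at h1
  · exact Odd.of_dvd_nat h.odd hdvd
  · intro e
    have h1 := kk_le V Z₁ ((hker _).mp e)
    exact h.ne_one (h.ph.nn.Di_one_of_C h.dg.di h1)
  · refine Subgroup.map_mono ?_
    intro x hx
    exact h.ph.nn.U_le_CZ hx
  · intro x hx y hy
    obtain ⟨u, hu, rfl⟩ := (hmemA x).mp hx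
    obtain ⟨v, hv, rfl⟩ := (hmemA y).mp hy
    rw [← mul_inv_eq_one, mul_inv_rev, ← mul_assoc, ← map_mul, ← map_inv, ← map_mul, ← map_inv, ← map_mul, hker]
    have h1 := h.ph.nn'.comm_W hu.1 hv.1
    have h2 := h.ph.nn'.Z_le_D h1
    rw [dd_symm] at h2
    exact h.ph.nn.W_le_kk h2.1
  · intro x hx
    obtain ⟨u, hu, rfl⟩ := (hmemA x).mp hx
    rw [← map_mul, hker]
    have h2 := h.ph.nn'.Z_le_D (h.ph.nn'.sq_W hu.1)
    rw [dd_symm] at h2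
    exact h.ph.nn.W_le_kk h2.1
  · intro e
    apply h.ph.nn'.not_zero
    intro u hu
    have h1 : π ⟨u, hUM hu⟩ ∈ ((uu V Z₂).subgroupOf (mm Z₁ τ)).map π := (hmemA _).mpr ⟨u, hu, rfl⟩
    rw [e, Subgroup.mem_bot, hker] at h1
    rw [dd_symm]
    exact (h.ph.nn.U_inf_kk hu).mp h1
  · intro x hx
    obtain ⟨u, hu, rfl⟩ := (hmemA x).mp hx
    refine (hmemA _).mpr ⟨_, (h.dg.u₂ u hu).1, ?_⟩
    rw [← map_mul, ← map_inv, ← map_mul]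
    congr 1
  · intro k hk x hx e
    obtain ⟨u, hu, rfl⟩ := (hmemA x).mp hx
    have hlk : l ^ k ≠ 1 := by
      intro e2
      apply hk
      rw [← map_pow]
      have : (⟨τ, h.mem_mm⟩ : mm Z₁ τ) ^ k = 1 := Subtype.ext (h.pow_one_iff k e2)
      rw [this, map_one]
    have hdk := h.dg.pow k
    rw [← map_pow, ← map_mul, ← map_inv, ← map_mul, ← mul_inv_eq_one, ← map_inv, ← map_mul, hker] at e
    have h1 : τ ^ k * u * (τ ^ k)⁻¹ * u⁻¹ ∈ uu V Z₂ := mul_mem (hdk.u₂ u hu).1 (inv_mem hu)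
    have h2 : τ ^ k * u * (τ ^ k)⁻¹ * u⁻¹ ∈ dd V Z₂ Z₁ := by
      rw [dd_symm]
      exact (h.ph.nn.U_inf_kk h1).mp e
    have h3 := (h.ph.m₂.eq_iff (hdk.u₂ u hu).1 hu).mpr h2
    rw [(hdk.u₂ u hu).2] at h3
    have h4 : p₂ u = 0 := by
      have h5 : ρ₂ ((l ^ k)⁻¹ - 1) (p₂ u) = 0 := by
        rw [map_sub, map_one]
        change ρ₂ (l ^ k)⁻¹ (p₂ u) - p₂ u = 0
        rw [h3, sub_self]
      have h6 : (l ^ k)⁻¹ - 1 ≠ 0 := by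
        intro e2
        exact hlk (inv_eq_one.mp (sub_eq_zero.mp e2))
      have h7 : ρ₂ (((l ^ k)⁻¹ - 1)⁻¹ * ((l ^ k)⁻¹ - 1)) (p₂ u) = 0 := by
        rw [map_mul]
        change ρ₂ _ (ρ₂ _ (p₂ u)) = 0
        rw [h5, map_zero]
      rwa [inv_mul_cancel₀ h6, map_one] at h7
    have h8 := (h.ph.m₂.zero u hu).mp h4
    rw [dd_symm] at h8
    rw [hker]
    exact h.ph.nn.W_le_kk h8.1

end Tau

end Cfsg.Agent.OddCyclic.NatNonab
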