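import Cfsg.Agent.OddCyclic.NatNonab.Big
import Cfsg.Agent.OddCyclic.CaseATools

/-!
# `(5*)`, section 3: `q = 4`, the bound for `|C_D(T)|`
-/

set_option autoImplicit false
set_option linter.dupNamespace false
set_option linter.unusedSectionVars false

namespace Cfsg.Agent.OddCyclic.NatNonab

open Subgroup Cfsg Cfsg.Agent.ZN Cfsg.Agent.MinSimple.Geo
open Cfsg.Agent.OddCyclic.T1Defs (OddCyc)
open Cfsg.Agent.OddCyclic.KZeroCongr (KS)
open Cfsg.Agent.ZN.Block (conj_mem_of_normalizer conj_mem_of_normalizer' le_normalizer_of_forall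
  mem_normalizer_of)

universe u

variable {G : Type u} [Group G]
variable {F : Type} [Field F] [Fintype F] [CharP F 2] [Finite G] {S V Z₁ Z₂ : Subgroup G} {a b : F → G}
variable {S' : Subgroup G} {X₁ X₂ : Type u} [AddCommGroup X₁] [AddCommGroup X₂]
    {p₁ : G → X₁} {p₂ : G → X₂} {φ : F →+ X₂ →+ X₁} {ψ : F →+ X₁ →+ X₂}
    {ρ₁ : F →+* AddMonoid.End X₁} {ρ₂ : F →+* AddMonoid.End X₂} {l : F} {τ : G}

theorem comm_of_zpowers {x y d : G} (h : zpowers x = zpowers y) (hd : d * x = x * d) : d * y = y * d := by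
  have h1 : x ∈ centralizer ({d} : Set G) := mem_centralizer_singleton_iff.mpr hd.symm
  have h2 : y ∈ zpowers x := by rw [h]; exact mem_zpowers y
  exact (mem_centralizer_singleton_iff.mp ((zpowers_le.mpr h1) h2)).symm

namespace NN

/-- `C_D(⟨W₁, W₂⟩) = 1` -/
theorem cent_Y (h : NN S V Z₁ Z₂ a b) {d : G} (hd : d ∈ dd V Z₁ Z₂)
    (h1 : d ∈ centralizer ((wp V Z₁ : Subgroup G) : Set G)) (h2 : d ∈ centralizer ((wp V Z₂ : Subgroup G) : Set G)) :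
    d = 1 := by
  by_contra hd1
  let E : Subgroup G := dd V Z₁ Z₂ ⊓ (centralizer ((wp V Z₁ : Subgroup G) : Set G) ⊓
    centralizer ((wp V Z₂ : Subgroup G) : Set G))
  have hE : E ≠ ⊥ := by
    intro e
    have h3 : d ∈ E := ⟨hd, h1, h2⟩
    rw [e, Subgroup.mem_bot] at h3
    exact hd1 h3
  have hES : E ≤ S := fun e he => h.W_le_S he.1.1
  have hnS : ∀ s ∈ S, ∀ e ∈ E, s * e * s⁻¹ ∈ E := by
    intro s hs e he
    obtain ⟨t, ht⟩ := h.pts s hs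
    obtain ⟨w, hw, hwt⟩ := h.exists_rt t
    have hZ2 : cj s Z₂ = cj w Z₂ := by
      have hle : cj s Z₂ ≤ cj w Z₂ := by
        intro g hg
        obtain ⟨y, hy⟩ := (h.co.mem₂ _).mp (mem_cj.mp hg)
        obtain ⟨y', hy'⟩ := ht y
        refine (h.mem_cj_Z₂ hw g).mpr ⟨y', ?_⟩
        rw [hwt, ← hy', ← hy]; group
      exact eq_of_le_of_card_ge hle (by rw [card_cj, card_cj])
    have hW2 : cj s (wp V Z₂) = cj w (wp V Z₂) := by
      rw [cj_wp_of_mem (h.le' hs), cj_wp_of_mem (h.W_le_N hw), hZ2]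
    have hW1 : cj s (wp V Z₁) = wp V Z₁ := cj_wp_self (h.le hs)
    have c1 : s * e * s⁻¹ ∈ centralizer ((wp V Z₁ : Subgroup G) : Set G) := by
      refine mem_centralizer_iff.mpr fun y hy => ?_
      have hy' : s⁻¹ * y * s ∈ wp V Z₁ := by
        rw [← hW1] at hy; exact mem_cj.mp hy
      have h3 := mem_centralizer_iff.mp he.2.1 _ hy'
      calc y * (s * e * s⁻¹) = s * ((s⁻¹ * y * s) * e) * s⁻¹ := by group
        _ = s * (e * (s⁻¹ * y * s)) * s⁻¹ := by rw [h3]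
        _ = s * e * s⁻¹ * y := by group
    refine ⟨conj_mem_of_normalizer le_rfl (h.S_le_ND hs) he.1, c1, ?_⟩
    refine mem_centralizer_iff.mpr fun y hy => ?_
    -- `w y w⁻¹ ∈ W₂ ^ s`
    have h3 : w * y * w⁻¹ ∈ cj s (wp V Z₂) := by rw [hW2]; exact conj_mem_cj hy
    have h4 := mem_centralizer_iff.mp he.2.2 _ (mem_cj.mp h3)
    have h5 : w * (s * e * s⁻¹) = (s * e * s⁻¹) * w := mem_centralizer_iff.mp c1 w hw
    have h6 : (w * y * w⁻¹) * (s * e * s⁻¹) = (s * e * s⁻¹) * (w * y * w⁻¹) := by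
      calc (w * y * w⁻¹) * (s * e * s⁻¹) = s * ((s⁻¹ * (w * y * w⁻¹) * s) * e) * s⁻¹ := by group
        _ = s * (e * (s⁻¹ * (w * y * w⁻¹) * s)) * s⁻¹ := by rw [h4]
        _ = (s * e * s⁻¹) * (w * y * w⁻¹) := by group
    have h7 : w⁻¹ * (s * e * s⁻¹) = (s * e * s⁻¹) * w⁻¹ := by
      rw [inv_mul_eq_iff_eq_mul, ← mul_assoc, h5, mul_inv_cancel_right]
    calc y * (s * e * s⁻¹) = w⁻¹ * ((w * y * w⁻¹) * (w * (s * e * s⁻¹) * w⁻¹)) * w := by group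
      _ = w⁻¹ * ((w * y * w⁻¹) * (s * e * s⁻¹)) * w := by rw [h5, mul_inv_cancel_right]
      _ = w⁻¹ * ((s * e * s⁻¹) * (w * y * w⁻¹)) * w := by rw [h6]
      _ = (w⁻¹ * (s * e * s⁻¹)) * w * y := by group
      _ = s * e * s⁻¹ * y := by rw [h7, inv_mul_cancel_right]
  obtain ⟨e, he, heo, hec⟩ := CaseATools.exists_central_involution h.two hES hnS hE
  have hee : e * e = 1 := h.sq_D he.1
  have heZ := h.soc e (hES he) hee hec
  obtain ⟨x, rfl⟩ := (h.co.mem₁ _).mp heZ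
  obtain ⟨S', h'⟩ := h.symm
  obtain ⟨u, hu, hut⟩ := h'.exists_rt 1
  have h3 := h'.rt_eq hu x
  have h4 : u * a x = a x * u := mem_centralizer_iff.mp he.2.2 u hu
  rw [hut, h4, mul_inv_cancel_right, one_mul] at h3
  have h5 : 1 * a x = b x * a x := by rw [one_mul]; exact h3
  have h6 := h.co.b_eq_one (mul_right_cancel h5).symm
  rw [h6, h.co.a_zero, orderOf_one] at heo
  exact absurd heo (by norm_num)

end NN

namespace Tau

/-- `C_V(τ) = 1` -/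
theorem cent_V (h : Tau S S' V Z₁ Z₂ a b p₁ p₂ φ ψ ρ₁ ρ₂ l τ) {v : G} (hv : v ∈ V) (hc : v * τ = τ * v) : v = 1 := by
  have co := h.ph.nn.co
  obtain ⟨x, y, rfl⟩ := (co.mem v).mp hv
  have h1 := h.dg.di x y
  rw [← hc, mul_inv_cancel_right] at h1
  obtain ⟨h2, h3⟩ := co.eq_iff.mp h1
  have hx : x = 0 := by
    by_contra hx
    exact h.ne_one (mul_right_cancel₀ hx (by rw [one_mul]; exact h2.symm))
  have hy : y = 0 := by
    by_contra hy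
    exact h.ne_one (inv_eq_one.mp (mul_right_cancel₀ hy (by rw [one_mul]; exact h3.symm)))
  rw [hx, hy, co.a_zero, co.b_zero, one_mul]

/-- an element of `N_Y(T)` swapping the points -/
theorem exists_swap (h : Tau S S' V Z₁ Z₂ a b p₁ p₂ φ ψ ρ₁ ρ₂ l τ) :
    ∃ n ∈ wp V Z₁ ⊔ wp V Z₂, cj n (wp V Z₁) = wp V Z₂ ∧ zpowers (n * τ * n⁻¹) = zpowers τ := by
  have co := h.ph.nn.co
  obtain ⟨n₀, hn₀Y, hn₀, hna, -, -⟩ := h.ph.exists_n' (t := 1) one_ne_zero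
  let C : Subgroup G := centralizer (V : Set G) ⊓ (wp V Z₁ ⊔ wp V Z₂)
  -- `n₀ τ n₀⁻¹` acts as `l⁻¹`
  have hdi : Di a b l⁻¹ (n₀ * τ * n₀⁻¹) := by
    intro x y
    have e0 : ∀ x y, n₀⁻¹ * (a x * b y) * n₀ = a y * b x := by
      intro x y
      have := hna y x
      rw [one_mul, inv_one, one_mul] at this
      rw [← this]; group
    calc n₀ * τ * n₀⁻¹ * (a x * b y) * (n₀ * τ * n₀⁻¹)⁻¹ = n₀ * (τ * (n₀⁻¹ * (a x * b y) * n₀) * τ⁻¹) * n₀⁻¹ := by group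
      _ = n₀ * (a (l * y) * b (l⁻¹ * x)) * n₀⁻¹ := by rw [e0, h.dg.di]
      _ = _ := by rw [hna, one_mul, inv_one, one_mul, inv_inv]
  have hdi2 := hdi.mul h.dg.di
  rw [inv_mul_cancel₀ h.dg.ne] at hdi2
  have hτY := h.dg.memY
  have h1Y : n₀ * τ * n₀⁻¹ * τ ∈ wp V Z₁ ⊔ wp V Z₂ := mul_mem (mul_mem (mul_mem hn₀Y hτY) (inv_mem hn₀Y)) hτY
  have h1 : n₀ * τ * n₀⁻¹ * τ ∈ C := ⟨h.ph.nn.Di_CV hdi2, h1Y⟩
  have h2 : n₀ * τ * n₀⁻¹ ∈ C ⊔ zpowers τ := by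
    have e : n₀ * τ * n₀⁻¹ = (n₀ * τ * n₀⁻¹ * τ) * τ⁻¹ := by group
    rw [e]
    exact mul_mem (mem_sup_left h1) (mem_sup_right (inv_mem (mem_zpowers τ)))
  have hord : orderOf (n₀ * τ * n₀⁻¹) = orderOf τ := by
    have := orderOf_injective (MulAut.conj n₀).toMonoidHom (MulAut.conj n₀).injective τ
    simpa using this
  obtain ⟨g, hg, hgz⟩ := CycConj.zpowers_conj h.ph.nn.cyc (orderOf τ) (C ⊔ zpowers τ) τ (n₀ * τ * n₀⁻¹)
    (mem_sup_right (mem_zpowers τ)) h2 rfl hord h.odd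
  have hY : C ⊔ zpowers τ ≤ wp V Z₁ ⊔ wp V Z₂ := sup_le inf_le_right (zpowers_le.mpr hτY)
  have hN2 : C ⊔ zpowers τ ≤ normalizer (V : Set G) :=
    sup_le (inf_le_left.trans (centralizer_le_normalizer _)) (zpowers_le.mpr h.dg.nV)
  have hZ2 : C ⊔ zpowers τ ≤ normalizer (Z₂ : Set G) := by
    refine sup_le ?_ (zpowers_le.mpr (h.ph.nn.Di_nZ' h.dg.di))
    exact inf_le_left.trans ((centralizer_le co.Z₂_le).trans (centralizer_le_normalizer _))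
  refine ⟨g * n₀, mul_mem (hY hg) hn₀Y, ?_, ?_⟩
  · obtain ⟨c1, c2⟩ := h.ph.cj_of_swap one_ne_zero hn₀ hna
    rw [← cj_cj, cj_wp_of_mem hn₀, c1, cj_wp_of_mem (hN2 hg), cj_eq_of_mem_normalizer (hZ2 hg)]
  · have e : g * n₀ * τ * (g * n₀)⁻¹ = g * (n₀ * τ * n₀⁻¹) * g⁻¹ := by group
    rw [e, hgz]

/-- `C_D(τ) ∩ C(W₁) = 1` -/
theorem cent_W (h : Tau S S' V Z₁ Z₂ a b p₁ p₂ φ ψ ρ₁ ρ₂ l τ) {d : G} (hd : d ∈ dd V Z₁ Z₂)
    (hdτ : d * τ = τ * d) (h1 : d ∈ centralizer ((wp V Z₁ : Subgroup G) : Set G)) : d = 1 := by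
  obtain ⟨n, hn, hnW, hnz⟩ := h.exists_swap
  -- `n d n⁻¹ = d`
  have h2 : (n * d * n⁻¹) * τ = τ * (n * d * n⁻¹) := by
    refine comm_of_zpowers hnz ?_
    calc n * d * n⁻¹ * (n * τ * n⁻¹) = n * (d * τ) * n⁻¹ := by group
      _ = n * (τ * d) * n⁻¹ := by rw [hdτ]
      _ = n * τ * n⁻¹ * (n * d * n⁻¹) := by group
  have h3 := h.comm_DY hn hd
  have hdτ' : d⁻¹ * τ = τ * d⁻¹ := by
    rw [inv_mul_eq_iff_eq_mul, ← mul_assoc, hdτ, mul_inv_cancel_right]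
  have h4 : n * d * n⁻¹ * d⁻¹ = 1 := by
    refine h.cent_V h3 ?_
    calc n * d * n⁻¹ * d⁻¹ * τ = n * d * n⁻¹ * (d⁻¹ * τ) := by group
      _ = (n * d * n⁻¹ * τ) * d⁻¹ := by rw [hdτ']; group
      _ = τ * (n * d * n⁻¹ * d⁻¹) := by rw [h2]; group
  rw [mul_inv_eq_one] at h4
  refine h.ph.nn.cent_Y hd h1 (mem_centralizer_iff.mpr fun y hy => ?_)
  rw [← hnW] at hy
  have h5 := mem_centralizer_iff.mp h1 _ (mem_cj.mp hy)
  calc y * d = n * ((n⁻¹ * y * n) * (n⁻¹ * d * n)) * n⁻¹ := by group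
    _ = n * ((n⁻¹ * y * n) * d) * n⁻¹ := by
      have : n⁻¹ * d * n = d := by
        nth_rewrite 1 [← h4]; group
      rw [this]
    _ = n * (d * (n⁻¹ * y * n)) * n⁻¹ := by rw [h5]
    _ = (n * d * n⁻¹) * y := by group
    _ = d * y := by rw [h4]

end Tau

end Cfsg.Agent.OddCyclic.NatNonab
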