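import Cfsg.Agent.OddCyclic.NatNonab.Act

/-!
# `(5*)`: `X₁ = U₁/D` is a vector space over `F`, on which the elements `diag (l, l⁻¹)` of `Y` act as scalars
-/

set_option autoImplicit false
set_option linter.dupNamespace false
set_option linter.unusedSectionVars false

namespace Cfsg.Agent.OddCyclic.NatNonab

open Subgroup Cfsg Cfsg.Agent.ZN Cfsg.Agent.MinSimple.Geo
open Cfsg.Agent.OddCyclic.T1Defs (OddCyc)
open Cfsg.Agent.ZN.Block (conj_mem_of_normalizer conj_mem_of_normalizer' le_normalizer_of_forall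
  mem_normalizer_of)

universe u

variable {G : Type u} [Group G]
variable {F : Type} [Field F] [Fintype F] [CharP F 2] [Finite G] {S V Z₁ Z₂ : Subgroup G} {a b : F → G}

namespace Ph

variable {S' : Subgroup G} {X₁ X₂ : Type u} [AddCommGroup X₁] [AddCommGroup X₂]
    {p₁ : G → X₁} {p₂ : G → X₂} {φ : F →+ X₂ →+ X₁} {ψ : F →+ X₁ →+ X₂}

/-- an element swapping the points swaps `U₁` and `U₂` -/
theorem cj_of_swap (h : Ph S S' V Z₁ Z₂ a b p₁ p₂ φ ψ) {n : G} {t : F} (ht : t ≠ 0)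
    (hn : n ∈ normalizer (V : Set G)) (hs : ∀ x y, n * (a x * b y) * n⁻¹ = a (t * y) * b (t⁻¹ * x)) :
    cj n Z₁ = Z₂ ∧ cj n Z₂ = Z₁ := by
  have co := h.nn.co
  have e1 : ∀ x, n * a x * n⁻¹ = b (t⁻¹ * x) := fun x => by
    have := hs x 0
    rwa [mul_zero, co.a_zero, co.b_zero, mul_one, one_mul] at this
  have e2 : ∀ y, n * b y * n⁻¹ = a (t * y) := fun y => by
    have := hs 0 y
    rwa [mul_zero, co.a_zero, co.b_zero, mul_one, one_mul] at this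
  constructor
  · refine eq_of_le_of_card_ge ?_ ?_
    · intro g hg
      obtain ⟨x, hx⟩ := (co.mem₁ _).mp (mem_cj.mp hg)
      refine (co.mem₂ _).mpr ⟨t⁻¹ * x, ?_⟩
      rw [← e1, ← hx]; group
    · rw [card_cj, co.card_Z₁, co.symm.card_Z₁]
  · refine eq_of_le_of_card_ge ?_ ?_
    · intro g hg
      obtain ⟨x, hx⟩ := (co.mem₂ _).mp (mem_cj.mp hg)
      refine (co.mem₁ _).mpr ⟨t * x, ?_⟩
      rw [← e2, ← hx]; group
    · rw [card_cj, co.card_Z₁, co.symm.card_Z₁]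

theorem psi_phi (h : Ph S S' V Z₁ Z₂ a b p₁ p₂ φ ψ) {t : F} (ht : t ≠ 0) (x : X₂) : ψ t⁻¹ (φ t x) = x := by
  obtain ⟨n, -, hn, hs, hr⟩ := h.exists_n ht
  obtain ⟨c1, c2⟩ := h.cj_of_swap ht hn hs
  obtain ⟨u, hu, rfl⟩ := h.m₂.surj x
  have h1 := hr _ _ _ (h.rel_right hu)
  have h2 : n * u * n⁻¹ ∈ uu V Z₁ := by
    rw [← c2, ← cj_uu hn]
    exact conj_mem_cj hu
  have h3 := (h.rel_unique h1 (h.rel_left h2)).2
  rw [zero_add] at h3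
  exact (h.m₂.add_eq_zero.mp h3).symm

theorem phi_psi (h : Ph S S' V Z₁ Z₂ a b p₁ p₂ φ ψ) {t : F} (ht : t ≠ 0) (x : X₁) : φ t (ψ t⁻¹ x) = x := by
  have := h.symm.psi_phi (inv_ne_zero ht) x
  rwa [inv_inv] at this

theorem phi_psi_one (h : Ph S S' V Z₁ Z₂ a b p₁ p₂ φ ψ) (x : X₁) : φ 1 (ψ 1 x) = x := by
  have := h.phi_psi one_ne_zero x
  rwa [inv_one] at this

theorem psi_phi_one (h : Ph S S' V Z₁ Z₂ a b p₁ p₂ φ ψ) (x : X₂) : ψ 1 (φ 1 x) = x := h.symm.phi_psi_one x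

/-- `n(t)`, with its action on `U₁/D`, `U₂/D` -/
theorem exists_n' (h : Ph S S' V Z₁ Z₂ a b p₁ p₂ φ ψ) {t : F} (ht : t ≠ 0) :
    ∃ n ∈ wp V Z₁ ⊔ wp V Z₂, n ∈ normalizer (V : Set G) ∧
      (∀ x y, n * (a x * b y) * n⁻¹ = a (t * y) * b (t⁻¹ * x)) ∧
      (∀ u ∈ uu V Z₁, n * u * n⁻¹ ∈ uu V Z₂ ∧ p₂ (n * u * n⁻¹) = ψ t⁻¹ (p₁ u)) ∧
      (∀ u ∈ uu V Z₂, n * u * n⁻¹ ∈ uu V Z₁ ∧ p₁ (n * u * n⁻¹) = φ t (p₂ u)) := by
  obtain ⟨n, hnY, hn, hs, hr⟩ := h.exists_n ht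
  obtain ⟨c1, c2⟩ := h.cj_of_swap ht hn hs
  refine ⟨n, hnY, hn, hs, fun u hu => ?_, fun u hu => ?_⟩
  · have h2 : n * u * n⁻¹ ∈ uu V Z₂ := by
      rw [← c1, ← cj_uu hn]
      exact conj_mem_cj hu
    refine ⟨h2, ?_⟩
    have h1 := hr _ _ _ (h.rel_left hu)
    rw [map_zero, add_zero, zero_add] at h1
    exact ((h.rel_unique h1 (h.rel_right h2)).2).symm
  · have h2 : n * u * n⁻¹ ∈ uu V Z₁ := by
      rw [← c2, ← cj_uu hn]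
      exact conj_mem_cj hu
    refine ⟨h2, ?_⟩
    have h1 := hr _ _ _ (h.rel_right hu)
    rw [zero_add, h.psi_phi ht, h.m₂.two, map_zero, add_zero] at h1
    exact ((h.rel_unique h1 (h.rel_left h2)).1).symm

/-- the additive map `ρ t = φ t ∘ ψ 1` -/
noncomputable def rho (φ : F →+ X₂ →+ X₁) (ψ : F →+ X₁ →+ X₂) : F →+ AddMonoid.End X₁ where
  toFun t := (φ t).comp (ψ 1)
  map_zero' := by
    ext x
    change φ 0 (ψ 1 x) = 0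
    rw [map_zero]; rfl
  map_add' s t := by
    ext x
    change φ (s + t) (ψ 1 x) = φ s (ψ 1 x) + φ t (ψ 1 x)
    rw [map_add, AddMonoidHom.add_apply]

theorem rho_apply (t : F) (x : X₁) : rho φ ψ t x = φ t (ψ 1 x) := rfl

/-- **`h(s) = n(s) n(1)`** -/
theorem exists_h (h : Ph S S' V Z₁ Z₂ a b p₁ p₂ φ ψ) {s : F} (hs : s ≠ 0) :
    ∃ k ∈ wp V Z₁ ⊔ wp V Z₂, k ∈ normalizer (V : Set G) ∧
      (∀ x y, k * (a x * b y) * k⁻¹ = a (s * x) * b (s⁻¹ * y)) ∧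
      (∀ u ∈ uu V Z₁, k * u * k⁻¹ ∈ uu V Z₁ ∧ p₁ (k * u * k⁻¹) = φ s (ψ 1 (p₁ u))) ∧
      (∀ u ∈ uu V Z₂, k * u * k⁻¹ ∈ uu V Z₂ ∧ p₂ (k * u * k⁻¹) = ψ s⁻¹ (φ 1 (p₂ u))) := by
  obtain ⟨n, hnY, hn, hna, hn1, hn2⟩ := h.exists_n' hs
  obtain ⟨m, hmY, hm, hma, hm1, hm2⟩ := h.exists_n' (t := 1) one_ne_zero
  refine ⟨n * m, mul_mem hnY hmY, mul_mem hn hm, fun x y => ?_, fun u hu => ?_, fun u hu => ?_⟩
  · have e : n * m * (a x * b y) * (n * m)⁻¹ = n * (m * (a x * b y) * m⁻¹) * n⁻¹ := by group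
    rw [e, hma, hna, inv_one, one_mul, one_mul]
  · have e : n * m * u * (n * m)⁻¹ = n * (m * u * m⁻¹) * n⁻¹ := by group
    obtain ⟨h1, h2⟩ := hm1 u hu
    obtain ⟨h3, h4⟩ := hn2 _ h1
    rw [e]
    refine ⟨h3, ?_⟩
    rw [h4, h2, inv_one]
  · have e : n * m * u * (n * m)⁻¹ = n * (m * u * m⁻¹) * n⁻¹ := by group
    obtain ⟨h1, h2⟩ := hm2 u hu
    obtain ⟨h3, h4⟩ := hn1 _ h1
    rw [e]
    refine ⟨h3, ?_⟩
    rw [h4, h2]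

theorem cj_of_diag (h : Ph S S' V Z₁ Z₂ a b p₁ p₂ φ ψ) {k : G} {s : F}
    (hs : ∀ x y, k * (a x * b y) * k⁻¹ = a (s * x) * b (s⁻¹ * y)) : cj k Z₁ = Z₁ ∧ cj k Z₂ = Z₂ := by
  have co := h.nn.co
  have e1 : ∀ x, k * a x * k⁻¹ = a (s * x) := fun x => by
    have := hs x 0
    rwa [mul_zero, co.b_zero, mul_one, mul_one] at this
  have e2 : ∀ y, k * b y * k⁻¹ = b (s⁻¹ * y) := fun y => by
    have := hs 0 y
    rwa [mul_zero, co.a_zero, one_mul, one_mul] at this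
  constructor
  · refine eq_of_le_of_card_ge ?_ (by rw [card_cj])
    intro g hg
    obtain ⟨x, hx⟩ := (co.mem₁ _).mp (mem_cj.mp hg)
    refine (co.mem₁ _).mpr ⟨s * x, ?_⟩
    rw [← e1, ← hx]; group
  · refine eq_of_le_of_card_ge ?_ (by rw [card_cj])
    intro g hg
    obtain ⟨x, hx⟩ := (co.mem₂ _).mp (mem_cj.mp hg)
    refine (co.mem₂ _).mpr ⟨s⁻¹ * x, ?_⟩
    rw [← e2, ← hx]; group

/-- the Jordan identity -/
theorem quad (h : Ph S S' V Z₁ Z₂ a b p₁ p₂ φ ψ) {s : F} (hs : s ≠ 0) (t : F) (x : X₂) :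
    φ (s * s * t) x = φ s (ψ 1 (φ t (ψ 1 (φ s x)))) := by
  have co := h.nn.co
  obtain ⟨k, hkY, hk, hka, hk1, hk2⟩ := h.exists_h hs
  obtain ⟨c1, c2⟩ := h.cj_of_diag hka
  obtain ⟨w, hw, hwt⟩ := h.nn.exists_rt t
  have hw' : k * w * k⁻¹ ∈ wp V Z₁ := by
    have := conj_mem_wp' hk hw
    rwa [c1] at this
  have hkb : ∀ y, k * b y * k⁻¹ = b (s⁻¹ * y) := fun y => by
    have := hka 0 y
    rwa [mul_zero, co.a_zero, one_mul, one_mul] at this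
  have hrt : rt a b (k * w * k⁻¹) = s * s * t := by
    refine h.nn.rt_unique hw' ?_
    have e1 : k⁻¹ * b 1 * k = b s := by
      have := hkb s
      rw [inv_mul_cancel₀ hs] at this
      rw [← this]; group
    calc k * w * k⁻¹ * b 1 * (k * w * k⁻¹)⁻¹ = k * (w * (k⁻¹ * b 1 * k) * w⁻¹) * k⁻¹ := by group
      _ = k * (a (t * s) * b s) * k⁻¹ := by rw [e1, h.nn.rt_eq hw, hwt]
      _ = a (s * s * t) * b 1 := by
        rw [hka, inv_mul_cancel₀ hs]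
        congr 2
        ring
  obtain ⟨u, hu, rfl⟩ := h.m₂.surj x
  -- `v = k⁻¹ u k`
  have hv : k⁻¹ * u * k ∈ uu V Z₂ := by
    have h1 := cj_uu hk Z₂
    rw [c2] at h1
    rw [← h1] at hu
    exact mem_cj.mp hu
  obtain ⟨h3, h4⟩ := hk2 _ hv
  have e2 : k * (k⁻¹ * u * k) * k⁻¹ = u := by group
  rw [e2] at h4
  have h5 : ψ 1 (φ s (p₂ u)) = p₂ (k⁻¹ * u * k) := by
    have := h.phi_psi hs (φ 1 (p₂ (k⁻¹ * u * k)))
    rw [h4, this, h.psi_phi_one]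
  have h6 := h.hφ _ hw' u hu
  rw [hrt] at h6
  rw [h6, h5]
  have h7 := h.hφ _ hw _ hv
  rw [hwt] at h7
  rw [h7]
  obtain ⟨h8, h9⟩ := hk1 _ (h.nn.comm_WU hw hv)
  rw [← h9]
  congr 1
  group

/-- **(1.5)** the ring homomorphism -/
theorem exists_ring (h : Ph S S' V Z₁ Z₂ a b p₁ p₂ φ ψ) :
    ∃ ρ : F →+* AddMonoid.End X₁, ∀ t x, ρ t x = φ t (ψ 1 x) := by
  refine ⟨jordanHom (fun r => ?_) (rho φ ψ) ?_ ?_, fun t x => rfl⟩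
  · ext x
    exact h.m₁.two _
  · ext x
    exact h.phi_psi_one x
  · intro s t hs
    ext x
    change φ (s * s * t) (ψ 1 x) = φ s (ψ 1 (φ t (ψ 1 (φ s (ψ 1 x)))))
    exact h.quad hs t (ψ 1 x)

/-- **(1.5)** the scalar actions on both modules -/
theorem exists_rings (h : Ph S S' V Z₁ Z₂ a b p₁ p₂ φ ψ) :
    ∃ (ρ₁ : F →+* AddMonoid.End X₁) (ρ₂ : F →+* AddMonoid.End X₂), ∀ s : F, s ≠ 0 →
      ∃ k ∈ wp V Z₁ ⊔ wp V Z₂, k ∈ normalizer (V : Set G) ∧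
      (∀ x y, k * (a x * b y) * k⁻¹ = a (s * x) * b (s⁻¹ * y)) ∧
      (∀ u ∈ uu V Z₁, k * u * k⁻¹ ∈ uu V Z₁ ∧ p₁ (k * u * k⁻¹) = ρ₁ s (p₁ u)) ∧
      (∀ u ∈ uu V Z₂, k * u * k⁻¹ ∈ uu V Z₂ ∧ p₂ (k * u * k⁻¹) = ρ₂ s⁻¹ (p₂ u)) := by
  obtain ⟨ρ₁, h1⟩ := h.exists_ring
  obtain ⟨ρ₂, h2⟩ := h.symm.exists_ring
  refine ⟨ρ₁, ρ₂, fun s hs => ?_⟩
  obtain ⟨k, hk1, hk2, hk3, hk4, hk5⟩ := h.exists_h hs
  refine ⟨k, hk1, hk2, hk3, fun u hu => ?_, fun u hu => ?_⟩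
  · rw [h1]; exact hk4 u hu
  · rw [h2]; exact hk5 u hu

end Ph

end Cfsg.Agent.OddCyclic.NatNonab
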