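import Cfsg.Agent.OddCyclic.NatNonab.Cnt
import Cfsg.Agent.Lib.Zsigmondy
import Cfsg.Agent.OddCyclic.T1SzFacts

/-!
# `(5*)`, section 3: `q = 4`, the contradiction
-/

set_option autoImplicit false
set_option linter.dupNamespace false
set_option linter.unusedSectionVars false

namespace Cfsg.Agent.OddCyclic.NatNonab

open Subgroup Cfsg Cfsg.Agent.ZN Cfsg.Agent.MinSimple.Geo
open Cfsg.Agent.OddCyclic.T1Defs (OddCyc)
open Cfsg.Agent.OddCyclic.Zass (IsZT)
open Cfsg.Agent.OddCyclic.UniStruct (TameSec)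
open Cfsg.Agent.OddCyclic.PumpMain (KZero)
open Cfsg.Agent.OddCyclic.KZeroCongr (KS)
open Cfsg.Agent.SignalizersComponents.Components
open Cfsg.Agent.ZN.Block (conj_mem_of_normalizer conj_mem_of_normalizer' le_normalizer_of_forall
  mem_normalizer_of)

universe u

/-- the fixed points of a map of prime order -/
theorem modEq_fixed {Y : Type*} [AddCommGroup Y] [Finite Y] (f : Y →+ Y) {p : ℕ} (hp : p.Prime)
    (hf : ∀ y, f^[p] y = y) : Nat.card Y ≡ Nat.card {y : Y // f y = y} [MOD p] := by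
  classical
  have : Fact p.Prime := ⟨hp⟩
  have := Fintype.ofFinite Y
  let g : Function.End Y := fun y => f y
  have hg : g ^ p ^ 1 = 1 := by
    rw [pow_one]
    funext y
    have h1 : ∀ k : ℕ, (g ^ k) y = f^[k] y := by
      intro k
      induction k generalizing y with
      | zero => rfl
      | succ k ih =>
        rw [pow_succ]
        change (g ^ k) (f y) = f^[k] (f y)
        exact ih (f y)
    rw [h1, hf]; rfl
  have h2 := Equiv.Perm.card_fixedPoints_modEq hg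
  rw [← Nat.card_eq_fintype_card, ← Nat.card_eq_fintype_card] at h2
  exact h2

variable {G : Type u} [Group G]
variable {F : Type} [Field F] [Fintype F] [CharP F 2] [Finite G] {S V Z₁ Z₂ : Subgroup G} {a b : F → G}

theorem Md.card_two_pow {U D : Subgroup G} {X : Type*} [AddCommGroup X] {p : G → X} (h : Md U D p)
    (hU : IsPGroup 2 U) : ∃ j, Nat.card X = 2 ^ j := by
  have : Fact (Nat.Prime 2) := ⟨Nat.prime_two⟩
  obtain ⟨m, hm⟩ := hU.exists_card_eq
  have h1 : Nat.card X ∣ 2 ^ m := by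
    rw [← hm, h.card]; exact dvd_mul_left _ _
  obtain ⟨j, -, hj⟩ := (Nat.dvd_prime_pow Nat.prime_two).mp h1
  exact ⟨j, hj⟩

/-- **the lower bound** -/
theorem NN.lower (h : NN S V Z₁ Z₂ a b) {p N : ℕ} (hp : p.Prime) (hp2 : p ≠ 2)
    (hN : ∀ k, p ∣ 2 ^ k - 1 → N ∣ k) {z : G} (hz : z ∈ centralizer (Z₁ : Set G)) (hzp : z ^ p ∈ kk V Z₁)
    (hz1 : z ∉ kk V Z₁) : Nat.card Z₁ * 2 ^ N ≤ Nat.card (wp V Z₁) := by
  have hZW : Z₁ ≤ wp V Z₁ := h.co.Z₁_le.trans (le_wp V Z₁)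
  obtain ⟨Y, iY, pY, hY⟩ := exists_Md (U := wp V Z₁) (D := Z₁) hZW
    (fun w hw d hd => conj_mem_of_normalizer le_rfl (h.W_le_NZ hw) hd) (fun w hw => h.sq_W hw)
  have : Finite Y := hY.finite
  rw [hY.card]
  refine Nat.mul_le_mul_left _ ?_
  have hzN := NN.C_le_N hz
  have hzW : ∀ (k : ℕ), ∀ w ∈ wp V Z₁, z ^ k * w * (z ^ k)⁻¹ ∈ wp V Z₁ := fun k w hw =>
    conj_mem_wp (pow_mem hzN k) hw
  obtain ⟨f, hf⟩ := hY.lift hY (fun w => z * w * z⁻¹) (fun w hw => conj_mem_wp hzN hw)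
    (fun u _ v _ => by
      change z * (u * v) * z⁻¹ * (z * u * z⁻¹ * (z * v * z⁻¹))⁻¹ ∈ Z₁
      have e : z * (u * v) * z⁻¹ * (z * u * z⁻¹ * (z * v * z⁻¹))⁻¹ = 1 := by group
      rw [e]; exact one_mem _)
    (fun d hd => conj_mem_of_normalizer le_rfl hzN hd)
  have hfk : ∀ (k : ℕ), ∀ w ∈ wp V Z₁, f^[k] (pY w) = pY (z ^ k * w * (z ^ k)⁻¹) := by
    intro k
    induction k with
    | zero => intro w _; simp
    | succ k ih =>
      intro w hw
      rw [Function.iterate_succ_apply', ih w hw, hf _ (hzW k w hw)]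
      congr 1
      rw [pow_succ']; group
  have hfp : ∀ y, f^[p] y = y := by
    intro y
    obtain ⟨w, hw, rfl⟩ := hY.surj y
    rw [hfk p w hw, hY.eq_iff (hzW p w hw) hw]
    exact hzp.2 w hw
  have hmod := modEq_fixed f hp hfp
  -- the fixed points form a subgroup
  let Fx : AddSubgroup Y := (f - AddMonoidHom.id Y).ker
  have hFx : ∀ y, y ∈ Fx ↔ f y = y := by
    intro y
    change f y - y = 0 ↔ _
    exact sub_eq_zero
  have hcard : Nat.card {y : Y // f y = y} = Nat.card Fx :=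
    Nat.card_congr (Equiv.subtypeEquivRight fun y => (hFx y).symm)
  rw [hcard] at hmod
  obtain ⟨A, hA⟩ := hY.card_two_pow h.two_W
  have hd : Nat.card Fx ∣ 2 ^ A := by rw [← hA]; exact AddSubgroup.card_addSubgroup_dvd_card Fx
  obtain ⟨B, hBA, hB⟩ := (Nat.dvd_prime_pow Nat.prime_two).mp hd
  have hne : B ≠ A := by
    rintro rfl
    apply hz1
    have h1 : Fx = ⊤ := AddSubgroup.eq_top_of_card_eq Fx (by rw [hB, hA])
    refine ⟨hz, fun w hw => ?_⟩
    have h2 : pY w ∈ Fx := by rw [h1]; exact AddSubgroup.mem_top _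
    rw [hFx, hf w hw] at h2
    exact (hY.eq_iff (conj_mem_wp hzN hw) hw).mp h2
  have hlt : B < A := lt_of_le_of_ne hBA hne
  rw [hA, hB] at hmod
  have h1 : p ∣ 2 ^ A - 2 ^ B := (Nat.modEq_iff_dvd' (Nat.pow_le_pow_right (by norm_num) hBA)).mp hmod.symm
  have h2 : 2 ^ A - 2 ^ B = 2 ^ B * (2 ^ (A - B) - 1) := by
    rw [Nat.mul_sub, mul_one, ← pow_add, Nat.add_sub_cancel' hBA]
  rw [h2] at h1
  have h3 : p ∣ 2 ^ (A - B) - 1 := by
    refine (Nat.Coprime.dvd_mul_left ?_).mp h1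
    exact Nat.Coprime.pow_right B ((Nat.coprime_primes hp Nat.prime_two).mpr hp2)
  have h4 := Nat.le_of_dvd (by omega) (hN _ h3)
  rw [hA]
  exact Nat.pow_le_pow_right (by norm_num) (by omega)

variable {S' : Subgroup G} {X₁ X₂ : Type u} [AddCommGroup X₁] [AddCommGroup X₂]
    {p₁ : G → X₁} {p₂ : G → X₂} {φ : F →+ X₂ →+ X₁} {ψ : F →+ X₁ →+ X₂}
    {ρ₁ : F →+* AddMonoid.End X₁} {ρ₂ : F →+* AddMonoid.End X₂} {l : F} {τ : G}

namespace Tau

theorem card_X_eq (h : Tau S S' V Z₁ Z₂ a b p₁ p₂ φ ψ ρ₁ ρ₂ l τ) : Nat.card X₁ = Nat.card X₂ :=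
  Nat.card_congr ⟨ψ 1, φ 1, h.ph.phi_psi_one, h.ph.psi_phi_one⟩

/-- `|X₂| ≡ 1 mod 3` -/
theorem card_X_mod (h : Tau S S' V Z₁ Z₂ a b p₁ p₂ φ ψ ρ₁ ρ₂ l τ) (h4 : Fintype.card F = 4) :
    Nat.card X₂ ≡ 1 [MOD 3] := by
  have : Finite X₂ := h.ph.m₂.finite
  have hl3 : l * l * l = 1 := by
    have h1 := FiniteField.pow_card_sub_one_eq_one l h.dg.ne
    rw [h4] at h1
    calc l * l * l = l ^ (4 - 1) := by rw [show 4 - 1 = 3 from rfl, pow_succ, pow_two]
      _ = 1 := h1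
  let r : X₂ →+ X₂ := ρ₂ l
  have h1 : Nat.card X₂ ≡ Nat.card {y : X₂ // r y = y} [MOD 3] := modEq_fixed r Nat.prime_three (fun y => by
    have h2 : ρ₂ (l * l * l) y = y := by rw [hl3, map_one]; rfl
    rw [map_mul, map_mul] at h2
    exact h2)
  have h2 : Nat.card {y : X₂ // r y = y} = 1 := by
    rw [Nat.card_eq_one_iff_unique]
    refine ⟨⟨fun x y => ?_⟩, ⟨0, map_zero _⟩⟩
    have key : ∀ x : X₂, r x = x → x = 0 := by
      intro x hx
      have hx' : ρ₂ l x = x := hx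
      have h5 : ρ₂ (l - 1) x = 0 := by
        rw [map_sub, map_one]
        change ρ₂ l x - x = 0
        rw [hx', sub_self]
      have h6 : l - 1 ≠ 0 := fun e => h.ne_one (sub_eq_zero.mp e)
      have h7 : ρ₂ ((l - 1)⁻¹ * (l - 1)) x = 0 := by
        rw [map_mul]
        change ρ₂ _ (ρ₂ _ x) = 0
        rw [h5, map_zero]
      rwa [inv_mul_cancel₀ h6, map_one] at h7
    exact Subtype.ext ((key _ x.2).trans (key _ y.2).symm)
  rwa [h2] at h1

/-- **the case `q = 4`** -/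
theorem small (h : Tau S S' V Z₁ Z₂ a b p₁ p₂ φ ψ ρ₁ ρ₂ l τ) (h4 : Fintype.card F = 4) {X : Type u} [Group X]
    [Finite X] (π : mm Z₁ τ →* X)
    (hπ : Function.Surjective π) (hker : ∀ g : mm Z₁ τ, π g = 1 ↔ (g : G) ∈ kk V Z₁) (ho : OddCyc X)
    (ht : TameSec X) (hK : ∀ L : Subgroup X, IsComponent L → KZero L) : False := by
  have h2p : Fact (Nat.Prime 2) := ⟨Nat.prime_two⟩
  have hab := h.ab π hπ hker ho ht
  have hUM : uu V Z₂ ≤ mm Z₁ τ := h.ph.nn.U_le_CZ.trans h.le_mm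
  have h3 : ¬ 3 ∣ Nat.card (((centralizer (Z₁ : Set G)).subgroupOf (mm Z₁ τ)).map π) := by
    intro hd
    have h1 := hd.trans (Subgroup.card_map_dvd (H := (centralizer (Z₁ : Set G)).subgroupOf (mm Z₁ τ)) π)
    rw [Nat.card_congr (subgroupOfEquivOfLe h.le_mm).toEquiv] at h1
    have h5 := h.ph.nn.coprime_C
    rw [h4] at h5
    have h6 := Nat.eq_one_of_dvd_coprimes h5 h1 (dvd_refl 3)
    omega
  obtain ⟨L, hLn, hLC, hAL, hsz⟩ := hab.suzuki hK h3
  set A := ((uu V Z₂).subgroupOf (mm Z₁ τ)).map π with hAd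
  obtain ⟨m, hm, hZ⟩ := Zass.isZT_suzuki hsz
  set n := 2 * m + 1 with hn
  -- `|A| ≤ 2 ^ n`
  have hA2 : IsPGroup 2 (A.subgroupOf L) := by
    intro x
    refine ⟨1, ?_⟩
    apply Subtype.ext
    apply Subtype.ext
    change ((x : L) : X) ^ 2 ^ 1 = 1
    rw [pow_one, pow_two]
    exact hab.sq _ x.2
  obtain ⟨P, hP⟩ := hA2.exists_le_sylow
  have hsm := T1SzFacts.szMore hsz P
  have hcardZ : Nat.card ((P : Subgroup L) ⊓ centralizer ((P : Subgroup L) : Set L) : Subgroup L) = 2 ^ n := by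
    have h5 := hsm.card_eq
    rw [hZ.sylow P] at h5
    exact (Nat.pow_left_injective (n := 2) (by norm_num) h5).symm
  have hcardA : Nat.card A ≤ 2 ^ n := by
    have h5 := hsm.elem_le hP (fun a ha => Subtype.ext (hab.sq _ ha))
    have h6 := Subgroup.card_le_of_le h5
    rw [hcardZ] at h6
    rwa [Nat.card_congr (subgroupOfEquivOfLe hAL).toEquiv] at h6
  -- `|X₂| ≤ |A|`
  have hcardX : Nat.card X₂ ≤ Nat.card A := by
    choose s hs hs' using h.ph.m₂.surj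
    let f : X₂ → A := fun x => ⟨π ⟨s x, hUM (hs x)⟩, ⟨⟨s x, hUM (hs x)⟩, hs x, rfl⟩⟩
    refine Nat.card_le_card_of_injective f ?_
    intro x y e
    have e1 : π ⟨s x, hUM (hs x)⟩ = π ⟨s y, hUM (hs y)⟩ := congrArg Subtype.val e
    rw [← mul_inv_eq_one, ← map_inv, ← map_mul, hker] at e1
    have e2 : s x * (s y)⁻¹ ∈ kk V Z₁ := e1
    have e3 := (h.ph.nn.U_inf_kk (mul_mem (hs x) (inv_mem (hs y)))).mp e2
    rw [dd_symm] at e3
    have e4 := (h.ph.m₂.eq_iff (hs x) (hs y)).mpr e3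
    rw [hs', hs'] at e4
    exact e4
  obtain ⟨j, hj⟩ := h.ph.m₂.card_two_pow (h.ph.nn'.two_W.to_le inf_le_left)
  have hjn : j ≤ n := by
    have h5 : 2 ^ j ≤ 2 ^ n := by rw [← hj]; exact hcardX.trans hcardA
    exact (Nat.pow_le_pow_iff_right (by norm_num)).mp h5
  have hmod := h.card_X_mod h4
  rw [hj] at hmod
  have hjn' : j ≠ n := by
    rintro rfl
    have h5 : 2 ^ n % 3 = 2 := by
      rw [hn, pow_succ, pow_mul, Nat.mul_mod, Nat.pow_mod]
      norm_num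
    have h6 : 2 ^ n % 3 = 1 % 3 := hmod
    omega
  -- the lower bound
  obtain ⟨p, hp, hp1, hp3, hp2⟩ := Lib.Zsigmondy.exists_primitive (a := 2) (n := 4 * n) le_rfl (by omega)
    (fun h => by omega) (fun h => by omega)
  have hpne : p ≠ 2 := fun e => hp2 (by rw [e])
  have hpL : p ∣ Nat.card L := by
    rw [hZ.card]
    have h5 : p ∣ 2 ^ (4 * n) - 1 := (hp1 _).mpr dvd_rfl
    have h6 : 2 ^ (4 * n) - 1 = ((2 ^ n) ^ 2 + 1) * (2 ^ (2 * n) - 1) := by
      have e1 : 2 ^ (4 * n) = (2 ^ (2 * n)) ^ 2 := by rw [← pow_mul]; congr 1; omega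
      have e2 : (2 ^ n) ^ 2 = 2 ^ (2 * n) := by rw [← pow_mul]; congr 1; omega
      rw [e1, e2]
      obtain ⟨x, hx⟩ : ∃ x, 2 ^ (2 * n) = x + 1 := ⟨2 ^ (2 * n) - 1, by
        have : 1 ≤ 2 ^ (2 * n) := Nat.one_le_two_pow
        omega⟩
      rw [hx]
      have : (x + 1) ^ 2 = (x + 1 + 1) * x + 1 := by ring
      simp only [Nat.add_sub_cancel]
      omega
    rw [h6] at h5
    rcases (hp.dvd_mul).mp h5 with h7 | h7
    · rw [mul_assoc]
      exact dvd_mul_of_dvd_left h7 _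
    · exfalso
      have h8 := Nat.le_of_dvd (by omega) ((hp1 _).mp h7)
      omega
  have : Fact p.Prime := ⟨hp⟩
  obtain ⟨zb, hzb⟩ := exists_prime_orderOf_dvd_card' (G := L) p hpL
  obtain ⟨⟨z, hzM⟩, hz, hzπ⟩ := hLC zb.2
  have hzo : orderOf (zb : X) = p := by rw [Subgroup.orderOf_coe]; exact hzb
  have hlow := h.ph.nn.lower hp hpne (N := 4 * n) (fun k hk => (hp1 k).mp hk) (z := z) hz ?_ ?_
  · have hup := h.card_W_le h4
    rw [h.ph.nn.co.card_Z₁, Nat.card_eq_fintype_card, h4] at hlow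
    rw [h.card_X_eq, hj] at hup
    have h5 : 2 ^ (4 * n) ≤ 64 * (2 ^ j * 2 ^ j) := by omega
    have h6 : 64 * (2 ^ j * 2 ^ j) = 2 ^ (6 + (j + j)) := by
      rw [pow_add, pow_add]; norm_num
    rw [h6, Nat.pow_le_pow_iff_right (by norm_num)] at h5
    omega
  · have h5 : π (⟨z, hzM⟩ ^ p) = 1 := by
      rw [map_pow, hzπ, ← hzo, pow_orderOf_eq_one]
    exact (hker _).mp h5
  · intro hzk
    have h5 : π ⟨z, hzM⟩ = 1 := (hker _).mpr hzk
    rw [hzπ] at h5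
    rw [h5, orderOf_one] at hzo
    exact hp.one_lt.ne hzo

end Tau

end Cfsg.Agent.OddCyclic.NatNonab
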