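import Cfsg.Agent.OddCyclic.ZT
import Cfsg.Agent.OddCyclic.CycConj
import Cfsg.Agent.MinSimple.Geo

/-!
# `(5*)`, (2.3): coprime automorphisms of normal Zassenhaus subgroups

`L ⊴ H` acts on its Sylow 2-subgroups as a Zassenhaus group, `t ∈ H` of odd order prime to `|L|` normalises the Sylow
subgroup `P` of `L`: some `l ∈ C_L(t)` does not normalise `P`.
-/

set_option autoImplicit false
set_option linter.dupNamespace false
set_option linter.unusedSectionVars false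

namespace Cfsg.Agent.OddCyclic.NatNonab

open Subgroup Cfsg Cfsg.Agent.ZN Cfsg.Agent.MinSimple.Geo
open Cfsg.Agent.OddCyclic.T1Defs (OddCyc)
open Cfsg.Agent.OddCyclic.Zass (IsZT)
open Cfsg.Agent.ZN.Block (conj_mem_of_normalizer conj_mem_of_normalizer' le_normalizer_of_forall
  mem_normalizer_of)
open scoped Pointwise

variable {H : Type*} [Group H]

/-- the Sylow 2-subgroups of `L` (`u` their order) -/
def Om (L : Subgroup H) (u : ℕ) : Set (Subgroup H) := {P | P ≤ L ∧ Nat.card P = u}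

variable {L : Subgroup H} {u s : ℕ}

theorem Om.conj (hL : L.Normal) {P : Subgroup H} (hP : P ∈ Om L u) (g : H) : cj g P ∈ Om L u := by
  refine ⟨?_, by rw [card_cj]; exact hP.2⟩
  have h1 : cj g L = L := by
    refine cj_eq_of_mem_normalizer ?_
    rw [Subgroup.normalizer_eq_top]; exact mem_top g
  rw [← h1]
  exact cj_mono hP.1

variable [Finite H]

theorem Om.sylow (hZ : IsZT L 2 u s) {P : Subgroup H} (hP : P ∈ Om L u) :
    ∃ P' : Sylow 2 L, ∀ x : L, x ∈ P' ↔ (x : H) ∈ P := by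
  have : Fact (Nat.Prime 2) := ⟨Nat.prime_two⟩
  obtain ⟨P₀⟩ : Nonempty (Sylow 2 L) := inferInstance
  have h1 : Nat.card (P.subgroupOf L) = 2 ^ (Nat.card L).factorization 2 := by
    have h2 : Nat.card (P.subgroupOf L) = u := by
      rw [← hP.2]; exact Nat.card_congr (subgroupOfEquivOfLe hP.1).toEquiv
    rw [h2, ← hZ.sylow P₀]
    exact P₀.card_eq_multiplicity
  exact ⟨Sylow.ofCard (P.subgroupOf L) h1, fun x => Iff.rfl⟩

theorem Om.of_sylow (hZ : IsZT L 2 u s) (P' : Sylow 2 L) : (P' : Subgroup L).map L.subtype ∈ Om L u := by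
  refine ⟨?_, ?_⟩
  · rintro _ ⟨x, -, rfl⟩; exact x.2
  · rw [Subgroup.card_map_of_injective L.subtype_injective]
    exact hZ.sylow P'

/-- `x ∈ L` and the action on the Sylow subgroups -/
theorem Om.smul_eq {P Q : Subgroup H} {P' Q' : Sylow 2 L} (hP : P ≤ L) (hQ : Q ≤ L)
    (h1 : ∀ x : L, x ∈ P' ↔ (x : H) ∈ P) (h2 : ∀ x : L, x ∈ Q' ↔ (x : H) ∈ Q) (x : L) :
    x • P' = Q' ↔ cj (x : H) P = Q := by
  constructor
  · intro e
    ext y
    rw [mem_cj]
    constructor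
    · intro hy
      have hyL : y ∈ L := by
        have h3 := mul_mem (mul_mem x.2 (hP hy)) (inv_mem x.2)
        have e2 : (x : H) * ((x : H)⁻¹ * y * x) * (x : H)⁻¹ = y := by group
        rwa [e2] at h3
      have h3 : (⟨y, hyL⟩ : L) ∈ x • P' := by
        rw [Zass.mem_smul, h1]
        exact hy
      rw [e, h2] at h3
      exact h3
    · intro hy
      have h3 : (⟨y, hQ hy⟩ : L) ∈ x • P' := by rw [e, h2]; exact hy
      rw [Zass.mem_smul, h1] at h3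
      exact h3
  · intro e
    refine Sylow.ext (SetLike.ext fun y => ?_)
    have h3 : y ∈ x • P' ↔ y ∈ Q' := by
      rw [Zass.mem_smul, h1, h2, ← e, mem_cj]
      exact Iff.rfl
    exact h3

theorem Om.reg (hZ : IsZT L 2 u s) {P Q : Subgroup H} (hP : P ∈ Om L u) (hQ : Q ∈ Om L u) (hne : P ≠ Q) {x : H}
    (hx : x ∈ P) (hn : cj x Q = Q) : x = 1 := by
  obtain ⟨P', h1⟩ := Om.sylow hZ hP
  obtain ⟨Q', h2⟩ := Om.sylow hZ hQ
  have hne' : Q' ≠ P' := by
    rintro rfl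
    apply hne
    ext y
    constructor
    · intro hy; exact (h2 ⟨y, hP.1 hy⟩).mp ((h1 ⟨y, hP.1 hy⟩).mpr hy)
    · intro hy; exact (h1 ⟨y, hQ.1 hy⟩).mp ((h2 ⟨y, hQ.1 hy⟩).mpr hy)
  have h3 := (Om.smul_eq hQ.1 hQ.1 h2 h2 ⟨x, hP.1 hx⟩).mpr hn
  exact congrArg Subtype.val (hZ.reg P' Q' hne' ((h1 ⟨x, hP.1 hx⟩).mpr hx) h3)

theorem Om.trans (hZ : IsZT L 2 u s) {P Q R : Subgroup H} (hP : P ∈ Om L u) (hQ : Q ∈ Om L u) (hR : R ∈ Om L u)
    (h1 : Q ≠ P) (h2 : R ≠ P) : ∃ x ∈ P, cj x Q = R := by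
  obtain ⟨P', hP'⟩ := Om.sylow hZ hP
  obtain ⟨Q', hQ'⟩ := Om.sylow hZ hQ
  obtain ⟨R', hR'⟩ := Om.sylow hZ hR
  have key : ∀ {Q : Subgroup H} {Q' : Sylow 2 L}, Q ∈ Om L u → (∀ x : L, x ∈ Q' ↔ (x : H) ∈ Q) → Q ≠ P → Q' ≠ P' := by
    rintro Q Q' hQ hQ' hne rfl
    apply hne
    ext y
    constructor
    · intro hy; exact (hP' ⟨y, hQ.1 hy⟩).mp ((hQ' ⟨y, hQ.1 hy⟩).mpr hy)
    · intro hy; exact (hQ' ⟨y, hP.1 hy⟩).mp ((hP' ⟨y, hP.1 hy⟩).mpr hy)
  obtain ⟨x, hx, e⟩ := hZ.trans P' Q' R' (key hQ hQ' h1) (key hR hR' h2)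
  exact ⟨x, (hP' x).mp hx, (Om.smul_eq hQ.1 hR.1 hQ' hR' x).mp e⟩

theorem Om.exists_three (hZ : IsZT L 2 u s) {P : Subgroup H} (hP : P ∈ Om L u) :
    ∃ Q ∈ Om L u, ∃ R ∈ Om L u, P ≠ Q ∧ Q ≠ R ∧ P ≠ R := by
  obtain ⟨P', hP'⟩ := Om.sylow hZ hP
  obtain ⟨Q', R', h1, h2, h3⟩ := hZ.exists_three P'
  have hPm : P = (P' : Subgroup L).map L.subtype := by
    ext y
    constructor
    · intro hy; exact ⟨⟨y, hP.1 hy⟩, (hP' _).mpr hy, rfl⟩
    · rintro ⟨x, hx, rfl⟩; exact (hP' x).mp hx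
  have key : ∀ {Q' R' : Sylow 2 L}, Q' ≠ R' → (Q' : Subgroup L).map L.subtype ≠ (R' : Subgroup L).map L.subtype := by
    intro Q' R' hne e
    exact hne (Sylow.ext (Subgroup.map_injective L.subtype_injective e))
  exact ⟨_, Om.of_sylow hZ Q', _, Om.of_sylow hZ R', by rw [hPm]; exact key h1, key h2, by rw [hPm]; exact key h3⟩

theorem coprime_mem {K : Subgroup H} {t : H} (h : Nat.Coprime (Nat.card K) (orderOf t)) {x : H} (hx : x ∈ K)
    (hxt : x ∈ zpowers t) : x = 1 := by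
  have h1 : orderOf x ∣ Nat.card K := K.orderOf_dvd_natCard hx
  have h2 : orderOf x ∣ orderOf t := by
    rw [← Nat.card_zpowers t]; exact (zpowers t).orderOf_dvd_natCard hxt
  exact orderOf_eq_one_iff.mp (Nat.eq_one_of_dvd_coprimes h h1 h2)

/-- **(2.3)** -/
theorem exists_comm (hc : OddCyc H) (hL : L.Normal) (hZ : IsZT L 2 u s) {t : H} (hodd : Odd (orderOf t))
    (hco : Nat.Coprime (Nat.card L) (orderOf t)) {P : Subgroup H} (hP : P ∈ Om L u) (htP : cj t P = P) :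
    ∃ l ∈ L, l * t = t * l ∧ cj l P ≠ P := by
  have hLn : ∀ g x, x ∈ L → g * x * g⁻¹ ∈ L := fun g x hx => hL.conj_mem x hx g
  obtain ⟨Q₀, hQ₀, R, hR, hPQ, hQR, hPR⟩ := Om.exists_three hZ hP
  -- Step 1
  have step1 : ∃ Q ∈ Om L u, Q ≠ P ∧ cj t Q = Q := by
    have h1 : cj t Q₀ ∈ Om L u := Om.conj hL hQ₀ t
    have h2 : cj t Q₀ ≠ P := by
      intro e
      rw [← htP] at e
      have h3 := congrArg (cj t⁻¹) e
      rw [cj_inv_cj, cj_inv_cj] at h3
      exact hPQ h3.symm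
    obtain ⟨x, hx, e⟩ := Om.trans hZ hP h1 hQ₀ h2 hPQ.symm
    rw [cj_cj] at e
    -- the order of `x t`
    have hmod : ∀ k : ℕ, (x * t) ^ k * (t ^ k)⁻¹ ∈ P := by
      intro k
      induction k with
      | zero => rw [pow_zero, pow_zero, inv_one, one_mul]; exact one_mem _
      | succ k ih =>
        have e2 : (x * t) ^ (k + 1) * (t ^ (k + 1))⁻¹ = ((x * t) ^ k * (t ^ k)⁻¹) * (t ^ k * x * (t ^ k)⁻¹) := by
          rw [pow_succ, pow_succ]; group
        rw [e2]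
        refine mul_mem ih ?_
        have h3 : t ^ k ∈ normalizer (P : Set H) := pow_mem (mem_normalizer_iff_cj.mpr htP) k
        exact conj_mem_of_normalizer le_rfl h3 hx
    have hpow : ∀ k : ℕ, cj ((x * t) ^ k) Q₀ = Q₀ := by
      intro k
      exact mem_normalizer_iff_cj.mp (pow_mem (mem_normalizer_iff_cj.mpr e) k)
    have hord : orderOf (x * t) = orderOf t := by
      refine Nat.dvd_antisymm (orderOf_dvd_of_pow_eq_one ?_) (orderOf_dvd_of_pow_eq_one ?_)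
      · have h3 := hmod (orderOf t)
        rw [pow_orderOf_eq_one, inv_one, mul_one] at h3
        exact Om.reg hZ hP hQ₀ hPQ h3 (hpow _)
      · have h3 := hmod (orderOf (x * t))
        rw [pow_orderOf_eq_one, one_mul] at h3
        have h4 := coprime_mem hco (hP.1 h3) (inv_mem (pow_mem (mem_zpowers t) _))
        exact inv_eq_one.mp h4
    have htn : t ∈ normalizer (P : Set H) := mem_normalizer_iff_cj.mpr htP
    obtain ⟨g, hg, hgz⟩ := CycConj.zpowers_conj hc (orderOf t) (P ⊔ zpowers t) t (x * t)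
      (mem_sup_right (mem_zpowers t)) (mul_mem (mem_sup_left hx) (mem_sup_right (mem_zpowers t))) rfl hord hodd
    have hgP : cj g P = P := by
      refine cj_eq_of_mem_normalizer ?_
      have : P ⊔ zpowers t ≤ normalizer (P : Set H) := sup_le le_normalizer (zpowers_le.mpr htn)
      exact this hg
    refine ⟨cj g Q₀, Om.conj hL hQ₀ g, fun e2 => ?_, ?_⟩
    · rw [← hgP] at e2
      have h3 := congrArg (cj g⁻¹) e2
      rw [cj_inv_cj, cj_inv_cj] at h3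
      exact hPQ h3.symm
    · have h3 : g * (x * t) * g⁻¹ ∈ normalizer ((cj g Q₀ : Subgroup H) : Set H) := by
        rw [← cj_normalizer]
        exact conj_mem_cj (mem_normalizer_iff_cj.mpr e)
      have h4 : t ∈ zpowers (g * (x * t) * g⁻¹) := by rw [hgz]; exact mem_zpowers t
      exact mem_normalizer_iff_cj.mp ((zpowers_le.mpr h3) h4)
  obtain ⟨Q, hQ, hQP, htQ⟩ := step1
  -- Step 2
  have step2 : ∃ y ∈ L, cj y P = Q := by
    obtain ⟨R, hR, hRP, hRQ⟩ : ∃ R ∈ Om L u, R ≠ P ∧ R ≠ Q := by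
      by_cases h1 : Q₀ = Q
      · exact ⟨R, hR, hPR.symm, fun e => hQR (h1.trans e.symm)⟩
      · exact ⟨Q₀, hQ₀, hPQ.symm, h1⟩
    obtain ⟨x, hx, e⟩ := Om.trans hZ hR hP hQ hRP.symm hRQ.symm
    exact ⟨x, hR.1 hx, e⟩
  obtain ⟨y, hy, hyQ⟩ := step2
  have htn : t ∈ normalizer (P : Set H) := mem_normalizer_iff_cj.mpr htP
  have h1 : y * t * y⁻¹ ∈ normalizer (Q : Set H) := by
    rw [← hyQ, ← cj_normalizer]
    exact conj_mem_cj htn
  have htLT : t ∈ L ⊔ zpowers t := mem_sup_right (mem_zpowers t)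
  have hyLT : y ∈ L ⊔ zpowers t := mem_sup_left hy
  have hord : orderOf (y * t * y⁻¹) = orderOf t := by
    have := orderOf_injective (MulAut.conj y).toMonoidHom (MulAut.conj y).injective t
    simpa using this
  have hyt2 : y * t * y⁻¹ ∈ L ⊔ zpowers t := mul_mem (mul_mem hyLT htLT) (inv_mem hyLT)
  have hyt : y * t * y⁻¹ ∈ normalizer (Q : Set H) ⊓ (L ⊔ zpowers t) := ⟨h1, hyt2⟩
  obtain ⟨g, hg, hgz⟩ := CycConj.zpowers_conj hc (orderOf t) (normalizer (Q : Set H) ⊓ (L ⊔ zpowers t)) t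
    (y * t * y⁻¹) ⟨mem_normalizer_iff_cj.mpr htQ, htLT⟩ hyt rfl hord hodd
  have hn : g * y ∈ L ⊔ zpowers t := mul_mem hg.2 hyLT
  rw [Subgroup.mem_sup_of_normal_left] at hn
  obtain ⟨l, hl, k, hk, e⟩ := hn
  have hcjk : cj k P = P := cj_eq_of_mem_normalizer ((zpowers_le.mpr htn) hk)
  have hlP : cj l P = Q := by
    have h2 : cj (l * k) P = Q := by
      rw [e, ← cj_cj, hyQ]
      exact cj_eq_of_mem_normalizer hg.1
    rwa [← cj_cj, hcjk] at h2
  refine ⟨l, hl, ?_, by rw [hlP]; exact hQP⟩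
  -- `l` normalises `⟨t⟩`
  have hkt : k * t * k⁻¹ = t := by
    obtain ⟨i, rfl⟩ := mem_zpowers_iff.mp hk
    group
  have h2 : l * t * l⁻¹ ∈ zpowers t := by
    have h3 : g * y * t * (g * y)⁻¹ ∈ zpowers t := by
      rw [← hgz]
      have e2 : g * y * t * (g * y)⁻¹ = g * (y * t * y⁻¹) * g⁻¹ := by group
      rw [e2]; exact mem_zpowers _
    rw [← e] at h3
    have e2 : l * k * t * (l * k)⁻¹ = l * (k * t * k⁻¹) * l⁻¹ := by group
    rwa [e2, hkt] at h3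
  have h3 : l * t * l⁻¹ * t⁻¹ ∈ zpowers t := mul_mem h2 (inv_mem (mem_zpowers t))
  have h4 : l * t * l⁻¹ * t⁻¹ ∈ L := by
    have e2 : l * t * l⁻¹ * t⁻¹ = l * (t * l⁻¹ * t⁻¹) := by group
    rw [e2]
    exact mul_mem hl (hLn _ _ (inv_mem hl))
  have h5 := coprime_mem hco h4 h3
  rw [mul_inv_eq_one, mul_inv_eq_iff_eq_mul] at h5
  exact h5

end Cfsg.Agent.OddCyclic.NatNonab
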