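import Cfsg.Agent.OddCyclic.NatNonab.Abs
import Cfsg.Agent.OddCyclic.CaseASinger
import Cfsg.Agent.OddCyclic.CompSL2Facts
import Cfsg.Agent.OddCyclic.KZeroCongr
import Cfsg.Agent.OddCyclic.JInner
import Cfsg.Agent.GH.L2Aut

/-!
# `(5*)`, (1.9): the type of the component
-/

set_option autoImplicit false
set_option linter.dupNamespace false
set_option linter.unusedSectionVars false

namespace Cfsg.Agent.OddCyclic.NatNonab

open Subgroup Cfsg Cfsg.Agent.ZN Cfsg.Agent.MinSimple.Geo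
open Cfsg.Agent.OddCyclic.T1Defs (OddCyc)
open Cfsg.Agent.OddCyclic.Zass (IsZT)
open Cfsg.Agent.OddCyclic.UniStruct (TameSec)
open Cfsg.Agent.OddCyclic.PumpMain (KZero)
open Cfsg.Agent.SignalizersComponents.Components
open Cfsg.Agent.ZN.Block (conj_mem_of_normalizer conj_mem_of_normalizer' le_normalizer_of_forall
  mem_normalizer_of)

/-- squares of automorphisms of `PSL(2,p)` are inner -/
theorem sq_inner {L : Type*} [Group L] {F : Type*} [Field F] [Fintype F]
    (hp : (Fintype.card F).Prime) (h5 : 5 ≤ Fintype.card F)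
    (e : L ≃* Matrix.ProjectiveSpecialLinearGroup (Fin 2) F) (α : MulAut L) :
    α * α ∈ (MulAut.conj : L →* MulAut L).range := by
  have h2 : (2 : F) ≠ 0 := Cfsg.Agent.GH.L2Aut.two_ne_zero_of_odd (hp.odd_of_ne_two (by omega))
  let R : Cfsg.Agent.GH.L2Aut.Rep F L := Cfsg.Agent.GH.L2Aut.Rep.ofEquiv h2 e
  have h3 : α ∈ R.PGL := by
    rw [R.mem_PGL_iff_fld]
    exact CompSL2Facts.ringEquiv_eq_one (p := Fintype.card F) hp (by rw [Nat.card_eq_fintype_card]) _
  obtain ⟨g, rfl⟩ := R.mem_PGL.1 h3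
  rw [← map_mul, R.gl_mem_inn]
  exact ⟨g.1.det, by rw [← Matrix.det_mul]; rfl⟩

theorem three_dvd_a5 : 3 ∣ Nat.card (alternatingGroup (Fin 5)) := by
  have h1 : 2 * Fintype.card (alternatingGroup (Fin 5)) = Fintype.card (Equiv.Perm (Fin 5)) :=
    two_mul_card_alternatingGroup
  rw [Fintype.card_perm, Fintype.card_fin] at h1
  rw [Nat.card_eq_fintype_card]
  have h2 : Nat.factorial 5 = 120 := by decide
  rw [h2] at h1
  omega

theorem suzuki_of_KZero {K : Type*} [Group K] [Finite K] (h : KZero K) (h3 : ¬ 3 ∣ Nat.card K) :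
    Cfsg.Lie.IsoSuzuki K := by
  rcases h with ⟨F, iF, iF', -, -, ⟨e⟩⟩ | ⟨F, iF, iF', -, -, -, ⟨e⟩⟩ | h | ⟨h, k, hk⟩
  · exfalso
    rw [Nat.card_congr e.toEquiv] at h3
    exact h3 (Cfsg.Agent.ThreePrime.OrderThree.three_dvd_card_psl F)
  · exfalso
    rw [Nat.card_congr e.toEquiv] at h3
    exact h3 (Cfsg.Agent.ThreePrime.OrderThree.three_dvd_card_psl F)
  · exact h
  · exfalso
    apply h3
    obtain ⟨e⟩ := h.cent k hk
    have h1 : Nat.card (centralizer ({k} : Set K)) = Nat.card (Multiplicative (ZMod 2)) *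
        Nat.card (alternatingGroup (Fin 5)) := by
      rw [Nat.card_congr e.toEquiv, Nat.card_prod]
    refine dvd_trans ?_ (Subgroup.card_subgroup_dvd_card (centralizer ({k} : Set K)))
    rw [h1]
    exact dvd_mul_of_dvd_right three_dvd_a5 _

variable {H : Type*} [Group H] [Finite H]

namespace Ab

variable {C A L : Subgroup H} {t : H}

/-- the type of the component -/
theorem two_or_sz (h : Ab C A t) (hL : IsComponent L) (hA : ∃ a ∈ A, a ∉ centralizer (L : Set H))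
    (hK : KZero L) :
    (∃ (F : Type) (_ : Field F) (_ : Fintype F) (f : ℕ), 2 ≤ f ∧ Fintype.card F = 2 ^ f ∧
      Nonempty (L ≃* Matrix.ProjectiveSpecialLinearGroup (Fin 2) F)) ∨ Cfsg.Lie.IsoSuzuki L := by
  have hLn := h.comp_normal hL
  have key : (MulAut.conjNormal t : MulAut L) ∉ (MulAut.conj : L →* MulAut L).range := by
    rintro ⟨l, hl⟩
    refine h.not_inner hL hA l.2 fun x hx => ?_
    have h1 := congrArg (fun φ : MulAut L => ((φ ⟨x, hx⟩ : L) : H)) hl
    simp only [MulAut.conj_apply, MulAut.conjNormal_apply, Subgroup.coe_mul, Subgroup.coe_inv] at h1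
    exact h1.symm
  rcases hK with ⟨F, iF, iF', hp, h5, ⟨e⟩⟩ | hK | hK | ⟨hl, k, hk⟩
  · exfalso
    apply key
    have h1 := sq_inner hp h5 e (MulAut.conjNormal t)
    obtain ⟨j, hj⟩ := h.odd
    have h2 : (MulAut.conjNormal t : MulAut L) = (MulAut.conjNormal t * MulAut.conjNormal t) ^ (j + 1) := by
      rw [← pow_two, ← pow_mul, ← map_pow]
      have e2 : 2 * (j + 1) = (2 * j + 1) + 1 := by ring
      rw [e2, ← hj, pow_succ, pow_orderOf_eq_one, one_mul]
    rw [h2]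
    exact pow_mem h1 _
  · exact Or.inl hK
  · exact Or.inr hK
  · exfalso
    apply key
    obtain ⟨g, hg⟩ := JInner.inner hl k hk (MulAut.conjNormal t : MulAut L)
    exact ⟨g, MulEquiv.ext fun x => (hg x).symm⟩

theorem exists_ZT (h : Ab C A t) (hL : IsComponent L) (hA : ∃ a ∈ A, a ∉ centralizer (L : Set H))
    (hK : KZero L) : ∃ u s, IsZT L 2 u s := by
  rcases h.two_or_sz hL hA hK with ⟨F, iF, iF', f, hf, hF, ⟨e⟩⟩ | h1
  · exact ⟨_, _, CaseASinger.isZT_two hf hF e⟩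
  · obtain ⟨m, hm, hZ⟩ := Zass.isZT_suzuki h1
    exact ⟨_, _, hZ⟩

/-- **the case `q ≥ 8`** -/
theorem exists_comm_not (h : Ab C A t) (hK : ∀ L : Subgroup H, IsComponent L → KZero L) :
    ∃ l ∈ C, l * t = t * l ∧ l ∉ normalizer (A : Set H) := by
  obtain ⟨L, hL, hA⟩ := h.exists_comp
  obtain ⟨u, s, hZ⟩ := h.exists_ZT hL hA (hK L hL)
  exact h.exists_l hL hA hZ (UniStruct.center_eq_bot h.o2 h.oc hL)

/-- **the case `q = 4`** -/
theorem suzuki (h : Ab C A t) (hK : ∀ L : Subgroup H, IsComponent L → KZero L) (h3 : ¬ 3 ∣ Nat.card C) :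
    ∃ L : Subgroup H, L.Normal ∧ L ≤ C ∧ A ≤ L ∧ Cfsg.Lie.IsoSuzuki L := by
  obtain ⟨L, hL, hA⟩ := h.exists_comp
  have hsz : ∀ K : Subgroup H, IsComponent K → Cfsg.Lie.IsoSuzuki K := fun K hKc =>
    suzuki_of_KZero (hK K hKc) fun h4 => h3 (h4.trans (Subgroup.card_dvd_of_le (h.comp_le hKc)))
  refine ⟨L, h.comp_normal hL, h.comp_le hL, ?_, hsz L hL⟩
  refine h.A_le_layer.trans ((layer_le_iff (H := L)).mpr fun K hKc => ?_)
  rw [UniStruct.eq_of_dvd h.oc hKc hL Nat.prime_five (by norm_num) (T1SzComp.five_dvd (hsz K hKc))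
    (T1SzComp.five_dvd (hsz L hL))]

end Ab

end Cfsg.Agent.OddCyclic.NatNonab
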