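import Cfsg.Agent.OddCyclic.NatNonab.Defs

/-!
# `(5*)`: elementary properties of `W₁` and `W₂`
-/

set_option autoImplicit false
set_option linter.dupNamespace false
set_option linter.unusedSectionVars false

namespace Cfsg.Agent.OddCyclic.NatNonab

open Subgroup Cfsg Cfsg.Agent.ZN Cfsg.Agent.MinSimple.Geo
open Cfsg.Agent.OddCyclic.T1Defs (OddCyc)
open Cfsg.Agent.ZN.Block (conj_mem_of_normalizer conj_mem_of_normalizer' le_normalizer_of_forall
  mem_normalizer_of)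

universe u

variable {G : Type u} [Group G]

/-! ### `wp` -/

theorem cj_le_wp {V Z : Subgroup G} {g : G} (hg : g ∈ normalizer (Z : Set G)) : cj g V ≤ wp V Z :=
  le_iSup (fun g : normalizer (Z : Set G) => cj (g : G) V) ⟨g, hg⟩

theorem le_wp (V Z : Subgroup G) : V ≤ wp V Z := by
  have := cj_le_wp (V := V) (Z := Z) (one_mem _)
  rwa [cj_one] at this

theorem wp_le {V Z U : Subgroup G} (h : ∀ g ∈ normalizer (Z : Set G), cj g V ≤ U) : wp V Z ≤ U :=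
  iSup_le fun g => h g g.2

theorem cj_wp_le (g : G) (V Z : Subgroup G) : cj g (wp V Z) ≤ wp (cj g V) (cj g Z) := by
  rw [cj_le_iff]
  refine wp_le fun x hx => ?_
  rw [← cj_le_iff, cj_cj]
  have h1 : g * x = (g * x * g⁻¹) * g := by group
  rw [h1, ← cj_cj]
  refine cj_le_wp ?_
  rw [← cj_normalizer]
  exact conj_mem_cj hx

theorem cj_wp (g : G) (V Z : Subgroup G) : cj g (wp V Z) = wp (cj g V) (cj g Z) := by
  refine le_antisymm (cj_wp_le g V Z) ?_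
  have h1 := cj_wp_le g⁻¹ (cj g V) (cj g Z)
  rw [cj_inv_cj, cj_inv_cj] at h1
  have h2 := cj_mono (g := g) h1
  rwa [cj_cj_inv] at h2

theorem cj_wp_of_mem {V : Subgroup G} {g : G} (hg : g ∈ normalizer (V : Set G)) (Z : Subgroup G) :
    cj g (wp V Z) = wp V (cj g Z) := by
  rw [cj_wp, cj_eq_of_mem_normalizer hg]

theorem wp_cj_of_mem {V Z : Subgroup G} {g : G} (hg : g ∈ normalizer (Z : Set G)) : wp (cj g V) Z = wp V Z := by
  have key : ∀ (V : Subgroup G) (g : G), g ∈ normalizer (Z : Set G) → wp (cj g V) Z ≤ wp V Z := by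
    intro V g hg
    refine wp_le fun x hx => ?_
    rw [cj_cj]
    exact cj_le_wp (mul_mem hx hg)
  refine le_antisymm (key V g hg) ?_
  have h1 := key (cj g V) g⁻¹ (inv_mem hg)
  rwa [cj_inv_cj] at h1

theorem cj_wp_self {V Z : Subgroup G} {g : G} (hg : g ∈ normalizer (Z : Set G)) : cj g (wp V Z) = wp V Z := by
  rw [cj_wp, cj_eq_of_mem_normalizer hg, wp_cj_of_mem hg]

theorem normalizer_le_normalizer_wp (V Z : Subgroup G) :
    normalizer (Z : Set G) ≤ normalizer ((wp V Z : Subgroup G) : Set G) := fun _ hg =>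
  mem_normalizer_iff_cj.mpr (cj_wp_self hg)

theorem conj_mem_wp {V Z : Subgroup G} {g w : G} (hg : g ∈ normalizer (Z : Set G)) (hw : w ∈ wp V Z) :
    g * w * g⁻¹ ∈ wp V Z := by
  rw [← cj_wp_self hg]; exact conj_mem_cj hw

theorem conj_mem_wp' {V Z : Subgroup G} {g w : G} (hg : g ∈ normalizer (V : Set G)) (hw : w ∈ wp V Z) :
    g * w * g⁻¹ ∈ wp V (cj g Z) := by
  rw [← cj_wp_of_mem hg]; exact conj_mem_cj hw

/-- a subgroup of `C(Z)` consisting of elements commuting with `u` modulo `Z` -/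
def cs (Z : Subgroup G) (u : G) : Subgroup G where
  carrier := {w | w ∈ centralizer (Z : Set G) ∧ u * w * u⁻¹ * w⁻¹ ∈ Z}
  mul_mem' := by
    rintro w w' ⟨hw, hw1⟩ ⟨hw', hw1'⟩
    refine ⟨mul_mem hw hw', ?_⟩
    have e : u * (w * w') * u⁻¹ * (w * w')⁻¹ = (u * w * u⁻¹ * w⁻¹) * (w * (u * w' * u⁻¹ * w'⁻¹) * w⁻¹) := by group
    rw [e, ← mem_centralizer_iff.mp hw _ hw1', mul_inv_cancel_right]
    exact mul_mem hw1 hw1'
  one_mem' := ⟨one_mem _, by simp⟩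
  inv_mem' := by
    rintro w ⟨hw, hw1⟩
    refine ⟨inv_mem hw, ?_⟩
    have e : u * w⁻¹ * u⁻¹ * w⁻¹⁻¹ = w⁻¹ * (u * w * u⁻¹ * w⁻¹)⁻¹ * w⁻¹⁻¹ := by group
    rw [e, ← mem_centralizer_iff.mp (inv_mem hw) _ (inv_mem hw1), mul_inv_cancel_right]
    exact inv_mem hw1

theorem mem_cs {Z : Subgroup G} {u w : G} :
    w ∈ cs Z u ↔ w ∈ centralizer (Z : Set G) ∧ u * w * u⁻¹ * w⁻¹ ∈ Z := Iff.rfl

/-! ### coordinates -/

variable {F : Type} [Field F] [CharP F 2] {S V Z₁ Z₂ : Subgroup G} {a b : F → G}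

namespace Co

theorem symm (h : Co V Z₁ Z₂ a b) : Co V Z₂ Z₁ b a where
  a_add := h.b_add
  b_add := h.a_add
  comm := fun x y => (h.comm y x).symm
  mem₁ := h.mem₂
  mem₂ := h.mem₁
  mem := fun g => (h.mem g).trans ⟨fun ⟨x, y, e⟩ => ⟨y, x, e.trans (h.comm x y)⟩,
    fun ⟨x, y, e⟩ => ⟨y, x, e.trans (h.comm y x).symm⟩⟩
  inj := fun x y e => (h.inj y x ((h.comm y x).trans e)).symm

theorem a_zero (h : Co V Z₁ Z₂ a b) : a 0 = 1 := by
  have := h.a_add 0 0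
  rw [add_zero] at this
  exact left_eq_mul.mp this

theorem b_zero (h : Co V Z₁ Z₂ a b) : b 0 = 1 := h.symm.a_zero

theorem a_sq (h : Co V Z₁ Z₂ a b) (x : F) : a x * a x = 1 := by
  rw [← h.a_add, CharTwo.add_self_eq_zero, h.a_zero]

theorem b_sq (h : Co V Z₁ Z₂ a b) (x : F) : b x * b x = 1 := h.symm.a_sq x

theorem a_inv (h : Co V Z₁ Z₂ a b) (x : F) : (a x)⁻¹ = a x := inv_eq_of_mul_eq_one_left (h.a_sq x)

theorem b_inv (h : Co V Z₁ Z₂ a b) (x : F) : (b x)⁻¹ = b x := h.symm.a_inv x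

theorem a_comm (h : Co V Z₁ Z₂ a b) (x y : F) : a x * a y = a y * a x := by
  rw [← h.a_add, ← h.a_add, add_comm]

theorem b_comm (h : Co V Z₁ Z₂ a b) (x y : F) : b x * b y = b y * b x := h.symm.a_comm x y

theorem mul_eq (h : Co V Z₁ Z₂ a b) (x y x' y' : F) :
    (a x * b y) * (a x' * b y') = a (x + x') * b (y + y') := by
  rw [h.a_add, h.b_add]
  calc a x * b y * (a x' * b y') = a x * (b y * a x') * b y' := by group
    _ = a x * (a x' * b y) * b y' := by rw [h.comm]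
    _ = a x * a x' * (b y * b y') := by group

theorem inv_eq' (h : Co V Z₁ Z₂ a b) (x y : F) : (a x * b y)⁻¹ = a x * b y := by
  rw [mul_inv_rev, h.a_inv, h.b_inv, h.comm]

theorem eq_iff (h : Co V Z₁ Z₂ a b) {x y x' y' : F} : a x * b y = a x' * b y' ↔ x = x' ∧ y = y' := by
  constructor
  · intro e
    have h1 : (a x * b y) * (a x' * b y') = 1 := by
      rw [e]
      have := h.mul_eq x' y' x' y'
      rw [this, CharTwo.add_self_eq_zero, CharTwo.add_self_eq_zero, h.a_zero, h.b_zero, one_mul]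
    rw [h.mul_eq] at h1
    obtain ⟨h2, h3⟩ := h.inj _ _ h1
    exact ⟨CharTwo.add_eq_zero.mp h2, CharTwo.add_eq_zero.mp h3⟩
  · rintro ⟨rfl, rfl⟩; rfl

theorem a_inj (h : Co V Z₁ Z₂ a b) {x x' : F} (e : a x = a x') : x = x' :=
  (h.eq_iff.mp (show a x * b 0 = a x' * b 0 by rw [e])).1

theorem b_inj (h : Co V Z₁ Z₂ a b) {x x' : F} (e : b x = b x') : x = x' := h.symm.a_inj e

theorem a_mem (h : Co V Z₁ Z₂ a b) (x : F) : a x ∈ Z₁ := (h.mem₁ _).mpr ⟨x, rfl⟩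

theorem b_mem (h : Co V Z₁ Z₂ a b) (x : F) : b x ∈ Z₂ := (h.mem₂ _).mpr ⟨x, rfl⟩

theorem ab_mem (h : Co V Z₁ Z₂ a b) (x y : F) : a x * b y ∈ V := (h.mem _).mpr ⟨x, y, rfl⟩

theorem a_memV (h : Co V Z₁ Z₂ a b) (x : F) : a x ∈ V := (h.mem _).mpr ⟨x, 0, by rw [h.b_zero, mul_one]⟩

theorem b_memV (h : Co V Z₁ Z₂ a b) (x : F) : b x ∈ V := h.symm.a_memV x

theorem Z₁_le (h : Co V Z₁ Z₂ a b) : Z₁ ≤ V := by
  intro g hg
  obtain ⟨x, rfl⟩ := (h.mem₁ g).mp hg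
  exact h.a_memV x

theorem Z₂_le (h : Co V Z₁ Z₂ a b) : Z₂ ≤ V := h.symm.Z₁_le

theorem sq (h : Co V Z₁ Z₂ a b) {v : G} (hv : v ∈ V) : v * v = 1 := by
  obtain ⟨x, y, rfl⟩ := (h.mem v).mp hv
  nth_rewrite 1 [← h.inv_eq']
  rw [inv_mul_cancel]

theorem inv_eq (h : Co V Z₁ Z₂ a b) {v : G} (hv : v ∈ V) : v⁻¹ = v := inv_eq_of_mul_eq_one_left (h.sq hv)

theorem commV (h : Co V Z₁ Z₂ a b) {v w : G} (hv : v ∈ V) (hw : w ∈ V) : v * w = w * v := by
  obtain ⟨x, y, rfl⟩ := (h.mem v).mp hv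
  obtain ⟨x', y', rfl⟩ := (h.mem w).mp hw
  rw [h.mul_eq, h.mul_eq, add_comm x, add_comm y]

theorem inf_eq (h : Co V Z₁ Z₂ a b) {g : G} (h1 : g ∈ Z₁) (h2 : g ∈ Z₂) : g = 1 := by
  obtain ⟨x, rfl⟩ := (h.mem₁ g).mp h1
  obtain ⟨y, e⟩ := (h.mem₂ _).mp h2
  have h3 : a x * b 0 = a 0 * b y := by rw [h.b_zero, h.a_zero, mul_one, one_mul, e]
  rw [(h.eq_iff.mp h3).1, h.a_zero]

theorem a_eq_one (h : Co V Z₁ Z₂ a b) {x : F} (e : a x = 1) : x = 0 := by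
  rw [← h.a_zero] at e; exact h.a_inj e

theorem b_eq_one (h : Co V Z₁ Z₂ a b) {x : F} (e : b x = 1) : x = 0 := h.symm.a_eq_one e

theorem V_le_C (h : Co V Z₁ Z₂ a b) : V ≤ centralizer (Z₁ : Set G) := fun _ hv =>
  mem_centralizer_iff.mpr fun _ hz => h.commV (h.Z₁_le hz) hv

theorem card_Z₁ [Finite F] (h : Co V Z₁ Z₂ a b) : Nat.card Z₁ = Nat.card F := by
  refine (Nat.card_congr (Equiv.ofBijective (fun x : F => (⟨a x, h.a_mem x⟩ : Z₁)) ⟨?_, ?_⟩)).symm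
  · intro x y e
    exact h.a_inj (congrArg Subtype.val e)
  · rintro ⟨g, hg⟩
    obtain ⟨x, rfl⟩ := (h.mem₁ g).mp hg
    exact ⟨x, rfl⟩

theorem card_V [Finite F] (h : Co V Z₁ Z₂ a b) : Nat.card V = Nat.card F * Nat.card F := by
  rw [← Nat.card_prod]
  refine (Nat.card_congr (Equiv.ofBijective (fun x : F × F => (⟨a x.1 * b x.2, h.ab_mem _ _⟩ : V)) ⟨?_, ?_⟩)).symm
  · rintro ⟨x, y⟩ ⟨x', y'⟩ e
    obtain ⟨h1, h2⟩ := h.eq_iff.mp (congrArg Subtype.val e)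
    exact Prod.ext h1 h2
  · rintro ⟨g, hg⟩
    obtain ⟨x, y, rfl⟩ := (h.mem g).mp hg
    exact ⟨(x, y), rfl⟩

/-- an element centralising `Z₁` and `Z₂` centralises `V` -/
theorem mem_centralizer (h : Co V Z₁ Z₂ a b) {g : G} (h1 : ∀ x, g * a x * g⁻¹ = a x) (h2 : ∀ y, g * b y * g⁻¹ = b y) :
    g ∈ centralizer (V : Set G) := by
  refine mem_centralizer_iff.mpr fun v hv => ?_
  obtain ⟨x, y, rfl⟩ := (h.mem v).mp hv
  have e : g * (a x * b y) * g⁻¹ = a x * b y := by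
    calc g * (a x * b y) * g⁻¹ = (g * a x * g⁻¹) * (g * b y * g⁻¹) := by group
      _ = _ := by rw [h1, h2]
  calc a x * b y * g = (g * (a x * b y) * g⁻¹) * g := by rw [e]
    _ = _ := by group

end Co

/-! ### `W₁` -/

namespace NN

variable [Fintype F] [Finite G]

theorem a_C (h : NN S V Z₁ Z₂ a b) {c : G} (hc : c ∈ centralizer (Z₁ : Set G)) (x : F) : c * a x * c⁻¹ = a x := by
  rw [← mem_centralizer_iff.mp hc _ (h.co.a_mem x), mul_inv_cancel_right]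

theorem mem_C (h : NN S V Z₁ Z₂ a b) {c : G} (hc : ∀ x, c * a x * c⁻¹ = a x) : c ∈ centralizer (Z₁ : Set G) := by
  refine mem_centralizer_iff.mpr fun g hg => ?_
  obtain ⟨x, rfl⟩ := (h.co.mem₁ g).mp hg
  have := hc x
  rw [mul_inv_eq_iff_eq_mul] at this
  exact this.symm

theorem C_le_N : centralizer (Z₁ : Set G) ≤ normalizer (Z₁ : Set G) := centralizer_le_normalizer _

theorem CV_le_C (h : NN S V Z₁ Z₂ a b) : centralizer (V : Set G) ≤ centralizer (Z₁ : Set G) :=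
  centralizer_le h.co.Z₁_le

theorem conj_C {Z : Subgroup G} {g c : G} (hg : g ∈ normalizer (Z : Set G)) (hc : c ∈ centralizer (Z : Set G)) :
    g * c * g⁻¹ ∈ centralizer (Z : Set G) := by
  refine mem_centralizer_iff.mpr fun z hz => ?_
  have hz' := conj_mem_of_normalizer' le_rfl hg hz
  have h1 := mem_centralizer_iff.mp hc _ hz'
  calc z * (g * c * g⁻¹) = g * ((g⁻¹ * z * g) * c) * g⁻¹ := by group
    _ = g * (c * (g⁻¹ * z * g)) * g⁻¹ := by rw [h1]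
    _ = g * c * g⁻¹ * z := by group

theorem W_le_C (h : NN S V Z₁ Z₂ a b) : wp V Z₁ ≤ centralizer (Z₁ : Set G) := by
  refine wp_le fun g hg w hw => ?_
  have h1 := h.co.V_le_C (mem_cj.mp hw)
  have h2 := conj_C hg h1
  have e : g * (g⁻¹ * w * g) * g⁻¹ = w := by group
  rwa [e] at h2

theorem cmm_V (h : NN S V Z₁ Z₂ a b) {v w : G} (hv : v ∈ V) (hw : w ∈ wp V Z₁) : v * w * v⁻¹ * w⁻¹ ∈ Z₁ := by
  have h1 : wp V Z₁ ≤ cs Z₁ v := by
    refine wp_le fun g hg w hw => ?_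
    refine ⟨h.W_le_C (cj_le_wp hg hw), ?_⟩
    have h1 := h.cmm g hg v hv _ (mem_cj.mp hw)
    have e : g * (g⁻¹ * w * g) * g⁻¹ = w := by group
    rwa [e] at h1
  exact (h1 hw).2

theorem comm_W (h : NN S V Z₁ Z₂ a b) {u w : G} (hu : u ∈ wp V Z₁) (hw : w ∈ wp V Z₁) : u * w * u⁻¹ * w⁻¹ ∈ Z₁ := by
  have h1 : wp V Z₁ ≤ cs Z₁ w := by
    refine wp_le fun g hg u hu => ?_
    refine ⟨h.W_le_C (cj_le_wp hg hu), ?_⟩
    have hw' : g⁻¹ * w * g ∈ wp V Z₁ := by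
      have := conj_mem_wp (inv_mem hg) hw
      rwa [inv_inv] at this
    have h2 := h.cmm_V (mem_cj.mp hu) hw'
    have h3 := conj_mem_of_normalizer le_rfl hg (inv_mem h2)
    have e : g * (g⁻¹ * u * g * (g⁻¹ * w * g) * (g⁻¹ * u * g)⁻¹ * (g⁻¹ * w * g)⁻¹)⁻¹ * g⁻¹ = w * u * w⁻¹ * u⁻¹ := by group
    rwa [e] at h3
  have h2 := inv_mem (h1 hu).2
  have e : (w * u * w⁻¹ * u⁻¹)⁻¹ = u * w * u⁻¹ * w⁻¹ := by group
  rwa [e] at h2

theorem W_le_N (h : NN S V Z₁ Z₂ a b) : wp V Z₁ ≤ normalizer (V : Set G) := by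
  refine le_normalizer_of_forall fun w hw v hv => ?_
  have h1 := h.co.Z₁_le (inv_mem (h.cmm_V hv hw))
  have e : w * v * w⁻¹ = (v * w * v⁻¹ * w⁻¹)⁻¹ * v := by group
  rw [e]
  exact mul_mem h1 hv

theorem W_le_NZ (h : NN S V Z₁ Z₂ a b) : wp V Z₁ ≤ normalizer (Z₁ : Set G) := h.W_le_C.trans C_le_N

theorem sq_W (h : NN S V Z₁ Z₂ a b) {w : G} (hw : w ∈ wp V Z₁) : w * w ∈ Z₁ := by
  let A : Subgroup G :=
    { carrier := {w | w ∈ wp V Z₁ ∧ w * w ∈ Z₁}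
      mul_mem' := by
        rintro u w ⟨hu, hu1⟩ ⟨hw, hw1⟩
        refine ⟨mul_mem hu hw, ?_⟩
        have h1 := mem_centralizer_iff.mp (h.W_le_C hw) _ hu1
        have e : u * w * (u * w) = (u * w * u⁻¹ * w⁻¹) * (w * (u * u) * w⁻¹) * (w * w) := by group
        rw [e, ← h1, mul_inv_cancel_right]
        exact mul_mem (mul_mem (h.comm_W hu hw) hu1) hw1
      one_mem' := ⟨one_mem _, by rw [one_mul]; exact one_mem _⟩
      inv_mem' := by
        rintro u ⟨hu, hu1⟩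
        refine ⟨inv_mem hu, ?_⟩
        rw [← mul_inv_rev]
        exact inv_mem hu1 }
  have h1 : wp V Z₁ ≤ A := by
    refine wp_le fun g hg w hw => ⟨cj_le_wp hg hw, ?_⟩
    have h2 := h.co.sq (mem_cj.mp hw)
    have e : w * w = g * (g⁻¹ * w * g * (g⁻¹ * w * g)) * g⁻¹ := by group
    rw [e, h2, mul_one, mul_inv_cancel]
    exact one_mem _
  exact (h1 hw).2

theorem two_W (h : NN S V Z₁ Z₂ a b) : IsPGroup 2 (wp V Z₁) := by
  intro w
  refine ⟨2, Subtype.ext ?_⟩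
  have h1 := h.co.sq (h.co.Z₁_le (h.sq_W w.2))
  change ((w : G)) ^ 4 = 1
  rw [← h1]
  simp only [pow_succ, pow_zero, one_mul, mul_assoc]

theorem W_le_S (h : NN S V Z₁ Z₂ a b) : wp V Z₁ ≤ S :=
  (Block.le_o2 h.two_W h.W_le_NZ (normalizer_le_normalizer_wp V Z₁)).trans
    (Cfsg.Agent.ZN.o2_le_of_sylow h.le h.two h.syl)

end NN

/-! ### root parameters -/

open Classical in
/-- the root parameter of `w` -/
noncomputable def rt (a b : F → G) (w : G) : F :=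
  if h : ∃ t : F, ∀ y, w * b y * w⁻¹ = a (t * y) * b y then h.choose else 0

theorem rt_spec {w : G} (h : ∃ t : F, ∀ y, w * b y * w⁻¹ = a (t * y) * b y) (y : F) :
    w * b y * w⁻¹ = a (rt a b w * y) * b y := by
  rw [rt, dif_pos h]
  exact h.choose_spec y

namespace NN

variable [Fintype F] [Finite G]

theorem rt_eq (h : NN S V Z₁ Z₂ a b) {w : G} (hw : w ∈ wp V Z₁) (y : F) :
    w * b y * w⁻¹ = a (rt a b w * y) * b y := rt_spec (h.root w (h.W_le_S hw) (h.W_le_C hw)) y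

theorem rt_unique (h : NN S V Z₁ Z₂ a b) {w : G} (hw : w ∈ wp V Z₁) {t : F} (ht : w * b 1 * w⁻¹ = a t * b 1) :
    rt a b w = t := by
  have h1 := h.rt_eq hw 1
  rw [mul_one, ht] at h1
  exact ((h.co.eq_iff).mp h1).1.symm

theorem rt_mul (h : NN S V Z₁ Z₂ a b) {u w : G} (hu : u ∈ wp V Z₁) (hw : w ∈ wp V Z₁) :
    rt a b (u * w) = rt a b u + rt a b w := by
  refine h.rt_unique (mul_mem hu hw) ?_
  have h1 := h.rt_eq hw 1
  have h2 := h.rt_eq hu 1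
  rw [mul_one] at h1 h2
  calc u * w * b 1 * (u * w)⁻¹ = u * (w * b 1 * w⁻¹) * u⁻¹ := by group
    _ = (u * a (rt a b w) * u⁻¹) * (u * b 1 * u⁻¹) := by rw [h1]; group
    _ = a (rt a b w) * (a (rt a b u) * b 1) := by rw [h.a_C (h.W_le_C hu), h2]
    _ = a (rt a b u + rt a b w) * b 1 := by rw [← mul_assoc, ← h.co.a_add, add_comm]

theorem rt_eq_zero (h : NN S V Z₁ Z₂ a b) {w : G} (hw : w ∈ wp V Z₁) :
    rt a b w = 0 ↔ w ∈ centralizer (V : Set G) := by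
  constructor
  · intro e
    refine h.co.mem_centralizer (fun x => h.a_C (h.W_le_C hw) x) fun y => ?_
    rw [h.rt_eq hw, e, zero_mul, h.co.a_zero, one_mul]
  · intro hc
    refine h.rt_unique hw ?_
    rw [h.co.a_zero, one_mul, ← mem_centralizer_iff.mp hc _ (h.co.b_memV 1), mul_inv_cancel_right]

theorem rt_inv (h : NN S V Z₁ Z₂ a b) {w : G} (hw : w ∈ wp V Z₁) : rt a b w⁻¹ = rt a b w := by
  have h1 := h.rt_mul (inv_mem hw) hw
  rw [inv_mul_cancel, (h.rt_eq_zero (one_mem _)).mpr (one_mem _)] at h1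
  exact CharTwo.add_eq_zero.mp h1.symm

/-- the value of the commutator of an element of `W₁` with `a x * b y` -/
theorem comm_ab (h : NN S V Z₁ Z₂ a b) {w : G} (hw : w ∈ wp V Z₁) (x y : F) :
    w * (a x * b y) * w⁻¹ = a (x + rt a b w * y) * b y := by
  calc w * (a x * b y) * w⁻¹ = (w * a x * w⁻¹) * (w * b y * w⁻¹) := by group
    _ = a x * (a (rt a b w * y) * b y) := by rw [h.a_C (h.W_le_C hw), h.rt_eq hw]
    _ = _ := by rw [← mul_assoc, ← h.co.a_add]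

/-- **(1.2)** there is a conjugate `V ^ g`, `g ∈ N_G(Z₁)`, inducing all root elements on `V` -/
theorem exists_full (h : NN S V Z₁ Z₂ a b) : ∃ g ∈ normalizer (Z₁ : Set G), ∀ t : F,
    ∃ y, rt a b (g * b y * g⁻¹) = t := by
  obtain ⟨g, hg, v, hv, w, hw, hne⟩ := h.nonab
  refine ⟨g, hg, ?_⟩
  have hgV : ∀ u ∈ V, g * u * g⁻¹ ∈ wp V Z₁ := fun u hu => cj_le_wp hg (conj_mem_cj hu)
  -- `s = g⁻¹ v g` acts on `V` as a nontrivial root element
  have hs : g⁻¹ * v * g ∈ wp V Z₁ := by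
    have := conj_mem_wp (inv_mem hg) (le_wp V Z₁ hv)
    rwa [inv_inv] at this
  have hs0 : rt a b (g⁻¹ * v * g) ≠ 0 := by
    intro e
    apply hne
    have h1 := mem_centralizer_iff.mp ((h.rt_eq_zero hs).mp e) w hw
    calc v * (g * w * g⁻¹) = g * ((g⁻¹ * v * g) * w) * g⁻¹ := by group
      _ = g * (w * (g⁻¹ * v * g)) * g⁻¹ := by rw [h1]
      _ = g * w * g⁻¹ * v := by group
  let θ : F →+ F :=
    { toFun := fun y => rt a b (g * b y * g⁻¹)
      map_zero' := by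
        change rt a b (g * b 0 * g⁻¹) = 0
        rw [h.co.b_zero, mul_one, mul_inv_cancel]
        exact (h.rt_eq_zero (one_mem _)).mpr (one_mem _)
      map_add' := fun y y' => by
        change rt a b (g * b (y + y') * g⁻¹) = rt a b (g * b y * g⁻¹) + rt a b (g * b y' * g⁻¹)
        rw [← h.rt_mul (hgV _ (h.co.b_memV y)) (hgV _ (h.co.b_memV y')), h.co.b_add]
        congr 1
        group }
  have hinj : Function.Injective θ := by
    rw [injective_iff_map_eq_zero]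
    intro y hy
    by_contra hy0
    have h1 : g * b y * g⁻¹ ∈ centralizer (V : Set G) := (h.rt_eq_zero (hgV _ (h.co.b_memV y))).mp hy
    have h2 := mem_centralizer_iff.mp h1 v hv
    have h3 := h.rt_eq hs y
    have h4 : g⁻¹ * v * g * b y * (g⁻¹ * v * g)⁻¹ = b y := by
      calc g⁻¹ * v * g * b y * (g⁻¹ * v * g)⁻¹ = g⁻¹ * (v * (g * b y * g⁻¹)) * v⁻¹ * g := by group
        _ = g⁻¹ * ((g * b y * g⁻¹) * v) * v⁻¹ * g := by rw [h2]
        _ = b y := by group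
    rw [h4] at h3
    have h5 : a (rt a b (g⁻¹ * v * g) * y) = 1 := by
      have : 1 * b y = a (rt a b (g⁻¹ * v * g) * y) * b y := by rw [one_mul]; exact h3
      exact (mul_right_cancel this).symm
    rcases mul_eq_zero.mp (h.co.a_eq_one h5) with e | e
    · exact hs0 e
    · exact hy0 e
  intro t
  exact (Finite.injective_iff_surjective.mp hinj) t

/-- `W₁` induces all root elements -/
theorem exists_rt (h : NN S V Z₁ Z₂ a b) (t : F) : ∃ w ∈ wp V Z₁, rt a b w = t := by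
  obtain ⟨g, hg, h1⟩ := h.exists_full
  obtain ⟨y, hy⟩ := h1 t
  exact ⟨_, cj_le_wp hg (conj_mem_cj (h.co.b_memV y)), hy⟩

/-! ### the symmetric situation -/

/-- the symmetric situation -/
theorem symm (h : NN S V Z₁ Z₂ a b) : ∃ S', NN S' V Z₂ Z₁ b a := by
  obtain ⟨n, hn, hsw⟩ := h.swap
  have ha : ∀ x, n * a x * n⁻¹ = b x := fun x => by
    have := hsw x 0
    rwa [h.co.a_zero, h.co.b_zero, mul_one, one_mul] at this
  have hb : ∀ y, n * b y * n⁻¹ = a y := fun y => by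
    have := hsw 0 y
    rwa [h.co.a_zero, h.co.b_zero, mul_one, one_mul] at this
  have ha' : ∀ x, n⁻¹ * b x * n = a x := fun x => by rw [← ha x]; group
  have hb' : ∀ y, n⁻¹ * a y * n = b y := fun y => by rw [← hb y]; group
  have hZ : cj n Z₁ = Z₂ := by
    ext g
    rw [mem_cj, h.co.mem₁, h.co.mem₂]
    constructor
    · rintro ⟨x, hx⟩
      refine ⟨x, ?_⟩
      rw [← ha x, ← hx]; group
    · rintro ⟨x, rfl⟩
      exact ⟨x, ha' x⟩
  have hN : ∀ g, g ∈ normalizer (Z₂ : Set G) → n⁻¹ * g * n ∈ normalizer (Z₁ : Set G) := by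
    intro g hg
    rw [← hZ, ← cj_normalizer, mem_cj] at hg
    exact hg
  refine ⟨cj n S, h.cyc, h.four, h.co.symm, ?_, ?_, h.two.map _, ?_, ?_, ?_, ?_, ?_, ?_, ?_, ?_⟩
  · refine ⟨n, hn, fun x y => ?_⟩
    rw [← h.co.comm, hsw, h.co.comm]
  · intro l hl
    obtain ⟨k, hk, hk1, hk2⟩ := h.tor l⁻¹ (inv_ne_zero hl)
    refine ⟨k, hk, hk1, fun x y => ?_⟩
    rw [← h.co.comm, hk2, inv_inv, h.co.comm]
  · rw [← hZ, ← cj_normalizer]; exact cj_mono h.le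
  · rw [← hZ, ← cj_normalizer, relIndex_cj]; exact h.syl
  · rw [← cj_eq_of_mem_normalizer hn, ← cj_normalizer]
    exact cj_mono h.le'
  · intro s hs hsC
    have hs' := mem_cj.mp hs
    have hsC' : n⁻¹ * s * n ∈ centralizer (Z₁ : Set G) := by
      refine h.mem_C fun x => ?_
      have h1 := mem_centralizer_iff.mp hsC _ (h.co.b_mem x)
      calc n⁻¹ * s * n * a x * (n⁻¹ * s * n)⁻¹ = n⁻¹ * (s * (n * a x * n⁻¹)) * s⁻¹ * n := by group
        _ = n⁻¹ * (b x * s) * s⁻¹ * n := by rw [ha, h1]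
        _ = n⁻¹ * b x * n := by group
        _ = a x := ha' x
    obtain ⟨t, ht⟩ := h.root _ hs' hsC'
    refine ⟨t, fun y => ?_⟩
    calc s * a y * s⁻¹ = n * ((n⁻¹ * s * n) * (n⁻¹ * a y * n) * (n⁻¹ * s * n)⁻¹) * n⁻¹ := by group
      _ = n * (a (t * y) * b y) * n⁻¹ := by rw [hb', ht]
      _ = a y * b (t * y) := hsw _ _
      _ = _ := h.co.comm _ _
  · intro s hs
    obtain ⟨t, ht⟩ := h.pts _ (mem_cj.mp hs)
    refine ⟨t, fun y => ?_⟩
    obtain ⟨y', hy'⟩ := ht y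
    refine ⟨y', ?_⟩
    calc s * a y * s⁻¹ = n * ((n⁻¹ * s * n) * (n⁻¹ * a y * n) * (n⁻¹ * s * n)⁻¹) * n⁻¹ := by group
      _ = n * (a (t * y') * b y') * n⁻¹ := by rw [hb', hy']
      _ = a y' * b (t * y') := hsw _ _
      _ = _ := h.co.comm _ _
  · intro s hs hss hc
    have h1 : n⁻¹ * s * n ∈ Z₁ := by
      refine h.soc _ (mem_cj.mp hs) ?_ fun t ht => ?_
      · calc n⁻¹ * s * n * (n⁻¹ * s * n) = n⁻¹ * (s * s) * n := by group
          _ = 1 := by rw [hss]; group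
      · have h2 := hc _ (conj_mem_cj (g := n) ht)
        calc t * (n⁻¹ * s * n) = n⁻¹ * ((n * t * n⁻¹) * s) * n := by group
          _ = n⁻¹ * (s * (n * t * n⁻¹)) * n := by rw [h2]
          _ = n⁻¹ * s * n * t := by group
    rw [← hZ]
    exact mem_cj.mpr h1
  · intro g hg v hv w hw
    have hcjV : ∀ v ∈ V, n⁻¹ * v * n ∈ V := fun v hv => conj_mem_of_normalizer' le_rfl hn hv
    have h1 := h.cmm _ (hN g hg) _ (hcjV v hv) _ (hcjV w hw)
    rw [← hZ]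
    refine mem_cj.mpr ?_
    have e : n⁻¹ * (v * (g * w * g⁻¹) * v⁻¹ * (g * w * g⁻¹)⁻¹) * n = n⁻¹ * v * n *
        (n⁻¹ * g * n * (n⁻¹ * w * n) * (n⁻¹ * g * n)⁻¹) * (n⁻¹ * v * n)⁻¹ *
        (n⁻¹ * g * n * (n⁻¹ * w * n) * (n⁻¹ * g * n)⁻¹)⁻¹ := by group
    rw [e]; exact h1
  · obtain ⟨g, hg, v, hv, w, hw, hne⟩ := h.nonab
    have hcjV : ∀ v ∈ V, n * v * n⁻¹ ∈ V := fun v hv => conj_mem_of_normalizer le_rfl hn hv
    refine ⟨n * g * n⁻¹, ?_, n * v * n⁻¹, hcjV v hv, n * w * n⁻¹, hcjV w hw, fun e => hne ?_⟩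
    · rw [← hZ, ← cj_normalizer]; exact conj_mem_cj hg
    · calc v * (g * w * g⁻¹) = n⁻¹ * (n * v * n⁻¹ * (n * g * n⁻¹ * (n * w * n⁻¹) * (n * g * n⁻¹)⁻¹)) * n := by group
        _ = n⁻¹ * (n * g * n⁻¹ * (n * w * n⁻¹) * (n * g * n⁻¹)⁻¹ * (n * v * n⁻¹)) * n := by rw [e]
        _ = g * w * g⁻¹ * v := by group

end NN

end Cfsg.Agent.OddCyclic.NatNonab
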